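import Cfsg.Agent.SM.O8.Defs
import Cfsg.Agent.H372.O8R.Cross
import Cfsg.Agent.H832.O8R.Num
import Cfsg.Agent.H781.Cov9.Res
import Cfsg.Agent.H196.E7.Base

/-!
# SM (S3570), socle `PΩ⁺₈(q)`: the residual class in cross characteristic (helper15, after helper372)
-/

set_option autoImplicit false
set_option linter.unusedSectionVars false

namespace Cfsg.Agent.SM.O8

namespace Cross

open Cfsg Cfsg.Geo Cfsg.Agent.OrdDiv Cfsg.Agent.H436 Cfsg.Agent.H264.FKS Cfsg.Agent.H902
open Cfsg.Agent.H902.Names Cfsg.Agent.H708.O8 Cfsg.Agent.H915.LD Cfsg.Agent.H884.El Cfsg.Agent.H936.List12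
open Cfsg.Agent.H912.Bd Cfsg.Agent.H912.Five Cfsg.Agent.H823.O8S
open Cfsg.Agent.H532.O8S (aut_A_eq card_aut_sz8)
open Cfsg.Agent.H105.O8 (lie_dvd charP_of)
open scoped MatrixGroups Matrix

variable {p a r b s k t : ℕ}

/-- the three clauses -/
def Res (p a r s k N : ℕ) : Prop := ¬ p ^ (6 * a + 1) ∣ N ∧ (s ^ k ∣ N → r ∣ N → p ^ a = 5 ∧ N ∣ 87360) ∧
  ¬ ((p ^ a) ^ 3 ∣ N ∧ (p ^ a) ^ 2 + 1 ∣ 2 * N)

theorem primes {l : ℕ} (hl : l.Prime) (hd : l ∣ 2 ^ 40 * 3 ^ 12 * 5 ^ 2 * 7 * 11 * 13 * 17 * 23) :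
    l = 2 ∨ l = 3 ∨ l = 5 ∨ l = 7 ∨ l = 11 ∨ l = 13 ∨ l = 17 ∨ l = 23 := by
  have k : ∀ {m : ℕ}, m.Prime → l ∣ m → l = m := fun hm h => (Nat.prime_dvd_prime_iff_eq hl hm).1 h
  simp only [hl.dvd_mul] at hd
  rcases hd with ((((((h | h) | h) | h) | h) | h) | h) | h
  · have := k Nat.prime_two (hl.dvd_of_dvd_pow h); omega
  · have := k Nat.prime_three (hl.dvd_of_dvd_pow h); omega
  · have := k Nat.prime_five (hl.dvd_of_dvd_pow h); omega
  all_goals have := k (by norm_num) h; omega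

theorem num (h : Nb p a r b s k t) {N : ℕ} (hM : N ∣ 2 ^ 40 * 3 ^ 12 * 5 ^ 2 * 7 * 11 * 13 * 17 * 23)
    (h2 : p = 2 → ¬ 2 ^ 13 ∣ N) (h13 : 13 ∣ N → (p = 5 ∨ p = 7 ∨ p = 13) ∧ (p = 5 → a = 1 → N ∣ 87360))
    (h17 : 17 ∣ N → N ∣ 4896) : Res p a r s k N := by
  have hp := h.rb.hp
  have ha := h.rb.ha
  have h4 := h.rw.four
  have a2 : p ≤ 3 → 2 ≤ a := fun h3 => by
    by_contra h5
    obtain rfl : a = 1 := by omega
    rw [pow_one] at h4
    omega
  have hr := H196.E7.dvd_sub_one h.rb.prim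
  have hs := H196.E7.dvd_sub_one h.rw.prim
  have hr' := (h.rb.prim.dvd_iff _).2 dvd_rfl
  have hs' := (h.rw.prim.dvd_iff _).2 dvd_rfl
  have pw : ∀ {i j : ℕ}, i ≤ j → p ^ j ∣ N → p ^ i ∣ N := fun h1 h3 => (pow_dvd_pow p h1).trans h3
  refine ⟨fun h1 => ?_, fun h1 h3 => ?_, fun ⟨h1, h3⟩ => ?_⟩
  · have h3 := (pw (by omega : 7 ≤ _) h1).trans hM
    rcases primes hp ((dvd_pow_self p (by norm_num)).trans h3) with rfl | rfl | rfl | rfl | rfl | rfl | rfl | rfl
    · exact h2 rfl (pw (by have := a2 (by norm_num); omega) h1)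
    · exact absurd ((pw (by have := a2 le_rfl; omega : 13 ≤ _) h1).trans hM) (by norm_num)
    all_goals norm_num at h3
  · have h5 := primes h.rb.prim.prime (h3.trans hM)
    have h6 := h.rb.cases
    rcases h.sc with ⟨h7, rfl⟩ | ⟨rfl, rfl⟩ | ⟨rfl, rfl, rfl, rfl⟩
    · exfalso
      rw [pow_one] at h1
      have h8 := primes h.rw.prim.prime (h1.trans hM)
      have h9 := (Dvd.intro a rfl).trans hs
      obtain rfl : s = 13 := by omega
      rcases (h13 h1).1 with rfl | rfl | rfl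
      · have := Nat.le_of_dvd (by norm_num) ((h.rw.prim.dvd_iff 4).1 (by norm_num))
        omega
      · have h10 := Nat.le_of_dvd (by norm_num) hs
        rcases (show a = 1 ∨ a = 2 by omega) with rfl | rfl
        · norm_num at hs'
        · obtain rfl : r = 17 := by omega
          norm_num at hr'
      · exact h.rw.prim.not_dvd dvd_rfl
    · exact absurd (h1.trans hM) (by norm_num)
    · rcases (show r = 13 ∨ r = 17 ∨ r = 23 by omega) with rfl | rfl | rfl
      · exact ⟨rfl, (h13 h3).2 rfl rfl⟩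
      all_goals norm_num at hr'
  · rw [← pow_mul] at h1 h3
    have h5 := (pw (by omega : 3 ≤ _) h1).trans hM
    have h6 : p = 2 ∨ p = 3 := by
      rcases primes hp ((dvd_pow_self p (by norm_num)).trans h5) with rfl | rfl | rfl | rfl | rfl | rfl | rfl | rfl
      · exact Or.inl rfl
      · exact Or.inr rfl
      all_goals norm_num at h5
    have h7 := a2 (by omega)
    have h8 : 13 ≤ r ∧ 1 ≤ b := by
      have := h.rb.cases
      omega
    have h9 : r ∣ N := (h.rb.prim.prime.dvd_mul.1 (((dvd_pow_self r (by omega)).trans h.rb.dvd).trans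
      (mul_comm a 2 ▸ h3))).resolve_left fun h9 => by
        have := Nat.le_of_dvd two_pos h9
        omega
    have h10 := primes h.rb.prim.prime (h9.trans hM)
    have h11 := (Dvd.intro a rfl).trans hr
    rcases (show r = 13 ∨ r = 17 by omega) with rfl | rfl
    · have := (h13 h9).1
      omega
    · have h12 := (pw (by omega : 6 ≤ _) h1).trans (h17 h9)
      rcases h6 with rfl | rfl <;> norm_num at h12

theorem gen (h : Nb p a r b s k t) {N : ℕ} (hM : N ∣ 2 ^ 40 * 3 ^ 12 * 5 ^ 2 * 7 * 11 * 23)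
    (h2 : p = 2 → ¬ 2 ^ 13 ∣ N) : Res p a r s k N :=
  num h (hM.trans (by norm_num)) h2 (fun h1 => absurd (h1.trans hM) (by norm_num))
    fun h1 => absurd (h1.trans hM) (by norm_num)

theorem gen' (h : Nb p a r b s k t) {N : ℕ} (hM : N ∣ 2 ^ 12 * 3 ^ 12 * 5 ^ 2 * 7 * 11 * 23) : Res p a r s k N :=
  gen h (hM.trans (by norm_num)) fun _ h1 => absurd (h1.trans hM) (by norm_num)

theorem fac12 : Nat.factorial 12 ∣ 2 ^ 12 * 3 ^ 12 * 5 ^ 2 * 7 * 11 * 23 := by norm_num [Nat.factorial]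

theorem fac13 : Nat.factorial 13 ∣ 2 ^ 12 * 3 ^ 12 * 5 ^ 2 * 7 * 11 * 13 := by norm_num [Nat.factorial]

theorem eleven {c n : ℕ} (h1 : 2 * c = Nat.factorial 13) (h2 : c ∣ n) (h3 : n * Nat.gcd 2 (5 ^ 1 - 1) ^ 2 =
    (5 ^ 1) ^ 12 * ((5 ^ 1) ^ 2 - 1) * ((5 ^ 1) ^ 4 - 1) ^ 2 * ((5 ^ 1) ^ 6 - 1)) : False := by
  have h4 : 11 ∣ c := by
    norm_num [Nat.factorial] at h1
    omega
  have h5 := (h4.trans h2).mul_right (Nat.gcd 2 (5 ^ 1 - 1) ^ 2)
  rw [h3] at h5
  norm_num at h5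

section
variable {S : Type} [Group S] [Finite S] [IsSimpleGroup S] {B : ℕ}

theorem aut_L (hna : ¬ IsMulCommutative S) {n p f q : ℕ} (hp : p.Prime) (hf : 1 ≤ f) (hq : p ^ f = q) (hn : 2 ≤ n)
    (hn2 : n = 2 → 4 ≤ p ^ f) (h : IsL n q S)
    (hB : 24 * f * ((p ^ f) ^ (n * (n - 1) / 2) * ∏ i ∈ Finset.range (n - 1), ((p ^ f) ^ (i + 2) - 1)) ∣ B) :
    Nat.card (MulAut S) ∣ B := by
  subst hq
  obtain ⟨K, iK, iKf, hK, ⟨e⟩⟩ := h
  refine (lie_dvd hna (.psl n p f) ⟨K, iK, iKf, hK, ⟨e⟩⟩ ?_).trans hB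
  rw [Nat.card_congr e.toEquiv]
  exact psl_real hp hf hK hn hn2

theorem aut_U (hna : ¬ IsMulCommutative S) {n p f q : ℕ} (hp : p.Prime) (hf : 1 ≤ f) (hq : p ^ f = q) (hn : 3 ≤ n)
    (hn2 : ¬ (n = 3 ∧ p ^ f = 2)) (h : IsU n q S)
    (hB : 24 * f * ((p ^ f) ^ (n * (n - 1) / 2) *
      ∏ i ∈ Finset.range (n - 1), (if Even i then (p ^ f) ^ (i + 2) - 1 else (p ^ f) ^ (i + 2) + 1)) ∣ B) :
    Nat.card (MulAut S) ∣ B := by
  subst hq
  obtain ⟨K, iK, iKf, hK, ⟨e⟩⟩ := h
  refine (lie_dvd hna (.psu n p f) ⟨K, iK, iKf, hK, ⟨e⟩⟩ ?_).trans hB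
  rw [Nat.card_congr e.toEquiv]
  exact psu_real hp hf hK hn hn2

theorem aut_S (hna : ¬ IsMulCommutative S) {n p f q : ℕ} (hp : p.Prime) (hf : 1 ≤ f) (hq : p ^ f = q) (hn : 2 ≤ n)
    (hn2 : n = 2 → 3 ≤ p ^ f) (h : IsS n q S)
    (hB : 24 * f * ((p ^ f) ^ (n ^ 2) * ∏ i ∈ Finset.range n, ((p ^ f) ^ (2 * (i + 1)) - 1)) ∣ B) :
    Nat.card (MulAut S) ∣ B := by
  subst hq
  obtain ⟨K, iK, iKf, hK, ⟨e⟩⟩ := h
  refine (lie_dvd hna (.psp n p f) ⟨K, iK, iKf, hK, ⟨e⟩⟩ ?_).trans hB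
  rw [Nat.card_congr e.toEquiv]
  exact psp_real hp hf hK hn hn2

theorem aut_OP (hna : ¬ IsMulCommutative S) {n p f q : ℕ} (hp : p.Prime) (hf : 1 ≤ f) (hq : p ^ f = q) (hn : 4 ≤ n)
    (h : IsOP n q S)
    (hB : 24 * f * ((p ^ f) ^ (n * (n - 1)) *
      (((p ^ f) ^ n - 1) * ∏ i ∈ Finset.range (n - 1), ((p ^ f) ^ (2 * (i + 1)) - 1))) ∣ B) :
    Nat.card (MulAut S) ∣ B := by
  subst hq
  obtain ⟨K, iK, iKf, hK, ⟨e⟩⟩ := h
  refine (lie_dvd hna (.oplus n p f) ⟨K, iK, iKf, hK, ⟨e⟩⟩ ?_).trans hB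
  rw [Nat.card_congr e.toEquiv]
  exact oplus_real hp hf hK hn

theorem aut_spor (hna : ¬ IsMulCommutative S) (hs : IsSporadicGroup S) {x : Grp × ℕ} (hx : x ∈ OrdDiv.spor)
    (hr : OrdDiv.Real x.1 S) (hB : 2 * x.2 ∣ B) : Nat.card (MulAut S) ∣ B := by
  have h1 := OrdDiv.table.spor S x hx hr
  have h2 : Nat.card (Cfsg.Out S) ≤ 2 := H498.SporOut.index_le_two hs
  have h3 : 0 < Nat.card (Cfsg.Out S) := Nat.card_pos
  rw [← H934.OutB.card_out_mul S hna, h1]
  refine (Nat.mul_dvd_mul ?_ (dvd_refl _)).trans hB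
  interval_cases Nat.card (Cfsg.Out S) <;> norm_num

theorem aut_A {m : ℕ} (h5 : 5 ≤ m) (h12 : m ≤ 12) (e : S ≃* alternatingGroup (Fin m)) :
    Nat.card (MulAut S) ∣ 2 ^ 12 * 3 ^ 12 * 5 ^ 2 * 7 * 11 * 23 := by
  by_cases h6 : m = 6
  · subst h6
    rw [Nat.card_congr (MulAut.congr e).toEquiv, H824.ProdLem.card_aut_a6]
    norm_num
  · rw [aut_A_eq h5 h6 e]
    exact (Nat.factorial_dvd_factorial h12).trans fac12

theorem aut_17 (h : IsL 2 17 S) : Nat.card (MulAut S) = 4896 := by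
  obtain ⟨K, iK, iKf, hK, ⟨e⟩⟩ := h
  exact (Nat.card_congr (MulAut.congr e).toEquiv).trans
    (H781.Cov9.card_mulAut_psl (p := 17) (f := 1) (by norm_num) le_rfl hK (by norm_num))

end

variable {F : Type} [Field F] [Fintype F]

theorem cross (hF : Nat.card F = p ^ a) (h : Nb p a r b s k t) {R : Subgroup (T8 F)}
    (S : Subgroup R) [S.Normal] (hC : Subgroup.centralizer (S : Set R) = ⊥) {P : Subgroup (GL H708.O8.I8 F)}
    (hP : IsResidualCore (pre (quadFormPlus 4 F) R) P) (e : S ≃* H915.LD.Soc P) (hL : ¬ IsLieTypeChar p (H915.LD.Soc P))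
    (hk : IsKnownSimple' (H915.LD.Soc P)) : Res p a r s k (Nat.card R) := by
  have := charP_of h.rb.hp h.rb.ha hF
  have hpf := Fact.mk h.rb.hp
  let ix : H708.O8.I8 ≃ Fin 8 := finSumFinEquiv
  obtain ⟨P', hP'⟩ : ∃ P' : Subgroup (GL (Fin 8) F), P' = H936.Reix.rx ix P := ⟨_, rfl⟩
  have hC' : Core P' := by rw [hP']; exact H936.Reix.core_rx ix (core_of_residual hP)
  have e' : H915.LD.Soc P ≃* H915.LD.Soc P' := by rw [hP']; exact H936.Reix.socEquiv ix P
  have hk' := OddHalf.Known.isKnownSimple'_congr e' (core_of_residual hP).nonabelian hk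
  have hL' : ¬ IsLieTypeChar p (H915.LD.Soc P') := fun h => hL (OddHalf.Known.isLieTypeChar_congr e'.symm h)
  have ee : S ≃* H915.LD.Soc P' := e.trans e'
  have hsim : IsSimpleGroup (H915.LD.Soc P') := hC'.simple
  have hna' : ¬ IsMulCommutative (H915.LD.Soc P') := hC'.nonabelian
  have hRd : Nat.card R ∣ Nat.card (MulAut (H915.LD.Soc P')) := by
    rw [← Nat.card_congr (MulAut.congr ee).toEquiv]
    exact dvd_aut S hC
  have key : Nat.card (MulAut (H915.LD.Soc P')) ∣ 2 ^ 12 * 3 ^ 12 * 5 ^ 2 * 7 * 11 * 23 → Res p a r s k (Nat.card R) :=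
    fun h1 => gen' h (hRd.trans h1)
  have key2 : p ≠ 2 → Nat.card (MulAut (H915.LD.Soc P')) ∣ 2 ^ 40 * 3 ^ 12 * 5 ^ 2 * 7 * 11 * 23 →
      Res p a r s k (Nat.card R) := fun h0 h1 => gen h (hRd.trans h1) fun h2 => absurd h2 h0
  have h8 : Fintype.card (Fin 8) = 8 := Fintype.card_fin 8
  rcases list₂ (p := p) (n := 8) (by norm_num) hC' hk' hL' with hc | hc | hc | ⟨hp2, -, hc⟩ | hc
  · obtain ⟨m, h5, h14, h15, -, h12, ⟨f⟩⟩ := hc
    by_cases h13 : m ≤ 12
    · exact key (aut_A h5 h13 f)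
    · obtain rfl : m = 13 := by omega
      obtain rfl : p = 5 := by omega
      rw [aut_A_eq (by norm_num) (by norm_num) f] at hRd
      have h1 := hRd.trans fac13
      refine num h (h1.trans (by norm_num)) (by omega) (fun _ => ⟨Or.inl rfl, fun _ h2 => ?_⟩)
        fun h2 => absurd (h2.trans h1) (by norm_num)
      subst h2
      refine (eleven (c := Nat.card S) ?_ ((Subgroup.card_subgroup_dvd_card S).trans (Subgroup.card_subgroup_dvd_card R))
        (H832.O8R.card_t8 hF)).elim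
      rw [Nat.card_congr (ee.trans f).toEquiv, two_mul_nat_card_alternatingGroup, Nat.card_perm, Nat.card_fin]
  · rcases hc with ⟨q, hq, h1, h2, h3⟩ | ⟨h3, -, h4⟩ | ⟨-, -, h4⟩ | ⟨-, h4, -⟩ | ⟨-, -, -, h4⟩ | ⟨h3, -, h4⟩ |
      ⟨-, h4, -⟩ | ⟨h3, -, h4⟩ | ⟨h3, -, h4⟩
    · simp only [Finset.mem_insert, Finset.mem_singleton] at hq
      rcases hq with rfl | rfl | rfl | rfl | rfl | rfl | rfl | rfl
      · exact key (aut_L hna' (p := 7) (f := 1) (by norm_num) le_rfl (by norm_num) le_rfl (fun _ => by norm_num) h3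
          (by simp only [Finset.prod_range_succ, Finset.prod_range_zero]; norm_num))
      · exact key (aut_L hna' (p := 2) (f := 3) (by norm_num) (by norm_num) (by norm_num) le_rfl
          (fun _ => by norm_num) h3 (by simp only [Finset.prod_range_succ, Finset.prod_range_zero]; norm_num))
      · exact key (aut_L hna' (p := 11) (f := 1) (by norm_num) le_rfl (by norm_num) le_rfl (fun _ => by norm_num) h3
          (by simp only [Finset.prod_range_succ, Finset.prod_range_zero]; norm_num))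
      · obtain ⟨K, iK, iKf, hK, ⟨f⟩⟩ := h3
        have h4 := H464.Sl2.l2_degrees p hC' (K := K) (by omega) (by omega) (by rw [hK]; exact h1) f
          (by rw [h8]; norm_num)
        rw [h8] at h4
        simp [hK] at h4
      · rw [aut_17 h3] at hRd
        exact num h (hRd.trans (by norm_num)) (fun _ h4 => absurd (h4.trans hRd) (by norm_num))
          (fun h4 => absurd (h4.trans hRd) (by norm_num)) fun _ => hRd
      all_goals norm_num at h2
    · obtain ⟨K, iK, iKf, hK, ⟨f⟩⟩ := h4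
      have h5 := (H175.L33.l33 hC' p h3 hK f (by rw [h8]; norm_num)).2.2.2
      rw [h8] at h5
      omega
    · exact key (aut_U hna' (p := 3) (f := 1) (by norm_num) le_rfl (by norm_num) le_rfl (by norm_num) h4
        (by simp [Finset.prod_range_succ]))
    · omega
    · exact key (aut_U hna' (p := 2) (f := 1) (by norm_num) le_rfl (by norm_num) (by norm_num) (by norm_num) h4
        (by simp only [show 4 - 1 = 3 from rfl, Finset.prod_range_succ, Finset.prod_range_zero]
            norm_num [Nat.even_iff]))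
    · exact key2 h3 (aut_U hna' (p := 2) (f := 1) (by norm_num) le_rfl (by norm_num) (by norm_num) (by norm_num) h4
        (by simp only [show 5 - 1 = 4 from rfl, Finset.prod_range_succ, Finset.prod_range_zero]
            norm_num [Nat.even_iff]))
    · omega
    · exact key2 h3 (aut_S hna' (p := 2) (f := 1) (by norm_num) le_rfl (by norm_num) (by norm_num) (by norm_num) h4
        (by simp only [Finset.prod_range_succ, Finset.prod_range_zero]; norm_num))
    · exact key2 h3 (aut_OP hna' (p := 2) (f := 1) (by norm_num) le_rfl (by norm_num) (by norm_num) h4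
        (by simp only [Finset.prod_range_succ, Finset.prod_range_zero]; norm_num))
  · rcases hc with ⟨hp2, -, hc⟩ | ⟨-, h3, -⟩
    · rcases hc with h4 | h4 | ⟨-, h4⟩ | h4 | h4 | h4
      · exact key (aut_L hna' (p := 7) (f := 1) (by norm_num) le_rfl (by norm_num) le_rfl (fun _ => by norm_num) h4
          (by simp only [Finset.prod_range_succ, Finset.prod_range_zero]; norm_num))
      · exact key (aut_L hna' (p := 2) (f := 2) (by norm_num) (by norm_num) (by norm_num) (by norm_num)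
          (by norm_num) h4 (by simp only [Finset.prod_range_succ, Finset.prod_range_zero]; norm_num))
      · exact key (aut_U hna' (p := 2) (f := 1) (by norm_num) le_rfl (by norm_num) (by norm_num) (by norm_num) h4
          (by simp only [show 4 - 1 = 3 from rfl, Finset.prod_range_succ, Finset.prod_range_zero]
              norm_num [Nat.even_iff]))
      · exact key2 hp2 (aut_S hna' (p := 2) (f := 1) (by norm_num) le_rfl (by norm_num) (by norm_num) (by norm_num) h4
          (by simp only [Finset.prod_range_succ, Finset.prod_range_zero]; norm_num))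
      · exact key2 hp2 (aut_OP hna' (p := 2) (f := 1) (by norm_num) le_rfl (by norm_num) (by norm_num) h4
          (by simp only [Finset.prod_range_succ, Finset.prod_range_zero]; norm_num))
      · have h5 := (H937.G24.row hC' h4 p hp2 (by rw [h8]; norm_num)).1
        rw [h8] at h5
        omega
    · omega
  · -- `Sz(8)`
    have h1 := card_aut_sz8 hna' hc
    have hpd : p ∣ Nat.card (H915.LD.Soc P') := by
      by_contra hnd
      exact H30.HTS.core_not_sz8 hC' hnd hc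
    rw [h1.2, h1.1] at hRd
    rw [h1.1] at hpd
    refine num h (hRd.trans (by norm_num)) (fun h2 => absurd h2 hp2) (fun _ => ⟨?_, fun _ _ => hRd⟩)
      fun h2 => absurd (h2.trans hRd) (by norm_num)
    have h2 := H372.O8R.prime_cases h.rb.hp (hpd.mul_left 3)
    have h3 : p ≠ 3 := by
      rintro rfl
      norm_num at hpd
    omega
  · have hsp : IsSporadicGroup (H915.LD.Soc P') := by
      unfold SporC at hc
      unfold IsSporadicGroup
      tauto
    have spor : ∀ {x : Grp × ℕ}, x ∈ OrdDiv.spor → OrdDiv.Real x.1 (H915.LD.Soc P') →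
        2 * x.2 ∣ 2 ^ 12 * 3 ^ 12 * 5 ^ 2 * 7 * 11 * 23 → Res p a r s k (Nat.card R) :=
      fun h2 h3 h4 => key (aut_spor hna' hsp h2 h3 h4)
    rcases hc with hc | hc | hc | hc | hc | hc | hc | hc | hc
    · exact spor (x := (.m11, 7920)) (by simp [OrdDiv.spor]) hc (by norm_num)
    · exact spor (x := (.m12, 95040)) (by simp [OrdDiv.spor]) hc (by norm_num)
    · exact spor (x := (.m22, 443520)) (by simp [OrdDiv.spor]) hc (by norm_num)
    · exact spor (x := (.m23, 10200960)) (by simp [OrdDiv.spor]) hc (by norm_num)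
    · exact spor (x := (.m24, 244823040)) (by simp [OrdDiv.spor]) hc (by norm_num)
    · by_cases h11 : p = 11
      · subst h11
        have h1 := H179.JOne.j1_le12_iso hC' hc (by exact_mod_cast CharP.cast_eq_zero F 11) (by rw [h8]; norm_num)
        rw [h8] at h1
        omega
      · exact (H659.J1.not_core hC' hc p h11 (by rw [h8]; norm_num)).elim
    · exact spor (x := (.j2, 604800)) (by simp [OrdDiv.spor]) hc (by norm_num)
    · have h1 := (H95.JT.j3 p hC' hc (by rw [h8]; norm_num)).2.1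
      rw [h8] at h1
      omega
    · obtain ⟨f⟩ := hc
      by_cases h3 : p = 3
      · subst h3
        have h1 := (H878.Sz.core_Suz_three hC' f (by rw [h8]; norm_num)).1
        rw [h8] at h1
        omega
      · have h1 := (H878.Sz.core_Suz hC' f (by rw [h8]; norm_num) p h3).1
        rw [h8] at h1
        omega

end Cross

/-- **residual class, cross characteristic** -/
theorem boxCross : BoxCross := fun _ _ _ _ _ _ _ _ _ _ hF hN _ S _ h hL hk =>
  have := h.nrm
  h.iso.elim fun e => Cross.cross hF hN S h.cen h.core e hL hk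

end Cfsg.Agent.SM.O8
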