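import Cfsg.Agent.SM.O8.Defs
import Cfsg.Agent.H683.O8R.FourOf
import Cfsg.Agent.H679.O8R.Three
import Cfsg.Agent.H372.O8R.Ord
import Cfsg.Agent.H832.O8R.Num

/-!
# SM (S3570), socle `PΩ⁺₈(q)`, `q ≥ 4`: `r₄` divides the order of both factors (helper18)
-/

set_option autoImplicit false
set_option linter.unusedSectionVars false

namespace Cfsg.Agent.SM.O8

open Module QuadraticMap Cfsg Cfsg.Geo Cfsg.Agent.LieClassical.OrthCore Cfsg.Agent.H955 Cfsg.Agent.H954.TSing
open Cfsg.Agent.LieClassical.OmegaReindex Cfsg.Agent.OrdDiv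
open Cfsg.Agent.H951 (fx cm Inv)
open Cfsg.Agent.H884.El
open Cfsg.Agent.H708.O8 (I8 T8 RB)
open Cfsg.Agent.H436 (Prim)
open Cfsg.Agent.H823.O8S Cfsg.Agent.H823.O8R
open Cfsg.Agent.SM.Ex78 (Pd)
open scoped MatrixGroups Matrix

namespace G6

variable {F : Type} [Field F] [Fintype F] {p a r b s k t : ℕ} {R : Subgroup (T8 F)}

/-! ### the numbers -/

theorem pp4 (h : Nb p a r b s k t) : PP (p ^ a) 4 r := by
  refine PP.of_pow ?_ h.rb.ha
  rw [mul_comm]
  exact prim_pp h.rb.hp.one_le h.rb.prim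

theorem r5 (h : Nb p a r b s k t) (h5 : p ^ a = 5) : r = 13 := by
  have h1 := pp4 h
  rw [h5] at h1
  have h2 : r ∣ 5 ^ 4 - 1 := (h1.dvd_iff (by norm_num) 4).2 dvd_rfl
  have h3 := h1.lt (by norm_num)
  have h4 : r ∣ 2 ^ 4 * 3 * 13 := h2
  have hr := h1.prime
  rcases hr.dvd_mul.1 h4 with h6 | h6
  · rcases hr.dvd_mul.1 h6 with h7 | h7
    · have := Nat.le_of_dvd (by norm_num) (hr.dvd_of_dvd_pow h7)
      omega
    · have := Nat.le_of_dvd (by norm_num) h7
      omega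
  · exact (Nat.prime_dvd_prime_iff_eq hr (by norm_num)).1 h6

theorem t5 (h : Nb p a r b s k t) (h5 : p ^ a = 5) : t = 31 := by
  have h1 := h.t
  rw [h5] at h1
  have h2 : t ∣ 5 ^ 3 - 1 := (h1.dvd_iff (by norm_num) 3).2 dvd_rfl
  have h3 := h1.lt (by norm_num)
  have h4 : t ∣ 2 ^ 2 * 31 := h2
  have hr := h1.prime
  rcases hr.dvd_mul.1 h4 with h6 | h6
  · have := Nat.le_of_dvd (by norm_num) (hr.dvd_of_dvd_pow h6)
    omega
  · exact (Nat.prime_dvd_prime_iff_eq hr (by norm_num)).1 h6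

theorem cop_sub (hp : p.Prime) {m : ℕ} (hm : 1 ≤ m) : Nat.Coprime p (p ^ m - 1) := by
  rw [hp.coprime_iff_not_dvd]
  intro hd
  have h3 := (Nat.dvd_sub_iff_right (Nat.one_le_pow _ _ hp.pos) (dvd_pow_self p (by omega : m ≠ 0))).1 hd
  exact hp.one_lt.ne' (Nat.dvd_one.1 h3)

theorem cop_add (hp : p.Prime) {m : ℕ} (hm : 1 ≤ m) : Nat.Coprime p (p ^ m + 1) := by
  rw [hp.coprime_iff_not_dvd]
  intro hd
  have h2 := (Nat.dvd_add_right (dvd_pow_self p (by omega : m ≠ 0))).1 hd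
  exact hp.one_lt.ne' (Nat.dvd_one.1 h2)

theorem cop_gcd {q e x : ℕ} (h : PP q e x) (he : 2 ≤ e) (n : ℕ) : Nat.Coprime x (Nat.gcd 2 n) :=
  Nat.Coprime.coprime_dvd_right (Nat.gcd_dvd_left 2 n) (Nat.coprime_two_right.2 (h.odd he))

/-- the parts of the order of `PΩ⁺₈(q)` -/
theorem parts (hF : Nat.card F = p ^ a) (h : Nb p a r b s k t) :
    p ^ (12 * a) ∣ Nat.card (T8 F) ∧ r ^ (2 * b) ∣ Nat.card (T8 F) ∧ s ^ k ∣ Nat.card (T8 F) ∧ t ∣ Nat.card (T8 F) := by
  have hp := h.rb.hp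
  have ha := h.rb.ha
  have hc := H832.O8R.card_t8 hF
  have hsix : (p ^ a) ^ 6 - 1 = (p ^ (3 * a) + 1) * (p ^ (3 * a) - 1) := by
    rw [← pow_mul, show a * 6 = 3 * a * 2 from by ring, pow_mul]
    exact Nat.sq_sub_sq (p ^ (3 * a)) 1
  have hfour : (p ^ a) ^ 4 - 1 = (p ^ (2 * a) + 1) * (p ^ (2 * a) - 1) := by
    rw [← pow_mul, show a * 4 = 2 * a * 2 from by ring, pow_mul]
    exact Nat.sq_sub_sq (p ^ (2 * a)) 1
  refine ⟨?_, ?_, ?_, ?_⟩
  · have h1 : p ^ (12 * a) ∣ Nat.card (T8 F) * (Nat.gcd 2 (p ^ a - 1)) ^ 2 := by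
      rw [hc, ← pow_mul, mul_comm a 12, mul_assoc, mul_assoc]
      exact dvd_mul_right _ _
    refine Nat.Coprime.dvd_of_dvd_mul_right (Nat.Coprime.pow _ _ ?_) h1
    exact Nat.Coprime.coprime_dvd_right (Nat.gcd_dvd_right 2 _) (cop_sub hp ha)
  · have h1 : r ^ (2 * b) ∣ Nat.card (T8 F) * (Nat.gcd 2 (p ^ a - 1)) ^ 2 := by
      rw [hc, hfour, mul_comm 2 b, pow_mul]
      exact ((pow_dvd_pow_of_dvd (h.rb.dvd.mul_right _) 2).mul_left _).mul_right _
    exact Nat.Coprime.dvd_of_dvd_mul_right (Nat.Coprime.pow _ _ (cop_gcd (pp4 h) (by norm_num) _)) h1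
  · have h1 : s ^ k ∣ Nat.card (T8 F) * (Nat.gcd 2 (p ^ a - 1)) ^ 2 := by
      rw [hc, hsix]
      exact (h.rw.dvd.mul_right _).mul_left _
    exact Nat.Coprime.dvd_of_dvd_mul_right (Nat.Coprime.pow _ _ (cop_gcd h.rw.pp (by norm_num) _)) h1
  · have h1 : t ∣ Nat.card (T8 F) * (Nat.gcd 2 (p ^ a - 1)) ^ 2 := by
      rw [hc]
      exact ((h.t.dvd_iff (Nat.one_le_pow _ _ hp.pos) 6).2 (by norm_num)).mul_left _
    exact Nat.Coprime.dvd_of_dvd_mul_right (Nat.Coprime.pow_right _ (cop_gcd h.t (by norm_num) _)) h1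

/-- groups with noncyclic Sylow `r`-subgroups -/
theorem four_dvd (hKn : Kn) (hF : Nat.card F = p ^ a) (h : Nb p a r b s k t) (hR : R ≠ ⊤)
    (hd : r ^ (b + 1) ∣ Nat.card R) : Nat.card R ∣ 8 * (p ^ a) ^ 4 * ((p ^ a) ^ 8 - 1) ^ 4 := by
  have h2 : (p ^ a) ^ 4 - 1 ∣ (p ^ a) ^ 8 - 1 := by
    have h4 := Nat.sub_dvd_pow_sub_pow ((p ^ a) ^ 4) 1 2
    rwa [one_pow, ← pow_mul (p ^ a) 4 2] at h4
  rcases H683.O8R.card_four hKn hF h.rb h.rw.four hR hd with h3 | h3
  · refine h3.trans ?_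
    obtain ⟨c, hc⟩ := h2
    rw [hc]
    exact ⟨c ^ 4, by ring⟩
  · refine h3.trans ?_
    rw [← pow_mul (p ^ a) 2 4]
    exact ⟨2 * ((p ^ a) ^ 8 - 1) ^ 2, by ring⟩

theorem not_dvd_four {q e x : ℕ} (hq : 1 ≤ q) (h : PP q e x) (he : 2 ≤ e) (h8 : ¬ e ∣ 8) :
    ¬ x ∣ 8 * q ^ 4 * (q ^ 8 - 1) ^ 4 := by
  intro hd
  have hx := h.prime
  rcases hx.dvd_mul.1 hd with h1 | h1
  · rcases hx.dvd_mul.1 h1 with h2 | h2
    · have h3 : x ∣ 2 ^ 3 := h2
      have h4 := Nat.le_of_dvd (by norm_num) (hx.dvd_of_dvd_pow h3)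
      have := h.lt (by omega)
      omega
    · exact h.not_dvd (by omega) (hx.dvd_of_dvd_pow h2)
  · exact h8 ((h.dvd_iff hq 8).1 (hx.dvd_of_dvd_pow h1))

/-! ### the geometric classes -/

/-- (G6) with a second large prime -/
theorem g6x (hF : Nat.card F = p ^ a) (h : RW p a s k) (hd : s ∣ Nat.card R) {d x : ℕ} (hx : PP (Nat.card F) d x)
    (hd2 : 2 ≤ d) (hx10 : 10 ≤ x) (hxR : x ∣ Nat.card R) :
    FixV R ∨ FixP R ∨ FixJ R ∨ InOrthogonalResidualClass (pre (quadFormPlus 4 F) R) := by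
  have hne : Nonempty I8 := ⟨Sum.inl 0⟩
  have hfin : Finite (GL I8 F) := inferInstance
  obtain ⟨H, hHR⟩ : ∃ H, H = pre (quadFormPlus 4 F) R := ⟨_, rfl⟩
  have hH : H ≤ isometryGroup F (quadFormPlus 4 F) := by
    rw [hHR]
    exact H884.El.pre_le (Q := quadFormPlus 4 F) (M := R)
  have hH' : H ≤ isometryGroup F (⇑(quadPlus 4 F)) := by rw [coe_quadPlus]; exact hH
  have hs : PP (Nat.card F) 6 s := by rw [hF]; exact h.pp
  have hsH : s ∣ Nat.card H := by
    rw [hHR]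
    exact hd.trans card_dvd_pre
  have hxH : x ∣ Nat.card H := by
    rw [hHR]
    exact hxR.trans card_dvd_pre
  obtain ⟨z, hzH, hziso, hzs, hz1⟩ := exists_elt hH' hs (by norm_num) hsH
  have hz : Six z s := ⟨hs, hzs, hz1, by rw [← coe_quadPlus]; exact hziso.iso⟩
  obtain ⟨hz2, hz0⟩ := hz.plane
  have h7 : 6 < s := hs.lt (by norm_num)
  have hND : IsNondegenerateQuadraticForm (⇑(quadPlus 4 F)) :=
    Cfsg.Agent.H884.OddForm.isNondegenerate_of_nondeg (quadPlus 4 F) (nondeg_iff.2 quadPlus_nondegenerate)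
  rw [← hHR]
  unfold FixV FixP FixJ
  rw [← hHR]
  by_cases hirr : ActsIrreducibly (matrixSet H)
  swap
  · rcases Cfsg.Agent.H925.reducible_cases hND hH' hirr with
      ⟨W, hW0, hWs, hHW⟩ | ⟨W, hW0, hWn, hdW, hHW⟩ | ⟨-, v, hv, hHW⟩
    · exfalso
      have h1 : W ≤ fx (lin z) := hz.isoQ.ts_le (nondeg_iff.2 quadPlus_nondegenerate) (lin_ne_one hz.ne) hz.pp
        hz.data.2.1 (inv_of_mem (hHW hzH)) hWs
      apply hW0
      rw [Submodule.eq_bot_iff]
      intro w hw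
      refine hz0 w (h1 hw) ?_
      have h2 := hWs w hw
      rwa [coe_quadPlus] at h2
    · obtain ⟨n, hn⟩ : ∃ n, n = finrank F ↥W := ⟨_, rfl⟩
      have hdW' : 2 * n ≤ 8 := by
        rw [hn]
        exact hdW.trans (le_of_eq card_I8)
      have h1 : W ≤ fx (lin z) := by
        rcases hz.data.2.2.1 W (inv_of_mem (hHW hzH)) with h1 | h1
        · exact h1
        · exfalso
          have h2 := Submodule.finrank_mono h1
          rw [hz.data.2.1, ← hn] at h2
          omega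
      have h2 := Submodule.finrank_mono h1
      rw [hz2, ← hn] at h2
      have h3 : n ≠ 0 := fun h => hW0 (Submodule.finrank_eq_zero.1 (hn.symm.trans h))
      by_cases hW1 : finrank F W = 1
      · left
        obtain ⟨v, hv0, hspan⟩ := finrank_eq_one_iff'.1 hW1
        have hWs : W = Submodule.span F {(v : I8 → F)} := by
          apply le_antisymm
          · intro w hw
            obtain ⟨c, hc⟩ := hspan ⟨w, hw⟩
            exact Submodule.mem_span_singleton.2 ⟨c, congrArg Subtype.val hc⟩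
          · rw [Submodule.span_singleton_le_iff_mem]
            exact v.2
        refine ⟨v, fun h0 => hv0 (Subtype.ext (hz0 _ (h1 v.2) h0)), ?_⟩
        rw [← hWs]
        exact le_SW_of_stab hHW
      · right; left
        refine ⟨W, ?_, fun w hw h0 => hz0 w (h1 hw) h0, le_SW_of_stab hHW⟩
        rw [← hn] at hW1 ⊢
        omega
    · left
      refine ⟨v, ?_, le_SW_of_stab hHW⟩
      rwa [coe_quadPlus] at hv
  rcases Cfsg.Agent.H925.orth_irreducible_fine (by rw [card_I8]; norm_num) hND hH' hirr with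
    ⟨t', k', D, htk, hD, hHD, -⟩ | ⟨k', D, hk, hD, -, hHD⟩ | ⟨s', K, hs', hsn, hK, hKa, hHK⟩ |
    ⟨n₁, n₂, e, P, -, -, -, h1, h2, h12, -, -, -, -, hHT⟩ | ⟨F₁, s', B, -, -, hs', hcard, -, -, hHF⟩ |
    ⟨s', m, R', hRH, -, hHR', habs, hR', -, hm, hsm, -, ht', -⟩ | ⟨k', t', e, P, E, hkt, hW⟩ | hS
  · -- (C2a)
    exfalso
    rw [card_I8] at htk
    have h2t := hD.decomp.decomp.two_le
    have hkd : k' < 6 := by
      by_contra hcon
      push Not at hcon
      have := Nat.mul_le_mul h2t hcon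
      omega
    have hrt := decomp_le hD.decomp.decomp hHD hs hkd hsH
    have hk1 : k' = 1 := by
      have h3 : k' < 2 := by
        by_contra hcon
        push Not at hcon
        have := Nat.mul_le_mul hrt hcon
        omega
      have := hD.decomp.decomp.pos
      omega
    subst hk1
    have := decomp_le hD.decomp.decomp hHD hx (by omega) hxH
    omega
  · exfalso
    rw [card_I8] at hk
    have := decomp_le hD hHD hs (by omega) hsH
    omega
  · -- (C3)
    right; right; left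
    rw [card_I8] at hsn
    have hs2 : s' = 2 := by
      have h3 : s' ∣ 2 ^ 3 := by norm_num; exact hsn
      exact (Nat.prime_dvd_prime_iff_eq hs' Nat.prime_two).1 (hs'.dvd_of_dvd_pow h3)
    subst hs2
    refine fixJ_of_field hH hirr hs hsH hK ?_ hHK
    rw [← coe_quadPlus]
    exact hKa
  · exact absurd (kill_tensor e P hHT h1 h2 h12 hs (by rw [card_I8]; norm_num) hsH) id
  · have hrp : PP p (a * 6) s := by
      rw [mul_comm]
      exact prim_pp h.hp.one_le h.prim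
    exact absurd (kill_subfield hHF hs' hcard h.hp hF hrp (by rw [card_I8]; norm_num) (by norm_num) hsH) id
  · -- (C6)
    exfalso
    have h3 := symp_le hHR' habs hR' hm hsm ht' hx hd2 hxH
    rw [card_I8] at h3
    omega
  · exact absurd (kill_wreath hW hkt hs (by rw [card_I8]; norm_num) hsH) id
  · exact Or.inr (Or.inr (Or.inr hS))

/-- **(G6)** for `q ≥ 4` -/
theorem g6w (hF : Nat.card F = p ^ a) (h : Nb p a r b s k t) (hd : s ^ k ∣ Nat.card R)
    (hx : r ∣ Nat.card R ∨ t ∣ Nat.card R) :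
    FixV R ∨ FixP R ∨ FixJ R ∨ InOrthogonalResidualClass (pre (quadFormPlus 4 F) R) := by
  by_cases h5 : p ^ a = 5
  · have hs : s ∣ Nat.card R := (dvd_pow_self s (by have := h.rw.hk; omega)).trans hd
    rcases hx with hx | hx
    · exact g6x hF h.rw hs (d := 4) (by rw [hF]; exact pp4 h) (by norm_num) (by rw [r5 h h5]; norm_num) hx
    · exact g6x hF h.rw hs (d := 3) (by rw [hF]; exact h.t) (by norm_num) (by rw [t5 h h5]; norm_num) hx
  · refine g6 hF ⟨h.rw.hp, h.rw.ha, h.rw.four, h5, h.rw.prim, h.rw.dvd, ?_⟩ hd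
    rcases h.sc with h1 | h1 | ⟨rfl, rfl, -⟩
    · exact Or.inl h1
    · exact Or.inr h1
    · exact absurd (pow_one 5) h5

/-- the stabiliser of an anisotropic plane has order prime to `t` -/
theorem not_fixP (hF : Nat.card F = p ^ a) (h : Nb p a r b s k t) (hP : FixP R) : ¬ t ∣ Nat.card R := by
  obtain ⟨W, hW, hW0, hle⟩ := hP
  intro ht
  have hq : 1 ≤ p ^ a := Nat.one_le_pow _ _ h.rb.hp.pos
  have h1 := (ht.trans card_dvd_pre).trans ((Dvd.intro_left _ rfl).trans ((H372.O8R.two_mul_dvd hW hW0 hle).trans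
      (H372.O8R.card_StO_dvd H372.O8R.nd_Q8 (H372.O8R.nondeg_W hW hW0))))
  rw [H372.O8R.card_O_W hF hW hW0, H372.O8R.card_O_perp hF hW hW0] at h1
  have hx := h.t.prime
  have h3 := h.t.lt (by norm_num)
  have h2 : ¬ t ∣ 2 := fun h4 => by
    have := Nat.le_of_dvd (by norm_num) h4
    omega
  have h4 : ∀ i, ¬ 3 ∣ i → ¬ t ∣ (p ^ a) ^ i - 1 := fun i hi h5 => hi ((h.t.dvd_iff hq i).1 h5)
  rcases hx.dvd_mul.1 h1 with h5 | h5
  · rcases hx.dvd_mul.1 h5 with h6 | h6
    · exact h2 h6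
    · refine h4 2 (by norm_num) (h6.trans ?_)
      rw [show (p ^ a) ^ 2 - 1 = (p ^ a) ^ 2 - 1 ^ 2 by rw [one_pow], Nat.sq_sub_sq]
      exact dvd_mul_right _ _
  rcases hx.dvd_mul.1 h5 with h5 | h5
  · exact h2 h5
  rcases hx.dvd_mul.1 h5 with h5 | h5
  swap
  · exact h4 4 (by norm_num) h5
  rcases hx.dvd_mul.1 h5 with h5 | h5
  · rcases hx.dvd_mul.1 h5 with h5 | h5
    · exact h.t.not_dvd (by norm_num) (hx.dvd_of_dvd_pow h5)
    · exact h4 2 (by norm_num) h5
  · have h6 : t ∣ (p ^ a) ^ 3 - 1 := (h.t.dvd_iff hq 3).2 dvd_rfl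
    have h7 : (p ^ a) ^ 3 + 1 = ((p ^ a) ^ 3 - 1) + 2 := by
      have := Nat.one_le_pow 3 (p ^ a) hq
      omega
    rw [h7] at h5
    exact h2 ((Nat.dvd_add_right h6).1 h5)

/-- a field of order `q²` is not normalised by a group of order divisible by `t` -/
theorem not_fixJ (hF : Nat.card F = p ^ a) (h : Nb p a r b s k t) (hJ : FixJ R) : ¬ t ∣ Nat.card R := by
  intro ht
  obtain ⟨J, c, d, f, hH⟩ := hJ
  have hfin : Finite (GL I8 F) := inferInstance
  have hQ : Nondeg (quadPlus 4 F) := nondeg_iff.2 quadPlus_nondegenerate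
  have hH' : pre (quadFormPlus 4 F) R ≤ isometryGroup F (⇑(quadPlus 4 F)) := by
    rw [coe_quadPlus]
    exact H884.El.pre_le (Q := quadFormPlus 4 F) (M := R)
  have hpp : PP (Nat.card F) 3 t := by rw [hF]; exact h.t
  obtain ⟨g, hgH, hiso, hgt, hg1⟩ := exists_elt hH' hpp (by norm_num) (ht.trans card_dvd_pre)
  have hodd : Odd t := hpp.odd (by norm_num)
  refine hiso.no_quadratic hQ (lin_ne_one hg1) hpp (by decide) le_rfl ?_ (J := J) ?_ ?_
  · rw [finrank8]; norm_num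
  · intro v
    exact (comm_of_odd f (hH hgH) hodd hgt v).symm
  · intro W hW
    exact fld_even f hW

/-- `r` divides the order of `PSp₆(q)` and of `Ω₇(q)` -/
theorem dvd_sp6 (hp : p.Prime) (hr : PP (p ^ a) 4 r) {S : Type} [Group S] (hS : Sp6 p a S) : r ∣ Nat.card S := by
  have hq : 1 ≤ p ^ a := Nat.one_le_pow _ _ hp.pos
  have h4 : r ∣ (p ^ a) ^ (3 ^ 2) * prB (p ^ a) 3 := by
    refine Dvd.dvd.mul_left (((hr.dvd_iff hq 4).2 dvd_rfl).trans ?_) _
    simp only [prB, List.range_succ, List.range_zero, List.nil_append, List.map_append, List.map_cons, List.map_nil,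
      List.prod_append, List.prod_cons, List.prod_nil, mul_one]
    exact (dvd_mul_left _ _).mul_right _
  rcases hS with ⟨K, i1, i2, hK, ⟨e⟩⟩ | ⟨hp2, K, i1, i2, hK, ⟨e⟩⟩
  · have h1 := H436.psp_eq (F := K) (m := 3) (by norm_num)
    change Nat.gcd 2 (Fintype.card K - 1) * Nat.card (PSp 3 K) = Fintype.card K ^ (3 ^ 2) * prB (Fintype.card K) 3 at h1
    rw [hK] at h1
    rw [← h1] at h4
    rw [Nat.card_congr e.toEquiv]
    exact (cop_gcd hr (by norm_num) _).dvd_of_dvd_mul_left h4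
  · have ho : Odd (Fintype.card K) := by
      rw [hK]
      exact (hp.odd_of_ne_two hp2).pow
    have h2 := H436.oodd_eq (F := K) (m := 3) le_rfl ho
    change 2 * Nat.card (POmega K (quadFormOdd 3 K)) = Fintype.card K ^ (3 ^ 2) * prB (Fintype.card K) 3 at h2
    rw [hK] at h2
    rw [← h2] at h4
    rw [Nat.card_congr e.toEquiv]
    exact (Nat.coprime_two_right.2 (hr.odd (by norm_num))).dvd_of_dvd_mul_left h4

/-- the residual class, when `r` does not divide the order -/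
theorem not_res (hKn : Kn) (hC : BoxCross) (hF : Nat.card F = p ^ a) (h : Nb p a r b s k t) (hR : R ≠ ⊤)
    (hs : s ^ k ∣ Nat.card R) (hr : ¬ r ∣ Nat.card R) (hpR : p ^ (6 * a + 1) ∣ Nat.card R) :
    ¬ InOrthogonalResidualClass (pre (quadFormPlus 4 F) R) := by
  rintro ⟨P, hP, -⟩
  have hp := h.rb.hp
  have ha := h.rb.ha
  obtain ⟨S, hSn, hS, hna, hCe, ⟨e⟩⟩ := H264.FKS.exists_res_plus (n := 4) le_rfl hP
  have hsR : s ∣ Nat.card R := (dvd_pow_self s (by have := h.rw.hk; omega)).trans hs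
  have h3 : 3 * a + 1 < p ^ (3 * a + 1) := Nat.lt_pow_self hp.one_lt
  have e1 : 6 * a + 1 = 3 * a + (3 * a + 1) := by ring
  by_cases hL : IsLieTypeChar p (H915.LD.Soc P)
  · rcases H911.O8S.own hF h.rw hR S hS hna hCe hP e hL hsR with h6 | hN | h6 | h6
    · have h1 := H886.O8R.dvd_psl2 S hp ha hCe h6
      rw [e1] at hpR
      have h2 := Nat.le_of_dvd (by omega) (H886.O8R.psl2_p hp ha h1 hpR)
      omega
    · have h1 := hpR.trans (H886.O8R.dvd_psu3 S hp ha (by have := h.rw.four; omega) hCe hN.real)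
      rw [show 2 * a * (p ^ (3 * a) * (p ^ (2 * a) - 1) * (p ^ (3 * a) + 1)) =
        p ^ (3 * a) * (2 * a) * ((p ^ (2 * a) - 1) * (p ^ (3 * a) + 1)) by ring] at h1
      have h2 := (Nat.Coprime.pow_left _ (Nat.Coprime.mul_right (cop_sub hp (m := 2 * a) (by omega))
        (cop_add hp (m := 3 * a) (by omega)))).dvd_of_dvd_mul_right h1
      rw [e1, pow_add] at h2
      have h4 := Nat.le_of_dvd (by omega) (Nat.dvd_of_mul_dvd_mul_left (pow_pos hp.pos _) h2)
      omega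
    · exact hr ((dvd_sp6 hp (pp4 h) (Or.inl h6)).trans (Subgroup.card_subgroup_dvd_card S))
    · exact hr ((dvd_sp6 hp (pp4 h) (Or.inr h6)).trans (Subgroup.card_subgroup_dvd_card S))
  · have := hP.simple
    exact (hC F p a r b s k t hF h R S P ⟨hR, hSn, hS, hna, hCe, hP, ⟨e⟩⟩ hL (hKn (H915.LD.Soc P))).1 hpR

end G6

open G6 in
/-- **box (8)** -/
theorem boxA (hKn : Kn) (hC : BoxCross) : BoxA := by
  intro F _ _ p a r b s k t hF h X Y hX hY hXY
  by_contra hr
  have hp := h.rb.hp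
  have ha := h.rb.ha
  have hq : 1 ≤ p ^ a := Nat.one_le_pow _ _ hp.pos
  obtain ⟨h1, h2, h3, h4⟩ := parts hF h
  have hT := hXY.card_dvd
  have hrp := (pp4 h).prime
  have hb : 1 ≤ b := by
    rcases h.rb.cases with h5 | h5 | h5 <;> omega
  have h5 : r ^ (b + 1) ∣ Nat.card Y := (pow_dvd_pow r (by omega)).trans
    ((Nat.Coprime.pow_left _ (hrp.coprime_iff_not_dvd.2 hr)).dvd_of_dvd_mul_left (h2.trans hT))
  have h6 := four_dvd hKn hF h hY h5
  have hs : s ^ k ∣ Nat.card X := by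
    refine (Nat.Coprime.pow_left _ (h.rw.pp.prime.coprime_iff_not_dvd.2 fun h7 => ?_)).dvd_of_dvd_mul_right (h3.trans hT)
    exact not_dvd_four hq h.rw.pp (by norm_num) (by norm_num) (h7.trans h6)
  have ht : t ∣ Nat.card X := by
    refine (h.t.prime.coprime_iff_not_dvd.2 fun h7 => ?_).dvd_of_dvd_mul_right (h4.trans hT)
    exact not_dvd_four hq h.t (by norm_num) (by norm_num) (h7.trans h6)
  have hpX : p ^ (6 * a + 1) ∣ Nat.card X := by
    have h7 : p ^ (12 * a) ∣ p ^ (4 * a) * (8 * Nat.card X) * (p ^ (8 * a) - 1) ^ 4 := by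
      refine (h1.trans hT).trans ((Nat.mul_dvd_mul_left _ h6).trans (dvd_of_eq ?_))
      rw [← pow_mul, ← pow_mul, mul_comm a 4, mul_comm a 8]
      ring
    have h8 := (Nat.Coprime.pow _ _ (cop_sub hp (m := 8 * a) (by omega))).dvd_of_dvd_mul_right h7
    rw [show 12 * a = 4 * a + 8 * a by ring, pow_add] at h8
    have h9 := Nat.dvd_of_mul_dvd_mul_left (pow_pos hp.pos _) h8
    by_cases hp2 : p = 2
    · subst hp2
      have ha2 : 2 ≤ a := by
        by_contra hcon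
        obtain rfl : a = 1 := by omega
        have := h.rw.four
        omega
      have h10 : 2 ^ (3 + (6 * a + 1)) ∣ 2 ^ 3 * Nat.card X := (pow_dvd_pow 2 (by omega)).trans h9
      rw [pow_add] at h10
      exact Nat.dvd_of_mul_dvd_mul_left (by norm_num) h10
    · have h10 : Nat.Coprime (p ^ (8 * a)) (2 ^ 3) :=
        Nat.Coprime.pow _ _ ((Nat.coprime_primes hp Nat.prime_two).2 hp2)
      exact (pow_dvd_pow p (by omega)).trans (h10.dvd_of_dvd_mul_left h9)
  refine H679.O8R.three' hF hp ha (fun α => ?_) hpX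
  have hc : Nat.card (X.map α.toMonoidHom) = Nat.card X := card_map α
  rcases g6w hF h (R := X.map α.toMonoidHom) (by rw [hc]; exact hs) (Or.inr (by rw [hc]; exact ht)) with
    h7 | h7 | h7 | h7
  · exact h7
  · exact absurd (by rw [hc]; exact ht) (not_fixP hF h h7)
  · exact absurd (by rw [hc]; exact ht) (not_fixJ hF h h7)
  · exact absurd h7 (not_res hKn hC hF h (map_ne_top hX α) (by rw [hc]; exact hs) (by rw [hc]; exact hr)
      (by rw [hc]; exact hpX))

end Cfsg.Agent.SM.O8
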