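import Cfsg.Agent.SM.O8.TW
import Cfsg.Agent.H60.O8R.Sg
import Cfsg.Agent.H666.TraceZero

/-!
# SM (S3570), socle `PΩ⁺₈(q)`, box Min: flags fixed by a `p`-group (helper37)

`flag_false` : `U` a `p`-subgroup of `PΩ⁺₈(q)`; if `L` fixes, in every module, the points fixed by `U`, then the order of `L` is
prime to the primitive prime divisors of `q³ - 1`.
-/

set_option autoImplicit false
set_option linter.unusedSectionVars false
set_option maxHeartbeats 400000

namespace Cfsg.Agent.SM.O8.Mi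

open Module QuadraticMap Cfsg Cfsg.Geo Cfsg.Agent.LieClassical.OrthCore Cfsg.Agent.LieClassical.OrthTrans
  Cfsg.Agent.LieClassical.OrthFinite
open Cfsg.Agent.H951 (fx cm Inv)
open Cfsg.Agent.H955 (perp mem_perp finrank_add_perp)
open Cfsg.Agent.H884.El (pre lin PP Iso exists_elt card_dvd_pre pre_le)
open Cfsg.Agent.H708.O8 (I8 T8 OO pj vl pj_surjective mem_pre8 vl_iso exists_vl)
open Cfsg.Agent.H823.O8S (SW mem_SW lin_mul_apply lin_inv_apply lin_apply_inv)
open Cfsg.Agent.H198.Carriers (plusQ good_plusQ)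
open scoped MatrixGroups Matrix

theorem exists_fix_mod {K V : Type} [Field K] [AddCommGroup V] [Module K V] {p : ℕ} [Fact p.Prime] [CharP K p]
    {P : Type} [Group P] [Finite P] (hP : IsPGroup p P) (ρ : P →* Module.End K V)
    (S T : Submodule K V) (hS : ∀ g, ∀ s ∈ S, ρ g s ∈ S) (hT : ∀ g, ∀ s ∈ T, ρ g s ∈ T) (h : ¬ T ≤ S) :
    ∃ x ∈ T, x ∉ S ∧ ∀ g, ρ g x - x ∈ S := by
  let ρ' : Representation K P (V ⧸ S) :=
    { toFun := fun g => S.mapQ S (ρ g) (fun s hs => hS g s hs)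
      map_one' := by
        refine LinearMap.ext fun x => ?_
        obtain ⟨v, rfl⟩ := S.mkQ_surjective x
        change S.mkQ (ρ 1 v) = S.mkQ v
        rw [map_one, Module.End.one_apply]
      map_mul' := by
        intro g h
        refine LinearMap.ext fun x => ?_
        obtain ⟨v, rfl⟩ := S.mkQ_surjective x
        change S.mkQ (ρ (g * h) v) = S.mkQ (ρ g (ρ h v))
        rw [map_mul, Module.End.mul_apply] }
  have hρ' : ∀ g v, ρ' g (S.mkQ v) = S.mkQ (ρ g v) := fun _ _ => rfl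
  obtain ⟨y, hy, hy0, hyf⟩ := Cfsg.Agent.H666.exists_fixed_ne_zero hP ρ' (T.map S.mkQ) (by
    rintro g _ ⟨t, ht, rfl⟩
    exact ⟨ρ g t, hT g t ht, rfl⟩) (by
    intro h1
    refine h fun t ht => (Submodule.Quotient.mk_eq_zero S).1 ?_
    have h2 : S.mkQ t ∈ T.map S.mkQ := ⟨t, ht, rfl⟩
    rw [h1, Submodule.mem_bot] at h2
    exact h2)
  obtain ⟨x, hx, rfl⟩ := hy
  refine ⟨x, hx, fun h1 => hy0 ((Submodule.Quotient.mk_eq_zero S).2 h1), fun g => ?_⟩
  have h1 := hyf g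
  rw [hρ', ← sub_eq_zero, ← map_sub] at h1
  exact (Submodule.Quotient.mk_eq_zero S).1 h1

theorem exists_lift {G G' : Type} [Group G] [Finite G] [Group G'] {f : G →* G'} (hf : Function.Surjective f) {p : ℕ}
    [Fact p.Prime] {U : Subgroup G'} (hU : IsPGroup p U) : ∃ H : Subgroup G, IsPGroup p H ∧ H.map f = U := by
  have hfin : Finite G' := Finite.of_surjective f hf
  obtain ⟨Q, hQ⟩ := hU.exists_le_sylow
  obtain ⟨P, rfl⟩ := Sylow.mapSurjective_surjective hf p Q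
  refine ⟨(P : Subgroup G) ⊓ U.comap f, P.2.to_le inf_le_left, le_antisymm ?_ fun x hx => ?_⟩
  · rintro _ ⟨y, hy, rfl⟩
    exact hy.2
  · obtain ⟨y, hy, rfl⟩ := hQ hx
    exact ⟨y, ⟨hy, hx⟩, rfl⟩

variable {F : Type} [Field F] [Fintype F]

theorem mem_SW' {W : Submodule F (I8 → F)} {g : GL I8 F} : g ∈ SW W ↔ ∀ w ∈ W, lin g w ∈ W := by
  refine ⟨fun h w hw => ?_, fun h => ?_⟩
  · rw [← mem_SW.1 h]
    exact ⟨w, hw, rfl⟩
  · refine Submodule.eq_of_le_of_finrank_eq (by rintro _ ⟨w, hw, rfl⟩; exact h w hw) ?_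
    exact LinearEquiv.finrank_map_eq (glEquiv I8 F g) W

theorem mem_St {W : Submodule F (I8 → F)} {x : OO F} : pj F x ∈ St W ↔ ∀ w ∈ W, lin (vl F x) w ∈ W :=
  pj_mem_St.trans mem_SW'

theorem mem_pt {v : I8 → F} {x : OO F} : pj F x ∈ pt v ↔ ∃ c : F, lin (vl F x) v = c • v := by
  rw [mem_St]
  constructor
  · intro h
    obtain ⟨c, hc⟩ := Submodule.mem_span_singleton.1 (h v (Submodule.mem_span_singleton_self v))
    exact ⟨c, hc.symm⟩
  · rintro ⟨c, hc⟩ w hw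
    obtain ⟨d, rfl⟩ := Submodule.mem_span_singleton.1 hw
    rw [map_smul, hc, smul_smul]
    exact Submodule.smul_mem _ _ (Submodule.mem_span_singleton_self v)

theorem conj_St {W : Submodule F (I8 → F)} {y : T8 F} (hy : y ∈ St W) (h : OO F) :
    pj F h * y * (pj F h)⁻¹ ∈ St (W.map (lin (vl F h))) := by
  obtain ⟨y, rfl⟩ := pj_surjective y
  rw [← map_inv, ← map_mul, ← map_mul, mem_St]
  rintro _ ⟨w, hw, rfl⟩
  rw [map_mul, map_mul, map_inv, lin_mul_apply, lin_inv_apply, lin_mul_apply]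
  exact ⟨_, mem_St.1 hy w hw, rfl⟩

theorem Q_lin (x : OO F) (v : I8 → F) : plusQ 4 F (lin (vl F x) v) = plusQ 4 F v :=
  H884.El.lin_iso (Q := plusQ 4 F) le_rfl (vl_iso x) v

theorem polar_lin (x : OO F) (v w : I8 → F) :
    polar (plusQ 4 F) (lin (vl F x) v) (lin (vl F x) w) = polar (plusQ 4 F) v w := by
  rw [polar, polar, ← map_add, Q_lin, Q_lin, Q_lin]

theorem exists_ts4 : ∃ D : Submodule F (I8 → F), finrank F D = 4 ∧ ∀ x ∈ D, quadFormPlus 4 F x = 0 := by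
  refine ⟨LinearMap.ker (LinearMap.funLeft F F (Sum.inr : Fin 4 → Fin 4 ⊕ Fin 4)), ?_, ?_⟩
  · have h1 := (LinearMap.funLeft F F (Sum.inr : Fin 4 → Fin 4 ⊕ Fin 4)).finrank_range_add_finrank_ker
    rw [LinearMap.range_eq_top.2 (LinearMap.funLeft_surjective_of_injective F F _ Sum.inr_injective), finrank_top] at h1
    simp only [Module.finrank_fintype_fun_eq_card, Fintype.card_fin, Fintype.card_sum] at h1
    exact Nat.add_left_cancel h1
  · intro x hx
    have h2 : ∀ i, x (Sum.inr i) = 0 := fun i => congrFun (LinearMap.mem_ker.1 hx) i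
    simp [quadFormPlus, h2]

variable {p a : ℕ} [hp : Fact p.Prime] {U L : Subgroup (T8 F)}

theorem fix_sing (ha : 1 ≤ a) (hF : Nat.card F = p ^ a) (hU : IsPGroup p U) :
    ∃ u, u ≠ 0 ∧ quadFormPlus 4 F u = 0 ∧ U ≤ pt u := by
  obtain ⟨H, hH, rfl⟩ := exists_lift (pj_surjective (F := F)) hU
  obtain ⟨u, h0, hu, h⟩ := H60.O8R.exists_fix (good_plusQ (F := F) (m := 4) (by norm_num)) ha hF
    (R := H.map ((glEquiv I8 F).toMonoidHom.comp (vl F))) (by
      rintro _ ⟨x, -, rfl⟩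
      exact Q_lin x) (hH.map _)
  refine ⟨u, h0, hu, ?_⟩
  rintro _ ⟨x, hx, rfl⟩
  exact mem_pt.2 ⟨1, (h _ ⟨x, hx, rfl⟩).trans (one_smul F u).symm⟩

theorem fix_four (ha : 1 ≤ a) (hF : Nat.card F = p ^ a) (hU : IsPGroup p U) :
    ∃ W : Submodule F (I8 → F), finrank F W = 4 ∧ (∀ w ∈ W, quadFormPlus 4 F w = 0) ∧ U ≤ St W := by
  obtain ⟨W, h4, hW⟩ := exists_ts4 (F := F)
  obtain ⟨α, u, h0, hu, e⟩ := boxTW F W h4 hW
  obtain ⟨u', h0', hu', h⟩ := fix_sing ha hF (hU.map α.toMonoidHom)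
  obtain ⟨g, hg, hgu⟩ := H925.exists_trans (H925.isND_of_nondeg (good_plusQ (F := F) (m := 4) (by norm_num)).nondeg)
    (by simp) h0' h0 (hu'.trans hu.symm)
  obtain ⟨g, rfl⟩ := exists_vl hg
  obtain ⟨k, hk⟩ := pj_surjective (α.symm (pj F g)⁻¹)
  refine ⟨W.map (lin (vl F k)), (LinearEquiv.finrank_map_eq (glEquiv I8 F (vl F k)) W).trans h4, ?_, fun x hx => ?_⟩
  · rintro _ ⟨w, hw, rfl⟩
    exact (Q_lin k w).trans (hW w hw)
  · have h1 := conj_St (h ⟨x, hx, rfl⟩) g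
    rw [Submodule.map_span, Set.image_singleton, show lin (vl F g) u' = u from hgu] at h1
    obtain ⟨y, hy, hyx⟩ := e.ge h1
    have h2 : x = pj F k * y * (pj F k)⁻¹ := by
      apply α.injective
      rw [map_mul, map_mul, map_inv, hk, α.apply_symm_apply]
      have h3 : α y = pj F g * α x * (pj F g)⁻¹ := hyx
      rw [h3]
      group
    rw [h2]
    exact conj_St hy k

theorem flag_false (ha : 1 ≤ a) (hF : Nat.card F = p ^ a) (hU : IsPGroup p U) {t : ℕ} (ht : PP (Nat.card F) 3 t)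
    (hL : t ∣ Nat.card L) (h : ∀ (α : MulAut (T8 F)) (v : I8 → F), im α U ≤ pt v → im α L ≤ pt v) : False := by
  have hch : CharP F p := charP_of_card_eq_prime_pow (p := p) (f := a) (by rw [← hF, Nat.card_eq_fintype_card])
  have hG := good_plusQ (F := F) (m := 4) (by norm_num)
  have h8 : finrank F (I8 → F) = 8 := by simp
  have keepW : ∀ W : Submodule F (I8 → F), finrank F W = 4 → (∀ w ∈ W, quadFormPlus 4 F w = 0) → U ≤ St W → L ≤ St W := by
    intro W h4 hW hUW x hx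
    obtain ⟨α, u, -, -, e⟩ := boxTW F W h4 hW
    obtain ⟨y, hy, hyx⟩ := e.ge (h α u (e ▸ Subgroup.map_mono hUW) ⟨x, hx, rfl⟩)
    rwa [← α.injective hyx]
  obtain ⟨W, h4, hW, hUW⟩ := fix_four ha hF hU
  have hW' : ∀ w ∈ W, plusQ 4 F w = 0 := hW
  have hWW : ∀ v ∈ W, ∀ w ∈ W, polar (plusQ 4 F) v w = 0 := fun v hv w hw => by
    rw [polar, hW' _ (W.add_mem hv hw), hW' _ hv, hW' _ hw, sub_zero, sub_zero]
  obtain ⟨H, hH, rfl⟩ := exists_lift (pj_surjective (F := F)) hU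
  let ρ : H →* Module.End F (I8 → F) :=
    { toFun := fun g => lin (vl F g)
      map_one' := by rw [OneMemClass.coe_one, map_one, H884.El.lin_one]
      map_mul' := fun g k => LinearMap.ext fun v => by
        rw [Subgroup.coe_mul, map_mul, lin_mul_apply]
        rfl }
  have hρW : ∀ g, ∀ w ∈ W, ρ g w ∈ W := fun g => mem_St.1 (hUW ⟨g, g.2, rfl⟩)
  obtain ⟨x, -, hxW, hx⟩ := exists_fix_mod hH ρ W ⊤ hρW (fun _ _ _ => trivial) (fun h1 => by
    rw [top_le_iff.1 h1, finrank_top] at h4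
    omega)
  obtain ⟨w₀, hw₀, hxw⟩ : ∃ w ∈ W, polar (plusQ 4 F) x w = 1 := by
    have h1 : W = perp (plusQ 4 F) W := by
      refine Submodule.eq_of_le_of_finrank_eq (fun w hw v hv => hWW v hv w hw) ?_
      have h2 : finrank F W + finrank F (perp (plusQ 4 F) W) = 8 := (finrank_add_perp hG.nondeg W).trans h8
      have h3 : finrank F (perp (plusQ 4 F) W) = 4 := by omega
      exact h4.trans h3.symm
    by_contra hc
    push Not at hc
    refine hxW (h1 ▸ fun w hw => ?_)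
    by_contra h2
    refine hc ((polar (plusQ 4 F) w x)⁻¹ • w) (W.smul_mem _ hw) ?_
    rw [polar_smul_right, polar_comm _ x, smul_eq_mul, inv_mul_cancel₀ h2]
  let E : Submodule F (I8 → F) := W ⊓ LinearMap.ker (polarBilin (plusQ 4 F) x)
  have mE : ∀ {v}, v ∈ E ↔ v ∈ W ∧ polar (plusQ 4 F) x v = 0 := Iff.rfl
  have hE3 : finrank F E = 3 := by
    have h1 : E ⊔ Submodule.span F {w₀} = W := by
      refine le_antisymm (sup_le inf_le_left ((Submodule.span_singleton_le_iff_mem _ _).2 hw₀)) fun w hw => ?_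
      refine Submodule.mem_sup.2 ⟨w - polar (plusQ 4 F) x w • w₀, mE.2 ⟨W.sub_mem hw (W.smul_mem _ hw₀), ?_⟩, _,
        Submodule.smul_mem _ (polar (plusQ 4 F) x w) (Submodule.mem_span_singleton_self w₀), sub_add_cancel _ _⟩
      rw [polar_sub_right, polar_smul_right, hxw, smul_eq_mul, mul_one, sub_self]
    have h2 := Submodule.finrank_sup_span_singleton (p := E) (v := w₀) (fun h3 => by
      have h5 := (mE.1 h3).2
      rw [hxw] at h5
      exact one_ne_zero h5)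
    rw [h1] at h2
    omega
  have hρE : ∀ g, ∀ w ∈ E, ρ g w ∈ E := by
    intro g w hw
    refine mE.2 ⟨hρW g w hw.1, ?_⟩
    have h1 : polar (plusQ 4 F) (ρ g x) (ρ g w) = 0 := (polar_lin g.1 x w).trans (mE.1 hw).2
    have h2 := hWW _ (hx g) _ (hρW g w hw.1)
    rwa [polar_sub_left, h1, zero_sub, neg_eq_zero] at h2
  obtain ⟨u, huE, hu0, hu⟩ := exists_fix_mod hH ρ ⊥ E (fun g s hs => by
    rw [(Submodule.mem_bot F).1 hs, map_zero]
    exact zero_mem _) hρE (fun h1 => by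
    rw [le_bot_iff.1 h1, finrank_bot] at hE3
    omega)
  set x' := x - plusQ 4 F x • w₀ with hx'
  have hQx : plusQ 4 F x' = 0 := by
    rw [hx', sub_eq_add_neg, ← neg_smul, Q_add, QuadraticMap.map_smul, hW' _ hw₀, polar_smul_right, hxw]
    simp
  have hpx : ∀ w ∈ W, polar (plusQ 4 F) x' w = polar (plusQ 4 F) x w := fun w hw => by
    rw [hx', polar_sub_left, hWW _ (W.smul_mem _ hw₀) _ hw, sub_zero]
  have hx'W : x' ∉ W := fun h1 => hxW (by
    have h2 := W.add_mem h1 (W.smul_mem (plusQ 4 F x) hw₀)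
    rwa [hx', sub_add_cancel] at h2)
  let W' : Submodule F (I8 → F) := E ⊔ Submodule.span F {x'}
  have mW' : ∀ {v}, v ∈ W' ↔ ∃ e ∈ E, ∃ c : F, e + c • x' = v := by
    intro v
    rw [Submodule.mem_sup]
    constructor
    · rintro ⟨e, he, z, hz, rfl⟩
      obtain ⟨c, rfl⟩ := Submodule.mem_span_singleton.1 hz
      exact ⟨e, he, c, rfl⟩
    · rintro ⟨e, he, c, rfl⟩
      exact ⟨e, he, _, Submodule.smul_mem _ c (Submodule.mem_span_singleton_self x'), rfl⟩
  have h4' : finrank F W' = 4 := by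
    rw [Submodule.finrank_sup_span_singleton (p := E) (v := x') (fun h1 => hx'W (mE.1 h1).1), hE3]
  have hW2 : ∀ w ∈ W', quadFormPlus 4 F w = 0 := by
    intro w hw
    obtain ⟨e, he, c, rfl⟩ := mW'.1 hw
    change plusQ 4 F _ = 0
    rw [Q_add, QuadraticMap.map_smul, hQx, hW' _ he.1, polar_smul_right, polar_comm _ e, hpx _ he.1, (mE.1 he).2]
    simp
  have hUW' : H.map (pj F) ≤ St W' := by
    rintro _ ⟨g, hg, rfl⟩
    have h1 : ρ ⟨g, hg⟩ x' - x' ∈ W := by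
      have h2 := W.sub_mem (hx ⟨g, hg⟩) (W.smul_mem (plusQ 4 F x) (W.sub_mem (hρW ⟨g, hg⟩ _ hw₀) hw₀))
      convert h2 using 1
      rw [hx', map_sub, map_smul, smul_sub]
      abel
    have h2 : ρ ⟨g, hg⟩ x' - x' ∈ E := by
      refine mE.2 ⟨h1, ?_⟩
      have h3 : plusQ 4 F (x' + (ρ ⟨g, hg⟩ x' - x')) = 0 := by
        rw [add_sub_cancel]
        exact (Q_lin g x').trans hQx
      rwa [Q_add, hQx, hW' _ h1, zero_add, zero_add, hpx _ h1] at h3
    refine mem_St.2 fun w hw => ?_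
    obtain ⟨e, he, c, rfl⟩ := mW'.1 hw
    refine mW'.2 ⟨ρ ⟨g, hg⟩ e + c • (ρ ⟨g, hg⟩ x' - x'), E.add_mem (hρE _ e he) (E.smul_mem c h2), c, ?_⟩
    change _ = ρ ⟨g, hg⟩ (e + c • x')
    rw [map_add, map_smul, smul_sub]
    abel
  have hLu : L ≤ pt u := by
    have h1 := h 1 u (by
      rw [im_one]
      rintro _ ⟨g, hg, rfl⟩
      exact mem_pt.2 ⟨1, (sub_eq_zero.1 ((Submodule.mem_bot F).1 (hu ⟨g, hg⟩))).trans (one_smul F u).symm⟩)
    rwa [im_one] at h1
  obtain ⟨z, hz, hI, -, hz1⟩ := exists_elt (Q := plusQ 4 F) (H := pre (quadFormPlus 4 F) L) pre_le ht (by norm_num)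
    (hL.trans card_dvd_pre)
  have z1 := mem_SW'.1 (le_St.1 (keepW W h4 hW hUW) hz)
  have z2 := mem_SW'.1 (le_St.1 (keepW W' h4' hW2 hUW') hz)
  have z3 := mem_SW'.1 (le_St.1 hLu hz)
  have zE : Inv (lin z) E := by
    intro w hw
    obtain ⟨e, he, c, h1⟩ := mW'.1 (z2 w (Submodule.mem_sup_left hw))
    have h2 : c = 0 := by
      by_contra hc
      have h3 : c • x' ∈ W := by
        rw [eq_sub_of_add_eq' h1]
        exact W.sub_mem (z1 w hw.1) he.1
      exact hx'W ((W.smul_mem_iff hc).1 h3)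
    rw [h2, zero_smul, add_zero] at h1
    exact h1 ▸ he
  have hu0' : u ≠ 0 := fun h1 => hu0 (h1 ▸ zero_mem _)
  have hufx : u ∈ fx (lin z) := hI.le_fx ht z3 (by rw [finrank_span_singleton hu0']; norm_num)
    (Submodule.mem_span_singleton_self u)
  have h6 : finrank F (cm (lin z)) = 2 * 3 :=
    (hI.odd_case hG.nondeg (H884.El.lin_ne_one hz1) ht (by decide) (h8.trans_lt (by norm_num))).1
  have h7 : 3 ∣ finrank F ↥(E ⊓ cm (lin z)) := hI.dvd ht zE
  have h9 : finrank F ↥(E ⊔ cm (lin z)) + finrank F ↥(E ⊓ cm (lin z)) = finrank F E + finrank F (cm (lin z)) :=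
    Submodule.finrank_sup_add_finrank_inf_eq E (cm (lin z))
  have h10 : finrank F ↥(E ⊔ cm (lin z)) ≤ 8 := h8 ▸ Submodule.finrank_le _
  have h11 : finrank F ↥(E ⊓ cm (lin z)) ≤ finrank F E := Submodule.finrank_mono inf_le_left
  have h12 : E ⊓ cm (lin z) = E := Submodule.eq_of_le_of_finrank_eq inf_le_left (by omega)
  have h13 : u ∈ fx (lin z) ⊓ cm (lin z) := ⟨hufx, (h12.ge huE).2⟩
  rw [(H951.isCompl_fx_cm hI.ne0 hI.pow).inf_eq_bot] at h13
  exact hu0 h13

end Cfsg.Agent.SM.O8.Mi
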