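import Cfsg.Agent.SM.O8.Defs
import Cfsg.Agent.H823.O8R.Field
import Cfsg.Agent.H60.O8R.Subf

/-!
# SM (S3570), socle `PΩ⁺₈(q)`: quadratic fields and subfields are not transitive (helper53)

* `NT.pair_surj` : `J` self-adjoint: all pairs `(Q u, Q (J u))` occur;
* `NT.field` : the field part;  `NT.Sg` : the conjugation of a subfield structure;  `NT.sub` : the subfield part;
* `boxNT : BoxNT`.
-/

set_option autoImplicit false
set_option linter.unusedSectionVars false

namespace Cfsg.Agent.SM.O8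

open Module QuadraticMap Cfsg Cfsg.Geo Cfsg.Agent.LieClassical.OrthCore Cfsg.Agent.LieClassical.OrthTrans
open Cfsg.Agent.LieClassical.OrthFinite Cfsg.Agent.LieClassical.QuadForms Cfsg.Agent.H955 Cfsg.Agent.H954.TSing
open Cfsg.Agent.LieClassical.OmegaReindex
open Cfsg.Agent.H884.El (lin)
open Cfsg.Agent.H708.O8 (I8)
open Cfsg.Agent.H823.O8S (Fld NJ exists_root matl iso_of_mem)
open Cfsg.Agent.H683.O8R (Sub2)
open Cfsg.Agent.H60.O8R
open scoped MatrixGroups Matrix

namespace NT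

variable {F : Type} [Field F] [Fintype F]

/-! ### fields -/

theorem exists_irr (F : Type) [Field F] [Fintype F] : ∃ c d : F, c ≠ 0 ∧ ∀ z : F, z * z - c * z + d ≠ 0 := by
  obtain ⟨c, d, h⟩ := H823.O8R.exists_irr F
  by_cases hc : c = 0
  · refine ⟨2, 1 + d, fun h2 => ?_, fun z hz => h (z - 1) (by rw [hc]; linear_combination hz)⟩
    obtain ⟨z, hz⟩ := FiniteField.isSquare_of_char_two
      (CharP.ringChar_of_prime_eq_zero Nat.prime_two (by exact_mod_cast h2)) d
    exact h z (by rw [hc, hz]; linear_combination (z * z) * h2)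
  · exact ⟨c, d, hc, h⟩

theorem pair_surj {V : Type*} [AddCommGroup V] [Module F V] {Q : QuadraticForm F V} (hQ : Nondeg Q) {J : Module.End F V}
    {c d : F} (hJ : ∀ v, J (J v) = c • J v - d • v) (hc : c ≠ 0) (hirr : ∀ z : F, z * z - c * z + d ≠ 0)
    (hsa : ∀ u v, polar Q (J u) v = polar Q u (J v)) {x : V} (hx0 : x ≠ 0) (hx : Q x = 0) (hJx : Q (J x) = 0) (A A' : F) :
    ∃ u, Q u = A ∧ Q (J u) = A' := by
  obtain ⟨w, hw⟩ := exists_hyp hQ hx hx0
  have h1 : polar Q x (J x) = 0 := by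
    have h2 := hsa x (J x)
    rw [hJ, polar_self, hJx, polar_sub_right, polar_smul_right, polar_smul_right, polar_self, hx] at h2
    exact (mul_eq_zero.1 (by simpa using h2.symm)).resolve_left hc
  have h0 : ∀ s t : F, Q (s • x + t • J x) = 0 := fun s t => by
    rw [QuadraticMap.map_add Q, QuadraticMap.map_smul, QuadraticMap.map_smul, hx, hJx, polar_smul_left, polar_smul_right, h1]
    simp
  have hD : c * (polar Q w (J x) * polar Q w (J x) - c * polar Q w (J x) + d) ≠ 0 := mul_ne_zero hc (hirr _)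
  obtain ⟨t, ht⟩ : ∃ t : F, t * (c * (polar Q w (J x) * polar Q w (J x) - c * polar Q w (J x) + d)) =
      (A - Q w) * (c * polar Q w (J x) - d) - (A' - Q (J w)) := ⟨_, div_mul_cancel₀ _ hD⟩
  refine ⟨w + ((A - Q w - t * polar Q w (J x)) • x + t • J x), ?_, ?_⟩
  · rw [QuadraticMap.map_add Q, h0, polar_add_right, polar_smul_right, polar_smul_right, hw.pair']
    simp only [smul_eq_mul]
    ring
  · have e : J ((A - Q w - t * polar Q w (J x)) • x + t • J x) =
        (-(t * d)) • x + (A - Q w - t * polar Q w (J x) + t * c) • J x := by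
      rw [map_add, map_smul, map_smul, hJ]
      module
    rw [map_add, e, QuadraticMap.map_add Q, h0, hsa, map_add, map_smul, map_smul, hJ, polar_add_right, polar_smul_right,
      polar_smul_right, polar_sub_right, polar_smul_right, polar_smul_right, hw.pair']
    simp only [smul_eq_mul]
    linear_combination -ht

theorem root_cases {K : Subalgebra F (Matrix I8 I8 F)} (hK : IsFieldSubalgebra 2 K) {c d : F} {j m : Matrix I8 I8 F}
    (hj : j ∈ K) (hm : m ∈ K) (hj2 : j * j = c • j - d • (1 : Matrix I8 I8 F)) (hm2 : m * m = c • m - d • (1 : Matrix I8 I8 F)) :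
    m = j ∨ m = c • (1 : Matrix I8 I8 F) - j := by
  have h4 : (m - j) * (m + j - c • (1 : Matrix I8 I8 F)) = 0 := by
    have h5 := hK.comm m hm j hj
    calc (m - j) * (m + j - c • (1 : Matrix I8 I8 F)) = (m * m - c • m) - (j * j - c • j) + (m * j - j * m) := by
          simp only [Matrix.sub_mul, Matrix.mul_sub, Matrix.mul_add, Matrix.mul_smul, Matrix.mul_one, smul_sub]
          abel
      _ = 0 := by rw [hm2, hj2, h5]; abel
  by_cases h5 : m - j = 0
  · exact Or.inl (sub_eq_zero.1 h5)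
  · obtain ⟨n, hn, hmn⟩ := hK.inv _ (K.sub_mem hm hj) h5
    rw [hK.comm _ (K.sub_mem hm hj) n hn] at hmn
    have h7 := congrArg (fun y => n * y) h4
    beta_reduce at h7
    rw [← Matrix.mul_assoc, hmn, Matrix.one_mul, Matrix.mul_zero] at h7
    exact Or.inr (eq_sub_iff_add_eq.2 (sub_eq_zero.1 h7))

theorem le_NJ {H : Subgroup (GL I8 F)} {K : Subalgebra F (Matrix I8 I8 F)} (hK : IsFieldSubalgebra 2 K)
    (hHK : H ≤ subalgebraNormalizer K) {c d : F} {j : Matrix I8 I8 F} (hj : j ∈ K)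
    (hj2 : j * j = c • j - d • (1 : Matrix I8 I8 F)) : H ≤ NJ (Matrix.toLin' j) c := by
  intro g hg
  have h2 : (g : Matrix I8 I8 F) * j * ((g⁻¹ : GL I8 F) : Matrix I8 I8 F) ∈ K := ((hHK hg) j).1 hj
  obtain ⟨m, hm⟩ : ∃ m, m = (g : Matrix I8 I8 F) * j * ((g⁻¹ : GL I8 F) : Matrix I8 I8 F) := ⟨_, rfl⟩
  rw [← hm] at h2
  have hmg : m * (g : Matrix I8 I8 F) = (g : Matrix I8 I8 F) * j := by rw [hm, Units.inv_mul_cancel_right]
  have hm2 : m * m = c • m - d • (1 : Matrix I8 I8 F) := by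
    refine (Units.mul_left_inj g).1 ?_
    rw [Matrix.mul_assoc, hmg, ← Matrix.mul_assoc, hmg, Matrix.mul_assoc, hj2, Matrix.mul_sub, Matrix.sub_mul,
      Matrix.mul_smul, Matrix.mul_smul, Matrix.smul_mul, Matrix.smul_mul, hmg, Matrix.mul_one, Matrix.one_mul]
  have hgv : ∀ v, lin g (Matrix.toLin' j v) = Matrix.toLin' m (lin g v) := fun v => by rw [lin, ← matl, ← matl, hmg]
  rcases root_cases hK hj h2 hj2 hm2 with h5 | h5
  · exact Or.inl fun v => by rw [hgv, h5]
  · refine Or.inr fun v => ?_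
    rw [hgv, h5, map_sub, map_smul, Matrix.toLin'_one, LinearMap.sub_apply]
    rfl

/-- two additive, semilinear functions with an invariant common kernel vanish -/
theorem eq_zero_of_inv {H : Subgroup (GL I8 F)} (hirr : ActsIrreducibly (matrixSet H)) (φ ψ : (I8 → F) →+ F)
    (hφ : ∀ (a : F) v, φ (a • v) = a * a * φ v) (hψ : ∀ (a : F) v, ψ (a • v) = a * a * ψ v)
    (h : ∀ g ∈ H, ∀ v, φ v = 0 → ψ v = 0 → φ (lin g v) = 0 ∧ ψ (lin g v) = 0) (v : I8 → F) : φ v = 0 := by
  let N : Submodule F (I8 → F) :=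
    { (φ.prod ψ).ker with
      smul_mem' := fun a v hv => by
        have h1 : (φ v, ψ v) = 0 := hv
        obtain ⟨h2, h3⟩ := Prod.mk_eq_zero.1 h1
        show (φ (a • v), ψ (a • v)) = 0
        rw [hφ, hψ, h2, h3, mul_zero]
        rfl }
  have hN : ∀ v, v ∈ N ↔ φ v = 0 ∧ ψ v = 0 := fun v => Prod.mk_eq_zero
  rcases hirr N (by
    rintro _ ⟨g, hg, rfl⟩ _ ⟨v, hv, rfl⟩
    exact (hN _).2 (h g hg v ((hN v).1 hv).1 ((hN v).1 hv).2)) with h1 | h1
  · have h2 := Fintype.card_le_of_injective (φ.prod ψ) ((injective_iff_map_eq_zero _).2 fun v hv => by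
      have h3 : v ∈ N := hv
      rwa [h1] at h3)
    rw [Fintype.card_fun, Fintype.card_prod, ← pow_two] at h2
    have h3 := (Nat.pow_le_pow_iff_right Fintype.one_lt_card).1 h2
    simp at h3
  · exact ((hN v).1 (h1 ▸ Submodule.mem_top)).1

theorem field {H : Subgroup (GL I8 F)} (hH : H ≤ isometryGroup F (quadFormPlus 4 F)) (hirr : ActsIrreducibly (matrixSet H))
    {K : Subalgebra F (Matrix I8 I8 F)} (hK : IsFieldSubalgebra 2 K) (hadj : IsAdjointClosedFor (polar (quadFormPlus 4 F)) K)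
    (hHK : H ≤ subalgebraNormalizer K) : (∃ (J : Module.End F (I8 → F)) (c d : F), Fld J c d ∧ H ≤ NJ J c) ∨
      (3 ≤ Nat.card F → ∀ v, quadFormPlus 4 F v ≠ 0 → ¬ Tr H v) := by
  classical
  have hQ : Nondeg (quadPlus 4 F) := nondeg_iff.2 quadPlus_nondegenerate
  have hiso : ∀ g ∈ H, ∀ v, quadPlus 4 F (lin g v) = quadPlus 4 F v := fun g hg v => by
    rw [coe_quadPlus]; exact iso_of_mem (hH hg) v
  obtain ⟨c, d, hc, hcd⟩ := exists_irr F
  obtain ⟨j, hj, hj2⟩ := exists_root hK hcd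
  have hN := le_NJ hK hHK hj hj2
  obtain ⟨j', hj', h1⟩ := hadj j hj
  rw [← coe_quadPlus] at h1
  have hsq : ∀ {m : Matrix I8 I8 F}, m * m = c • m - d • (1 : Matrix I8 I8 F) →
      ∀ v, Matrix.toLin' m (Matrix.toLin' m v) = c • Matrix.toLin' m v - d • v := fun hm v => by
    rw [← matl, hm, map_sub, map_smul, map_smul, Matrix.toLin'_one]
    rfl
  have hJ := hsq hj2
  simp only [← Matrix.toLin'_apply] at h1
  have hj2' : j' * j' = c • j' - d • (1 : Matrix I8 I8 F) := by
    refine Matrix.toLin'.injective (LinearMap.ext fun v => sub_eq_zero.1 (hQ _ fun u => ?_))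
    rw [polar_comm, polar_sub_right, matl, ← h1, ← h1, hJ, map_sub, map_smul, map_smul, Matrix.toLin'_one,
      LinearMap.sub_apply, LinearMap.smul_apply, LinearMap.smul_apply, polar_sub_right, polar_smul_right, polar_smul_right,
      ← h1, polar_sub_left, polar_smul_left, polar_smul_left]
    exact sub_self _
  set J : Module.End F (I8 → F) := Matrix.toLin' j
  rcases root_cases hK hj hj' hj2 hj2' with rfl | rfl
  · refine Or.inr fun h3 v _ hv => ?_
    let L : (Fin 4 → F) →ₗ[F] (I8 → F) := ⟨⟨fun y => Sum.elim y 0, fun y z => by ext (i | i) <;> simp⟩,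
      fun a y => by ext (i | i) <;> simp⟩
    obtain ⟨y, -, hy0, hy⟩ := exists_sing_mem (Q := (quadPlus 4 F).comp (J ∘ₗ L)) ⊤ (by simp)
    obtain ⟨A, hA⟩ : ∃ A, A ∉ ({quadPlus 4 F (J v), quadPlus 4 F (c • v - J v)} : Finset F) := by
      by_contra h4
      push Not at h4
      have h5 := (Finset.card_le_card (fun x (_ : x ∈ Finset.univ) => h4 x)).trans Finset.card_le_two
      rw [Finset.card_univ, ← Nat.card_eq_fintype_card] at h5
      omega
    obtain ⟨u, h4, h5⟩ := pair_surj hQ hJ hc hcd h1 (x := L y) (fun e => hy0 (funext fun i => congrFun e (Sum.inl i)))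
      (by rw [coe_quadPlus]; simp [quadFormPlus, L]) hy (quadPlus 4 F v) A
    obtain ⟨g, hg, h6⟩ := hv u (by rw [← coe_quadPlus]; exact h4)
    have h7 : quadPlus 4 F (J (lin g v)) = A := by
      rcases h6 with h6 | h6
      · rw [h6, h5]
      · rw [h6, map_neg, QuadraticMap.map_neg, h5]
    rw [← h7, Finset.mem_insert, Finset.mem_singleton, not_or] at hA
    rcases hN hg with h8 | h8
    · exact hA.1 (by rw [← h8, hiso g hg])
    · refine hA.2 ?_
      rw [← hiso g hg (c • v - J v), map_sub, map_smul, h8, sub_sub_cancel]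
  · have h2 : ∀ u v, polar (quadPlus 4 F) (J u) v = polar (quadPlus 4 F) u (c • v - J v) := fun u v => by
      rw [h1, map_sub, map_smul, Matrix.toLin'_one]
      rfl
    have h3 : ∀ u v, polar (quadPlus 4 F) (J u) (J v) = d * polar (quadPlus 4 F) u v := fun u v => by
      rw [h2, hJ, sub_sub_cancel, polar_smul_right, smul_eq_mul]
    have h4 : ∀ u v, polar (quadPlus 4 F) (c • u - J u) (c • v - J v) = d * polar (quadPlus 4 F) u v := fun u v => by
      rw [← h2, map_sub, map_smul, hJ, sub_sub_cancel, polar_smul_left, smul_eq_mul]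
    let φ : ∀ L : Module.End F (I8 → F), (∀ u v, polar (quadPlus 4 F) (L u) (L v) = d * polar (quadPlus 4 F) u v) →
        (I8 → F) →+ F := fun L hL => AddMonoidHom.mk' (fun v => quadPlus 4 F (L v) - d * quadPlus 4 F v) fun u v => by
      rw [map_add, QuadraticMap.map_add (quadPlus 4 F), QuadraticMap.map_add (quadPlus 4 F), hL]
      ring
    have hφ : ∀ L hL (a : F) v, φ L hL (a • v) = a * a * φ L hL v := fun L hL a v => by
      show quadPlus 4 F (L (a • v)) - d * quadPlus 4 F (a • v) = a * a * (quadPlus 4 F (L v) - d * quadPlus 4 F v)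
      rw [map_smul, QuadraticMap.map_smul, QuadraticMap.map_smul, smul_eq_mul, smul_eq_mul]
      ring
    refine Or.inl ⟨J, c, d, ⟨LinearMap.ext hJ, hcd, fun v => ?_⟩, hN⟩
    rw [← coe_quadPlus, ← sub_eq_zero]
    refine eq_zero_of_inv hirr (φ J h3) (φ (c • 1 - J) h4) (hφ J h3) (hφ (c • 1 - J) h4) (fun g hg v e1 e2 => ?_) v
    change quadPlus 4 F (J v) - d * quadPlus 4 F v = 0 at e1
    change quadPlus 4 F (c • v - J v) - d * quadPlus 4 F v = 0 at e2
    show quadPlus 4 F (J (lin g v)) - d * quadPlus 4 F (lin g v) = 0 ∧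
      quadPlus 4 F (c • lin g v - J (lin g v)) - d * quadPlus 4 F (lin g v) = 0
    have e3 := hiso g hg (J v)
    have e4 := hiso g hg (c • v - J v)
    rw [map_sub, map_smul] at e4
    rw [hiso g hg v]
    rcases hN hg with h8 | h8
    · rw [← h8, e3, e4]
      exact ⟨e1, e2⟩
    · rw [h8, sub_sub_cancel] at e4
      rw [← h8, e3, e4]
      exact ⟨e2, e1⟩

/-! ### subfields -/

theorem exists_tau {F₁ : Subfield F} (hF : Nat.card F = Nat.card F₁ ^ 2) :
    ∃ τ : F →+* F, (∀ x : F₁, τ x = x) ∧ (∀ x, τ (τ x) = x) ∧ ∃ θ, τ θ ≠ θ := by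
  have := Fintype.ofFinite F₁
  rw [Nat.card_eq_fintype_card, Nat.card_eq_fintype_card] at hF
  refine ⟨(FiniteField.frobeniusAlgHom F₁ F).toRingHom, fun x => ?_, fun x => ?_, ?_⟩
  · exact congrArg Subtype.val (FiniteField.pow_card x)
  · show (x ^ Fintype.card F₁) ^ Fintype.card F₁ = x
    rw [← pow_mul, ← pow_two, ← hF, FiniteField.pow_card]
  · by_contra h
    push Not at h
    have h1 := Fintype.card_le_of_surjective F₁.subtype fun x => H372.O8S.mem_range_of_pow _ (h x)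
    have h2 := Fintype.one_lt_card (α := F₁)
    nlinarith

theorem exists_sq {τ : F →+* F} {θ : F} (hθ : τ θ ≠ θ) : ∃ l : F, τ (l * l) ≠ l * l := by
  by_contra h
  push Not at h
  have h1 := h θ
  have h2 := h (θ + 1)
  simp only [map_mul, map_add, map_one] at h1 h2
  have h3 : (τ θ - θ) * (τ θ + θ) = 0 := by linear_combination h1
  have h4 : (τ θ - θ) * 2 = 0 := by linear_combination h2 - h1
  have h5 := (mul_eq_zero.1 h3).resolve_left (sub_ne_zero.2 hθ)
  have h6 := (mul_eq_zero.1 h4).resolve_left (sub_ne_zero.2 hθ)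
  exact hθ (by linear_combination h5 - θ * h6)

/-- the conjugation of a subfield structure -/
def sg (τ : F →+* F) (B : GL I8 F) (x : I8 → F) : I8 → F :=
  (B : Matrix I8 I8 F) *ᵥ (τ ∘ (((B⁻¹ : GL I8 F) : Matrix I8 I8 F) *ᵥ x))

section

variable {τ : F →+* F} {B : GL I8 F} {F₁ : Subfield F}

theorem sg_add (x y : I8 → F) : sg τ B (x + y) = sg τ B x + sg τ B y := by
  rw [sg, sg, sg, Matrix.mulVec_add, ← Matrix.mulVec_add (B : Matrix I8 I8 F)]
  congr 1
  funext i
  exact map_add τ _ _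

theorem sg_smul (c : F) (x : I8 → F) : sg τ B (c • x) = τ c • sg τ B x := by
  rw [sg, sg, Matrix.mulVec_smul, ← Matrix.mulVec_smul (B : Matrix I8 I8 F)]
  congr 1
  funext i
  exact map_mul τ _ _

theorem sg_bb (hτ : ∀ x : F₁, τ x = x) (u : I8 → F₁) : sg τ B (bb B u) = bb B u := by
  rw [sg, inv_bb, bb]
  congr 1
  funext i
  exact hτ _

theorem sg_lin {Q : QuadraticForm F (I8 → F)} {ζ : F} (hQ : Nondeg Q) (hζ : ζ ≠ 0)
    (hB : IsFormRationalStructure (polar Q) F₁ ζ B) (hτ : ∀ x : F₁, τ x = x) {g : GL I8 F}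
    (hiso : ∀ v, Q (lin g v) = Q v) (hg : g ∈ subfieldSubgroup F₁ B) :
    ∃ ε : F, ε * ε = 1 ∧ ∀ x, sg τ B (lin g x) = ε • lin g (sg τ B x) := by
  obtain ⟨c, hc, N, h1, h2⟩ := exists_N hg
  have h3 := hτ ⟨_, sq_mem hQ hζ hB hiso h2⟩
  have h4 : τ c ≠ 0 := (map_ne_zero τ).2 hc
  simp only [map_pow] at h3
  refine ⟨c / τ c, by field_simp; exact h3.symm, fun x => ?_⟩
  have h5 : ((B⁻¹ * g * B : GL I8 F) : Matrix I8 I8 F).map τ = (c / τ c) • ((B⁻¹ * g * B : GL I8 F) : Matrix I8 I8 F) := by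
    ext i j
    have h6 := hτ (N i j)
    rw [h1, map_mul] at h6
    rw [Matrix.map_apply, Matrix.smul_apply, smul_eq_mul, div_mul_eq_mul_div, eq_div_iff h4, ← h6, mul_comm]
  have h6 : ((B⁻¹ : GL I8 F) : Matrix I8 I8 F) *ᵥ lin g x =
      ((B⁻¹ * g * B : GL I8 F) : Matrix I8 I8 F) *ᵥ (((B⁻¹ : GL I8 F) : Matrix I8 I8 F) *ᵥ x) := by
    rw [Matrix.toLin'_apply, Matrix.mulVec_mulVec, Matrix.mulVec_mulVec, ← Units.val_mul, ← Units.val_mul,
      mul_inv_cancel_right]
  have h7 : ∀ (M : Matrix I8 I8 F) (y : I8 → F), τ ∘ (M *ᵥ y) = M.map τ *ᵥ (τ ∘ y) := fun M y =>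
    funext fun i => RingHom.map_mulVec τ M y i
  rw [sg, sg, h6, h7, h5, Matrix.smul_mulVec, Matrix.mulVec_smul, Matrix.toLin'_apply, Matrix.mulVec_mulVec,
    Matrix.mulVec_mulVec, ← Units.val_mul, ← Units.val_mul, mul_assoc, mul_inv_cancel_left]

end

/-- a rational hyperbolic 4-space -/
theorem exists_frame {Q : QuadraticForm F (I8 → F)} {ζ : F} {τ : F →+* F} {B : GL I8 F} {F₁ : Subfield F} (hQ : Nondeg Q)
    (hζ : ζ ≠ 0) (hB : IsFormRationalStructure (polar Q) F₁ ζ B) (hr : ∀ u : I8 → F₁, ζ * Q (bb B u) ∈ F₁)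
    (hτ : ∀ x : F₁, τ x = x) : ∃ L : (Fin 4 → F) →ₗ[F] (I8 → F), Function.Injective L ∧
      (∀ x, ζ * Q (L x) = x 0 * x 1 + x 2 * x 3) ∧ ∀ x, sg τ B (L x) = L (τ ∘ x) := by
  have hG : Good (Q1 hB hr) := good_of_finite (Q1_nondeg hB hr hQ hζ) (by simp)
  obtain ⟨a, b, h1⟩ := hG.exists_hyp
  obtain ⟨c, d, h2, h3, h4, h5, h6⟩ := hG.exists_hyp2 h1
  have q : ∀ {u}, Q1 hB hr u = 0 → ζ * Q (bb B u) = 0 := fun h => by rw [← Q1_apply hB hr, h]; rfl
  have p0 : ∀ {u v}, polar (Q1 hB hr) u v = 0 → ζ * polar Q (bb B u) (bb B v) = 0 := fun h => by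
    rw [← Q1_polar hB hr, h]; rfl
  have p1 : ∀ {u v}, polar (Q1 hB hr) u v = 1 → ζ * polar Q (bb B u) (bb B v) = 1 := fun h => by
    rw [← Q1_polar hB hr, h]; rfl
  let L := Fintype.linearCombination F ![bb B a, bb B b, bb B c, bb B d]
  have hL : ∀ x, L x = x 0 • bb B a + x 1 • bb B b + x 2 • bb B c + x 3 • bb B d := fun x => by
    simp [L, Fintype.linearCombination_apply, Fin.sum_univ_four]
  have hq : ∀ x, ζ * Q (L x) = x 0 * x 1 + x 2 * x 3 := fun x => by
    simp only [hL, QuadraticMap.map_add Q, QuadraticMap.map_smul, polar_add_left, polar_smul_left, polar_smul_right,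
      smul_eq_mul]
    linear_combination x 0 * x 0 * q h1.left + x 1 * x 1 * q h1.right + x 2 * x 2 * q h2.left + x 3 * x 3 * q h2.right +
      x 0 * x 1 * p1 h1.pair + x 2 * x 3 * p1 h2.pair + x 0 * x 2 * p0 h3 + x 0 * x 3 * p0 h4 + x 1 * x 2 * p0 h5 +
      x 1 * x 3 * p0 h6
  refine ⟨L, (injective_iff_map_eq_zero _).2 fun x hx => ?_, hq, fun x => ?_⟩
  · have h7 : ∀ y : Fin 4 → F, (x + y) 0 * (x + y) 1 + (x + y) 2 * (x + y) 3 = y 0 * y 1 + y 2 * y 3 := fun y => by
      rw [← hq, ← hq, map_add, hx, zero_add]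
    have e0 := h7 0
    have e1 := h7 ![1, 0, 0, 0]
    have e2 := h7 ![0, 1, 0, 0]
    have e3 := h7 ![0, 0, 1, 0]
    have e4 := h7 ![0, 0, 0, 1]
    simp only [Pi.add_apply, Pi.zero_apply, Matrix.cons_val] at e0 e1 e2 e3 e4
    funext i
    fin_cases i
    · show x 0 = 0
      linear_combination e2 - e0
    · show x 1 = 0
      linear_combination e1 - e0
    · show x 2 = 0
      linear_combination e4 - e0
    · show x 3 = 0
      linear_combination e3 - e0
  · simp only [hL, sg_add, sg_smul, sg_bb hτ, Function.comp_apply]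

theorem sub {H : Subgroup (GL I8 F)} (hH : H ≤ isometryGroup F (quadFormPlus 4 F)) (h : Sub2 H) :
    (∀ v, quadFormPlus 4 F v ≠ 0 → ¬ Tr H v) ∧ ¬ TrP H := by
  obtain ⟨hirr, F₁, B, ζ, hζ, hF, hB, hHB⟩ := h
  have hQ : Nondeg (quadPlus 4 F) := nondeg_iff.2 quadPlus_nondegenerate
  have hiso : ∀ g ∈ H, ∀ v, quadPlus 4 F (lin g v) = quadPlus 4 F v := fun g hg v => by
    rw [coe_quadPlus]; exact iso_of_mem (hH hg) v
  rw [← coe_quadPlus] at hB
  obtain ⟨τ, hτ, hττ, θ, hθ⟩ := exists_tau hF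
  obtain ⟨L, hL, hq, hs⟩ := exists_frame hQ hζ hB (rat_Q hQ hζ hB (by simp) hF hiso hirr hHB) hτ
  have hp : ∀ x y, ζ * polar (quadPlus 4 F) (L x) (L y) = x 0 * y 1 + x 1 * y 0 + x 2 * y 3 + x 3 * y 2 := fun x y => by
    rw [polar, ← map_add, mul_sub, mul_sub, hq, hq, hq]
    simp only [Pi.add_apply]
    ring
  constructor
  · intro v _ hv
    have key : ∀ y : F, τ y = y → (ζ * polar (quadPlus 4 F) v (sg τ B v)) ^ 2 = y ^ 2 := by
      intro y hy
      obtain ⟨A, hA⟩ : ∃ A, A = ζ * quadPlus 4 F v := ⟨_, rfl⟩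
      have hδ : τ θ - θ ≠ 0 := sub_ne_zero.2 hθ
      obtain ⟨t, ht⟩ : ∃ t, (τ θ - θ) * (τ θ - θ) * t = (A + τ A - y) * θ := ⟨_, mul_div_cancel₀ _ (mul_ne_zero hδ hδ)⟩
      have ht' := congrArg τ ht
      simp only [map_mul, map_sub, map_add, hττ, hy] at ht'
      obtain ⟨g, hg, h1⟩ := hv (L ![1, A - θ * t, θ, t]) (mul_left_cancel₀ hζ (by
        rw [← coe_quadPlus, hq, ← hA]
        simp))
      obtain ⟨ε, h2, h3⟩ := sg_lin hQ hζ hB hτ (hiso g hg) (hHB hg)
      have h4 : ζ * polar (quadPlus 4 F) (lin g v) (sg τ B (lin g v)) = y := by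
        have h5 : ζ * polar (quadPlus 4 F) (L ![1, A - θ * t, θ, t]) (sg τ B (L ![1, A - θ * t, θ, t])) = y := by
          rw [hs, hp]
          simp only [Function.comp_apply, Matrix.cons_val, map_sub, map_mul, map_one]
          refine mul_left_cancel₀ hδ ?_
          linear_combination ht - ht'
        rcases h1 with h1 | h1
        · rw [h1, h5]
        · rw [h1, ← neg_one_smul F, sg_smul, map_neg, map_one, polar_smul_left, polar_smul_right, ← h5]
          simp
      rw [h3, polar_smul_right, polar, ← map_add, hiso g hg, hiso g hg, hiso g hg, ← polar, smul_eq_mul] at h4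
      rw [← h4]
      linear_combination (-(ζ * polar (quadPlus 4 F) v (sg τ B v)) ^ 2) * h2
    have h1 := (key 0 (map_zero τ)).symm.trans (key 1 (map_one τ))
    simp at h1
  · intro hT
    obtain ⟨c, d, -, hcd⟩ := exists_irr F
    obtain ⟨l, hl⟩ := exists_sq hθ
    have hl0 : l ≠ 0 := by
      rintro rfl
      simp at hl
    obtain ⟨m, hm0, hm⟩ : ∃ m : F, m ≠ 0 ∧ τ (m * m) * d ≠ m * m * τ d := by
      by_cases h1 : τ d = d
      · exact ⟨l, hl0, fun e => hl (mul_right_cancel₀ (fun e' => hcd 0 (by simp [e'])) (e.trans (by rw [h1])))⟩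
      · exact ⟨1, one_ne_zero, by simpa using Ne.symm h1⟩
    let P : F → F → (F × F) →ₗ[F] (Fin 4 → F) := fun l m =>
      ⟨⟨fun x => ![l * x.1, l⁻¹ * (x.1 - c * x.2), m * x.2, m⁻¹ * (d * x.2)], fun x y => by
        ext i; fin_cases i <;> simp <;> ring⟩, fun a x => by ext i; fin_cases i <;> simp <;> ring⟩
    have hP : ∀ l m x, P l m x = ![l * x.1, l⁻¹ * (x.1 - c * x.2), m * x.2, m⁻¹ * (d * x.2)] := fun _ _ _ => rfl
    have hU : ∀ l m : F, l ≠ 0 → m ≠ 0 →
        finrank F (LinearMap.range (L ∘ₗ P l m)) = 2 ∧ An (LinearMap.range (L ∘ₗ P l m)) := by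
      intro l m hl hm
      have h0 : ∀ x, quadPlus 4 F (L (P l m x)) = 0 → x = 0 := by
        rintro ⟨a, b⟩ h1
        have h2 := hq (P l m (a, b))
        rw [h1, hP] at h2
        simp only [Matrix.cons_val] at h2
        have h3 : a * a - c * a * b + d * b * b = 0 := by
          field_simp at h2
          linear_combination -h2
        by_cases hb : b = 0
        · rw [hb] at h3 ⊢
          rw [mul_self_eq_zero.1 (by linear_combination h3 : a * a = 0)]
          rfl
        · refine absurd ?_ (hcd (a / b))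
          field_simp
          linear_combination h3
      constructor
      · rw [LinearMap.finrank_range_of_inj ((injective_iff_map_eq_zero _).2 fun x hx => h0 x (by
          rw [show L (P l m x) = 0 from hx, QuadraticMap.map_zero]))]
        simp
      · rintro _ ⟨x, rfl⟩ hx
        rw [h0 x (by rw [coe_quadPlus]; exact hx), map_zero]
    obtain ⟨g, hg, h1⟩ := hT _ _ (hU 1 1 one_ne_zero one_ne_zero).1 (hU 1 1 one_ne_zero one_ne_zero).2 (hU l m hl0 hm0).1
      (hU l m hl0 hm0).2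
    obtain ⟨ε, -, h3⟩ := sg_lin hQ hζ hB hτ (hiso g hg) (hHB hg)
    obtain ⟨⟨a, b⟩, h4⟩ : lin g (L (P 1 1 (1, 0))) ∈ LinearMap.range (L ∘ₗ P l m) := h1 ▸ ⟨_, ⟨_, rfl⟩, rfl⟩
    have h5 := h3 (L (P 1 1 (1, 0)))
    rw [hs (P 1 1 (1, 0)), show τ ∘ P 1 1 (1, 0) = P 1 1 (1, 0) by rw [hP]; ext i; fin_cases i <;> simp, ← h4,
      LinearMap.comp_apply, hs, ← map_smul] at h5
    have h6 := congrFun (hL h5)
    have e0 := h6 0
    have e1 := h6 1
    have e2 := h6 2
    have e3 := h6 3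
    simp only [hP, Function.comp_apply, Matrix.cons_val, Pi.smul_apply, smul_eq_mul, map_mul, map_inv₀] at e0 e1 e2 e3
    have hl1 : τ l ≠ 0 := (map_ne_zero τ).2 hl0
    have hm1 : τ m ≠ 0 := (map_ne_zero τ).2 hm0
    by_cases hb : b = 0
    · have ha : a ≠ 0 := by
        rintro rfl
        have h7 := hiso g hg (L (P 1 1 (1, 0)))
        rw [← h4, hb, show ((0 : F), (0 : F)) = 0 from rfl, map_zero, QuadraticMap.map_zero] at h7
        have h8 := hq (P 1 1 (1, 0))
        rw [← h7, hP] at h8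
        simp at h8
      rw [hb, mul_zero, sub_zero] at e1
      field_simp at e1
      refine hl (mul_right_cancel₀ ((map_ne_zero τ).2 ha) ?_)
      rw [map_mul]
      linear_combination τ l * e0 - l * e1
    · field_simp at e3
      refine hm (mul_right_cancel₀ ((map_ne_zero τ).2 hb) ?_)
      rw [map_mul]
      linear_combination τ m * d * e2 - m * e3

end NT

/-- **[O8-3]** -/
theorem boxNT : BoxNT := fun _ _ _ _ hH => ⟨fun hirr _ hK hadj hHK => NT.field hH hirr hK hadj hHK, NT.sub hH⟩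

end Cfsg.Agent.SM.O8
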