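import Cfsg.Agent.SM.O8.MinA
import Cfsg.Agent.SM.O8.MinB
import Cfsg.Agent.SM.O8.NT
import Cfsg.Agent.H561.F34.Cross
import Cfsg.Agent.H906.TraceField

/-!
# SM (S3570), socle `PΩ⁺₈(q)`, box Min: `Ω⁻₈(q₀)` is a subfield subgroup in one of the three modules (helper37)
-/

set_option autoImplicit false
set_option linter.unusedSectionVars false
set_option maxHeartbeats 400000

namespace Cfsg.Agent.SM.O8

open Module QuadraticMap Cfsg Cfsg.Geo Cfsg.Agent.LieClassical.OrthCore Cfsg.Agent.LieClassical.OrthTrans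
  Cfsg.Agent.LieClassical.OrthForms
open Cfsg.Agent.H884.El (pre lin PP pre_le pre_le_omegaGL)
open Cfsg.Agent.H708.O8 (I8 T8 OO pj vl pj_surjective mem_pre8 vl_iso exists_vl vl_injective)
open Cfsg.Agent.H823.O8S (lin_mul_apply lin_inv_apply lin_apply_inv)
open Cfsg.Agent.H683.O8R (Sub2)
open Cfsg.Agent.H60.O8R (bb ext_bb rat rat_Q)
open Cfsg.Agent.H198.Carriers (plusQ good_plusQ)
open Cfsg.Agent.H198.OrthFrame (Phi_mk exists_conj Phi_eq_one_iff exists_perm perm_apply)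
open Cfsg.Agent.ClassicalGeometry.OrthSemi (Gam IsSS)
open Cfsg.Agent.H915.LD (Core core_of_residual)
open Cfsg.Agent.H905.Md (prj scalars_comm)
open scoped MatrixGroups Matrix commutatorElement

namespace Mi

variable {F : Type} [Field F] [Fintype F] {R N : Subgroup (T8 F)} {P : Subgroup (GL I8 F)}

/-! ### the image of the core -/

theorem pj_eq_one {x : OO F} : pj F x = 1 ↔ vl F x ∈ scalars I8 F := by
  constructor
  · intro h
    obtain ⟨e, he, h1⟩ := pj_scal (x := 1) (y := x) (by rw [map_one, h])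
    refine (mem_scalars_iff _).2 ⟨Units.mk0 e he, Matrix.toLin'.injective (LinearMap.ext fun v => ?_)⟩
    rw [map_one, H884.El.lin_one] at h1
    rw [map_smul, Matrix.toLin'_one]
    exact h1 v
  · intro h
    refine (QuotientGroup.eq_one_iff x).2 (Subgroup.mem_center_iff.2 fun y => vl_injective ?_)
    rw [map_mul, map_mul]
    exact scalars_comm h _

theorem pj_eq_of_smul {x y : OO F} {e : F} (he : e ≠ 0) (h : ∀ v, lin (vl F y) v = e • lin (vl F x) v) : pj F y = pj F x := by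
  rw [← mul_inv_eq_one, ← map_inv, ← map_mul, pj_eq_one]
  refine (mem_scalars_iff _).2 ⟨Units.mk0 e he, Matrix.toLin'.injective (LinearMap.ext fun v => ?_)⟩
  rw [map_smul, Matrix.toLin'_one]
  change lin (vl F (y * x⁻¹)) v = e • v
  rw [map_mul, map_inv, lin_mul_apply, h, lin_apply_inv]

/-- the elements of `P` as elements of `Ω` -/
noncomputable def lf (hP : P ≤ omegaGL (quadFormPlus 4 F)) : P →* OO F where
  toFun g := (exists_vl (hP g.2)).choose
  map_one' := vl_injective (by rw [(exists_vl (hP (1 : P).2)).choose_spec, map_one]; rfl)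
  map_mul' g h := vl_injective (by
    rw [(exists_vl (hP (g * h).2)).choose_spec, map_mul, (exists_vl (hP g.2)).choose_spec, (exists_vl (hP h.2)).choose_spec]
    rfl)

theorem vl_lf (hP : P ≤ omegaGL (quadFormPlus 4 F)) (g : P) : vl F (lf hP g) = g := (exists_vl (hP g.2)).choose_spec

/-- `N` is the socle of `R` -/
structure So (R N : Subgroup (T8 F)) : Prop where
  le : N ≤ R
  conj : ∀ g ∈ R, ∀ x ∈ N, g * x * g⁻¹ ∈ N
  simple : IsSimpleGroup N
  cen : ∀ g ∈ R, (∀ x ∈ N, g * x = x * g) → g = 1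

theorem So.im (h : So R N) (α : MulAut (T8 F)) : So (im α R) (im α N) where
  le := Subgroup.map_mono h.le
  conj := by
    rintro _ ⟨g, hg, rfl⟩ _ ⟨x, hx, rfl⟩
    exact ⟨_, h.conj g hg x hx, by rw [map_mul, map_mul, map_inv]⟩
  simple := (α.subgroupMap N).isSimpleGroup_congr.1 h.simple
  cen := by
    rintro _ ⟨g, hg, rfl⟩ hc
    rw [h.cen g hg fun x hx => α.injective (by rw [map_mul, map_mul]; exact hc _ ⟨x, hx, rfl⟩), map_one]

theorem exists_iso (h : So R N) (hP : IsResidualCore (pre (quadFormPlus 4 F) R) P) :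
    ∃ (l : P →* OO F) (e : H915.LD.Soc P ≃* N), (∀ g, vl F (l g) = g) ∧ ∀ g : P, ((prj e g : N) : T8 F) = pj F (l g) := by
  have hle := hP.le.trans pre_le_omegaGL
  set π : P →* T8 F := (pj F).comp (lf hle) with hπ
  have hker : (scalars I8 F).subgroupOf P = π.ker := by
    ext g
    rw [MonoidHom.mem_ker, hπ, MonoidHom.comp_apply, pj_eq_one, vl_lf, Subgroup.mem_subgroupOf]
  let e : H915.LD.Soc P ≃* π.range := (QuotientGroup.quotientMulEquivOfEq hker).trans (QuotientGroup.quotientKerEquivRange π)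
  have hs : IsSimpleGroup π.range := e.isSimpleGroup_congr.1 hP.simple
  have hR : π.range ≤ R := by
    rintro _ ⟨g, rfl⟩
    refine mem_pre8.1 ?_
    rw [vl_lf]
    exact hP.le g.2
  have hc : ∀ g ∈ R, ∀ x ∈ π.range, g * x * g⁻¹ ∈ π.range := by
    rintro g hg _ ⟨x, rfl⟩
    obtain ⟨g, rfl⟩ := pj_surjective g
    refine ⟨⟨_, hP.normal _ (mem_pre8.2 hg) x x.2⟩, ?_⟩
    rw [hπ, MonoidHom.comp_apply, MonoidHom.comp_apply, ← map_inv (pj F), ← map_mul (pj F), ← map_mul (pj F)]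
    congr 1
    apply vl_injective
    rw [map_mul, map_mul, map_inv, vl_lf, vl_lf]
  have hN := h.simple
  have h1 : N ≤ π.range := by
    have hn : (π.range.subgroupOf N).Normal := ⟨fun x hx g => hc g (h.le g.2) x hx⟩
    rcases hn.eq_bot_or_eq_top with h2 | h2
    · exfalso
      obtain ⟨y, hy⟩ := exists_ne (1 : π.range)
      refine hy (Subtype.ext (h.cen y (hR y.2) fun x hx => ?_))
      have h3 : (y : T8 F) * x * (y : T8 F)⁻¹ * x⁻¹ ∈ N := N.mul_mem (h.conj y (hR y.2) x hx) (N.inv_mem hx)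
      have h4 : (⟨_, h3⟩ : N) ∈ π.range.subgroupOf N := by
        have h5 := π.range.mul_mem y.2 (hc x (h.le hx) _ (π.range.inv_mem y.2))
        rw [← mul_assoc, ← mul_assoc] at h5
        exact h5
      rw [h2, Subgroup.mem_bot] at h4
      have h5 : (y : T8 F) * x * (y : T8 F)⁻¹ * x⁻¹ = 1 := congrArg Subtype.val h4
      rwa [mul_inv_eq_one, mul_inv_eq_iff_eq_mul] at h5
    · exact Subgroup.subgroupOf_eq_top.1 h2
  have h2 : π.range ≤ N := by
    have hn : (N.subgroupOf π.range).Normal := ⟨fun x hx g => h.conj g (hR g.2) x hx⟩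
    rcases hn.eq_bot_or_eq_top with h2 | h2
    · exfalso
      obtain ⟨y, hy⟩ := exists_ne (1 : N)
      have h4 : (⟨y, h1 y.2⟩ : π.range) ∈ N.subgroupOf π.range := y.2
      rw [h2, Subgroup.mem_bot] at h4
      have h5 : (y : T8 F) = 1 := congrArg Subtype.val h4
      exact hy (Subtype.ext h5)
    · exact Subgroup.subgroupOf_eq_top.1 h2
  exact ⟨lf hle, e.trans (MulEquiv.subgroupCongr (le_antisymm h2 h1)), vl_lf hle, fun g => rfl⟩

/-! ### not a core in all modules -/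

theorem not_all {p a : ℕ} [hp : Fact p.Prime] (ha : 1 ≤ a) (hF : Nat.card F = p ^ a) (h : So R N) {K : Type} [Field K] [Fintype K]
    [CharP K p] {c d : K} (hK : Fintype.card K ^ 2 = p ^ a)
    (hcd : ∀ z₁ z₂ : K, z₁ ^ 2 + c * z₁ * z₂ + d * z₂ ^ 2 = 0 → z₁ = 0 ∧ z₂ = 0) (ε : N ≃* POmega K ⇑(minusForm 3 K c d))
    (hall : ∀ α : MulAut (T8 F), InOrthogonalResidualClass (pre (quadFormPlus 4 F) (im α R))) : False := by
  have hch : CharP F p := charP_of_card_eq_prime_pow (p := p) (f := a) (by rw [← hF, Nat.card_eq_fintype_card])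
  have h2 : 2 ≤ Fintype.card K := Fintype.one_lt_card
  have hne : IsEmpty (K ≃+* F) := ⟨fun τ => by
    have h1 := Fintype.card_congr τ.toEquiv
    rw [← Nat.card_eq_fintype_card (α := F), hF, ← hK] at h1
    nlinarith⟩
  obtain ⟨t, ht1, ht2⟩ := Cfsg.Agent.Lib.Zsigmondy.exists_prime_orderOf (a := Fintype.card K) (n := 3) h2 (by omega)
    (fun h => by omega) (by omega)
  have ht : PP (Fintype.card K) 3 t := ⟨ht1, ht2⟩
  have ht' : PP (Nat.card F) 3 t := by
    refine ⟨ht1, ?_⟩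
    rw [hF, ← hK, Nat.cast_pow, orderOf_pow' _ (by norm_num), ht2]
    rfl
  let ψ : E (minusForm 3 K c d) →* T8 F := N.subtype.comp (ε.symm.toMonoidHom.comp (f0 hcd))
  obtain ⟨z, hz, hzo⟩ := exists_ord hcd p ht1 (by
    rw [Nat.card_eq_fintype_card]
    exact (ht.dvd_iff (by omega) 3).2 dvd_rfl) (by
    rw [Nat.card_eq_fintype_card]
    intro h3
    have h4 := (ht.dvd_iff (by omega) 1).1 (by rwa [pow_one])
    omega)
  refine flag_false ha hF ((U0_pgroup hcd p).map ψ) ht' (L := (L0 hcd).map ψ) ?_ fun α v hv => ?_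
  · have h3 : orderOf (⟨ψ z, z, hz, rfl⟩ : (L0 hcd).map ψ) = t := by
      rw [← Subgroup.orderOf_coe, ← hzo]
      exact (Subgroup.orderOf_coe (ε.symm (f0 hcd z))).trans (ε.symm.orderOf_eq _)
    rw [← h3]
    exact orderOf_dvd_natCard _
  · obtain ⟨P, hP, -⟩ := hall α
    obtain ⟨l, e, hl, he⟩ := exists_iso (h.im α) hP
    have key : ∀ (g : P) (x : E (minusForm 3 K c d)),
        prj (e.trans ((α.subgroupMap N).symm.trans ε)) g = f0 hcd x → pj F (l g) = α (ψ x) := by
      intro g x hx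
      have h3 : ε ((α.subgroupMap N).symm (prj e g)) = f0 hcd x := hx
      have h4 : prj e g = α.subgroupMap N (ε.symm (f0 hcd x)) :=
        (α.subgroupMap N).symm_apply_eq.1 (ε.eq_symm_apply.2 h3)
      rw [← he, h4]
      rfl
    rintro _ ⟨_, ⟨x, hx, rfl⟩, rfl⟩
    obtain ⟨g, hg, hgv⟩ := keep hcd p (core_of_residual hP) (by simp) hne (e.trans ((α.subgroupMap N).symm.trans ε)) (v := v)
      (by
        rintro g ⟨u, hu, hgu⟩
        have h3 : pj F (l g) ∈ pt v := by
          rw [key g u hgu]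
          exact hv ⟨_, ⟨u, hu, rfl⟩, rfl⟩
        obtain ⟨c, hc⟩ := mem_pt.1 h3
        rw [hl, Matrix.toLin'_apply] at hc
        exact ⟨c, hc⟩) x hx
    change α (ψ x) ∈ pt v
    rw [← key g x hg]
    refine mem_pt.2 ⟨1, ?_⟩
    rw [hl, Matrix.toLin'_apply, hgv, one_smul]

/-! ### the semilinear involution -/

theorem exists_inv (h : Sub2 (pre (quadFormPlus 4 F) R)) : ∃ (M : Gam (plusQ 4 F)) (τ : F ≃+* F) (c : F),
    τ ≠ RingEquiv.refl F ∧ IsSS (plusQ 4 F) τ c M.1 ∧ M * M = 1 ∧ ∀ x ∈ R, ph F M x = x := by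
  obtain ⟨hirr, F₁, B, ζ, hζ, hF, hB, hH⟩ := h
  have hG := good_plusQ (F := F) (m := 4) (by norm_num)
  have hiso : ∀ g ∈ pre (quadFormPlus 4 F) R, ∀ v, plusQ 4 F (lin g v) = plusQ 4 F v := fun g hg v =>
    H884.El.lin_iso (Q := plusQ 4 F) pre_le hg v
  have hr := rat_Q (Q := plusQ 4 F) hG.nondeg hζ hB (by simp) hF hiso hirr hH
  obtain ⟨τ, hτ, hττ, θ, hθ⟩ := NT.exists_tau hF
  have hsp : ∀ x, x ∈ Submodule.span F (Set.range (bb (F₁ := F₁) B)) := by
    intro x
    have h1 := ext_bb (F₁ := F₁) B (f := (Submodule.span F (Set.range (bb (F₁ := F₁) B))).mkQ) (g := 0) fun u =>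
      (Submodule.Quotient.mk_eq_zero _).2 (Submodule.subset_span ⟨u, rfl⟩)
    exact (Submodule.Quotient.mk_eq_zero _).1 (LinearMap.congr_fun h1 x)
  have h0 : NT.sg τ B 0 = 0 := by
    have h1 := NT.sg_smul (τ := τ) (B := B) 0 0
    rwa [zero_smul, map_zero, zero_smul] at h1
  have hpol : ∀ x y, ζ * polar (plusQ 4 F) (NT.sg τ B x) (NT.sg τ B y) = τ (ζ * polar (plusQ 4 F) x y) := by
    intro x y
    induction hsp x using Submodule.span_induction with
    | mem x hx =>
      obtain ⟨u, rfl⟩ := hx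
      induction hsp y using Submodule.span_induction with
      | mem y hy =>
        obtain ⟨v, rfl⟩ := hy
        rw [NT.sg_bb hτ, NT.sg_bb hτ]
        exact (hτ ⟨_, rat (Q := plusQ 4 F) hB u v⟩).symm
      | zero => rw [h0, polar_zero_right, polar_zero_right, mul_zero, map_zero]
      | add y z _ _ hy hz => rw [NT.sg_add, polar_add_right, polar_add_right, mul_add, mul_add, map_add, hy, hz]
      | smul a y _ hy =>
        rw [NT.sg_smul, polar_smul_right, polar_smul_right, smul_eq_mul, smul_eq_mul, mul_left_comm, hy, mul_left_comm ζ, map_mul τ a]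
    | zero => rw [h0, polar_zero_left, polar_zero_left, mul_zero, map_zero]
    | add x z _ _ hx hz => rw [NT.sg_add, polar_add_left, polar_add_left, mul_add, mul_add, map_add, hx, hz]
    | smul a x _ hx =>
      rw [NT.sg_smul, polar_smul_left, polar_smul_left, smul_eq_mul, smul_eq_mul, mul_left_comm, hx, mul_left_comm ζ, map_mul τ a]
  have hQ : ∀ x, ζ * plusQ 4 F (NT.sg τ B x) = τ (ζ * plusQ 4 F x) := by
    intro x
    induction hsp x using Submodule.span_induction with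
    | mem x hx =>
      obtain ⟨u, rfl⟩ := hx
      rw [NT.sg_bb hτ]
      exact (hτ ⟨_, hr u⟩).symm
    | zero => rw [h0, map_zero, mul_zero, map_zero]
    | add x z _ _ hx hz => rw [NT.sg_add, Q_add, Q_add, mul_add, mul_add, mul_add, mul_add, map_add, map_add, hx, hz, hpol]
    | smul a x _ hx =>
      rw [NT.sg_smul, QuadraticMap.map_smul, QuadraticMap.map_smul, smul_eq_mul, smul_eq_mul, mul_left_comm, hx, mul_left_comm ζ,
        map_mul τ (a * a), map_mul τ a]
  have hinv : Function.Involutive (NT.sg τ B) := by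
    intro x
    induction hsp x using Submodule.span_induction with
    | mem x hx =>
      obtain ⟨u, rfl⟩ := hx
      rw [NT.sg_bb hτ, NT.sg_bb hτ]
    | zero => rw [h0, h0]
    | add x z _ _ hx hz => rw [NT.sg_add, NT.sg_add, hx, hz]
    | smul a x _ hx => rw [NT.sg_smul, NT.sg_smul, hττ, hx]
  let τ' : F ≃+* F := RingEquiv.ofBijective τ (Function.Involutive.bijective hττ)
  have hSS : IsSS (plusQ 4 F) τ' (ζ⁻¹ * τ ζ) hinv.toPerm :=
    { ne := mul_ne_zero (inv_ne_zero hζ) ((map_ne_zero τ).2 hζ)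
      add := NT.sg_add
      smul := NT.sg_smul
      form := fun v => by
        change plusQ 4 F (NT.sg τ B v) = ζ⁻¹ * τ ζ * τ (plusQ 4 F v)
        rw [mul_assoc, ← map_mul, ← hQ, inv_mul_cancel_left₀ hζ] }
  refine ⟨⟨hinv.toPerm, τ', _, hSS⟩, τ', _, fun h => hθ (DFunLike.congr_fun h θ), hSS,
    Subtype.ext (Equiv.ext hinv), fun x hx => ?_⟩
  obtain ⟨s, rfl⟩ := pj_surjective x
  obtain ⟨s', hs'⟩ := exists_conj hG ⟨hinv.toPerm, τ', _, hSS⟩ s
  obtain ⟨ε, hε, h1⟩ := NT.sg_lin (Q := plusQ 4 F) hG.nondeg hζ hB hτ (hiso _ (mem_pre8.2 hx)) (hH (mem_pre8.2 hx))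
  refine (Phi_mk hG _ hs').trans (pj_eq_of_smul (x := s) (y := s') (e := ε) (fun h => ?_) fun v => ?_)
  · rw [h, mul_zero] at hε
    exact zero_ne_one hε
  · obtain ⟨v, rfl⟩ := hinv.surjective v
    exact (hs' v).trans (h1 v)

theorem ph_ne_one {M : Gam (plusQ 4 F)} {τ : F ≃+* F} {c : F} (hτ : τ ≠ RingEquiv.refl F) (h : IsSS (plusQ 4 F) τ c M.1) :
    ph F M ≠ 1 := by
  intro h1
  obtain ⟨a, ha, h2⟩ := (Phi_eq_one_iff _ M).1 h1
  obtain ⟨v, hv⟩ := exists_ne (0 : I8 → F)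
  refine hτ (RingEquiv.ext fun x => ?_)
  have h3 := h.smul x v
  rw [h2, h2, smul_smul, smul_smul] at h3
  exact mul_right_cancel₀ ha ((smul_left_injective F hv h3).symm.trans (mul_comm a x))

/-! ### the centraliser of the core -/

theorem cor (h : So R N) (hP : IsResidualCore (pre (quadFormPlus 4 F) R) P) (β : MulAut (T8 F)) (hβ : Nt β)
    (hx : ∀ x ∈ N, β x = x) : β = 1 := by
  obtain ⟨M, rfl⟩ := hβ
  have hG := good_plusQ (F := F) (m := 4) (by norm_num)
  obtain ⟨l, e, hl, he⟩ := exists_iso h hP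
  obtain ⟨σ, c, hM⟩ := M.2
  have h1 : ∀ g ∈ P, ∃ a : F, a ≠ 0 ∧ ∀ v, M.1 (lin g v) = a • lin g (M.1 v) := by
    intro g hg
    obtain ⟨s', hs'⟩ := exists_conj hG M (l ⟨g, hg⟩)
    have h2 : pj F (l ⟨g, hg⟩) = pj F s' := (hx _ (he ⟨g, hg⟩ ▸ (prj e ⟨g, hg⟩).2)).symm.trans (Phi_mk hG M hs')
    obtain ⟨a, ha, h3⟩ := pj_scal h2
    refine ⟨a, ha, fun v => ?_⟩
    have h4 : lin (vl F s') (M.1 v) = M.1 (lin (vl F (l ⟨g, hg⟩)) v) := hs' v
    rw [h3, hl] at h4
    exact h4.symm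
  let Z : Subgroup (GL I8 F) :=
    { carrier := {g | ∀ v, M.1 (lin g v) = lin g (M.1 v)}
      one_mem' := fun v => by rw [H884.El.lin_one]; rfl
      mul_mem' := fun {g k} hg hk v => by rw [lin_mul_apply, lin_mul_apply, hg, hk]
      inv_mem' := fun {g} hg v => by
        have h2 := hg (lin g⁻¹ v)
        rw [lin_apply_inv] at h2
        rw [h2, lin_inv_apply] }
  have hZ : P ≤ Z := by
    rw [← hP.perfect, Subgroup.commutator_le]
    intro g hg k hk v
    obtain ⟨a, ha, h2⟩ := h1 g hg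
    obtain ⟨b, hb, h3⟩ := h1 k hk
    have h4 : ∀ {g : GL I8 F} {a : F}, a ≠ 0 → (∀ v, M.1 (lin g v) = a • lin g (M.1 v)) →
        ∀ v, M.1 (lin g⁻¹ v) = a⁻¹ • lin g⁻¹ (M.1 v) := by
      intro g a ha h v
      have h5 := h (lin g⁻¹ v)
      rw [lin_apply_inv] at h5
      rw [h5, map_smul, lin_inv_apply, smul_smul, inv_mul_cancel₀ ha, one_smul]
    rw [commutatorElement_def, lin_mul_apply, lin_mul_apply, lin_mul_apply, lin_mul_apply, lin_mul_apply, lin_mul_apply, h2, h3,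
      h4 ha h2, h4 hb h3]
    simp only [map_smul, smul_smul]
    rw [show a * (b * (a⁻¹ * b⁻¹)) = 1 by field_simp, one_smul]
  obtain ⟨A, hA, -, -⟩ := exists_perm hM
  have h2 : ∀ g ∈ P, (A : Matrix I8 I8 F) * (g : Matrix I8 I8 F).map σ = g * A := by
    intro g hg
    refine Matrix.toLin'.injective (LinearMap.ext fun v => ?_)
    have h3 := hZ hg fun i => σ.symm (v i)
    rw [hA, perm_apply, perm_apply, Matrix.toLin'_apply, Matrix.toLin'_apply] at h3
    simp only [RingEquiv.apply_symm_apply] at h3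
    rw [Matrix.toLin'_apply, Matrix.toLin'_apply, ← Matrix.mulVec_mulVec, ← Matrix.mulVec_mulVec, ← h3]
    congr 1
    funext i
    have h4 := RingHom.map_mulVec (σ : F →+* F) (g : Matrix I8 I8 F) (fun i => σ.symm (v i)) i
    rw [show ((σ : F →+* F) ∘ fun i => σ.symm (v i)) = v from funext fun i => σ.apply_symm_apply (v i)] at h4
    exact h4.symm
  have h3 : ∀ x, σ x = x := by
    by_contra hc
    refine hP.no_subfield ((σ : F →+* F).eqLocusField (RingHom.id F)) (fun htop => hc fun x => ?_)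
      (H906.realisable_of_trace hP.absIrred _ fun g hg => ?_)
    · have h4 : x ∈ (σ : F →+* F).eqLocusField (RingHom.id F) := htop ▸ Subfield.mem_top x
      exact h4
    · have h4 : (g : Matrix I8 I8 F).map σ = ((A⁻¹ : GL I8 F) : Matrix I8 I8 F) * (g * A) := by
        rw [← h2 g hg, ← Matrix.mul_assoc, ← Units.val_mul, inv_mul_cancel, Units.val_one, Matrix.one_mul]
      have h5 : ((g : Matrix I8 I8 F).map σ).trace = (g : Matrix I8 I8 F).trace := by
        rw [h4, Matrix.trace_mul_comm, Matrix.mul_assoc, ← Units.val_mul, mul_inv_cancel, Units.val_one, Matrix.mul_one]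
      change σ (g : Matrix I8 I8 F).trace = (g : Matrix I8 I8 F).trace
      refine Eq.trans ?_ h5
      rw [Matrix.trace, Matrix.trace, map_sum]
      rfl
  obtain ⟨a, ha⟩ := hP.absIrred.2 A (by
    rintro _ ⟨g, hg, rfl⟩
    rw [← h2 g hg]
    congr 1
    ext i j
    exact (h3 _).symm)
  have h4 : ∀ v, M.1 v = a • v := fun v => by
    rw [hA, perm_apply, ha, Matrix.smul_mulVec, Matrix.one_mulVec]
    congr 1
    exact funext fun i => h3 _
  refine (Phi_eq_one_iff _ M).2 ⟨a, fun h0 => ?_, h4⟩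
  obtain ⟨v, hv⟩ := exists_ne (0 : I8 → F)
  exact hv (M.1.injective (by rw [h4, h4, h0, zero_smul, zero_smul]))

/-! ### orders -/

theorem num_le {p f : ℕ} (hp : 2 ≤ p) (hf : 1 ≤ f) : 24 * f * ((p ^ f) ^ H902.Art.NN (.DD 4) * H902.Art.num (.DD 4) (p ^ f)) ≤
    ((p ^ f) ^ 2) ^ 18 := by
  have h1 : f ≤ p ^ f := (Nat.lt_pow_self (by omega)).le
  have h2 : 2 ≤ p ^ f := hp.trans (Nat.le_self_pow (by omega) p)
  generalize p ^ f = q at h1 h2
  change 24 * f * (q ^ (4 * (4 - 1)) * ((q ^ 4 + 1) * ∏ i ∈ Finset.range (4 - 1), (q ^ (2 * (i + 1)) - 1))) ≤ _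
  simp only [Finset.prod_range_succ, Finset.range_zero, Finset.prod_empty, one_mul]
  have h3 : (q ^ 4 + 1) * (q ^ 4 - 1) ≤ q ^ 8 := by
    rw [← Nat.sq_sub_sq _ 1, ← pow_mul]
    exact Nat.sub_le _ _
  have h4 : 24 ≤ q ^ 7 := le_trans (by norm_num) (Nat.pow_le_pow_left h2 7)
  calc _ = 24 * f * (q ^ 12 * ((q ^ 4 + 1) * (q ^ 4 - 1)) * (q ^ 2 - 1) * (q ^ 6 - 1)) := by ring
    _ ≤ q ^ 7 * q * (q ^ 12 * q ^ 8 * q ^ 2 * q ^ 6) := by
      gcongr
      · exact Nat.sub_le _ _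
      · exact Nat.sub_le _ _
    _ = _ := by ring

end Mi

open Mi in
/-- **[O8-6]** -/
theorem boxMin (hG : BoxG34) : BoxMin := by
  intro F _ _ p a r b s k t hF hN R S P hR hO
  obtain ⟨K, _, _, c, d, hK, hcd, ⟨ε⟩⟩ := hO
  have hp := hN.rb.hp
  have := Fact.mk hp
  have hnrm := hR.nrm
  have hS := hR.simple
  obtain ⟨f, -, hf⟩ := (Nat.dvd_prime_pow hp).1 (hK ▸ dvd_pow_self (Fintype.card K) (by norm_num) : Fintype.card K ∣ p ^ a)
  have hch : CharP K p := charP_of_card_eq_prime_pow (p := p) (f := f) hf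
  have hf1 : 1 ≤ f := by
    have h1 : 1 < Fintype.card K := Fintype.one_lt_card
    rcases Nat.eq_zero_or_pos f with rfl | h
    · rw [pow_zero] at hf
      omega
    · exact h
  let i : S ≃* S.map R.subtype := S.equivMapOfInjective R.subtype R.subtype_injective
  have so : So R (S.map R.subtype) :=
    { le := Subgroup.map_subtype_le S
      conj := by
        rintro g hg _ ⟨x, hx, rfl⟩
        exact ⟨_, hnrm.conj_mem x hx ⟨g, hg⟩, rfl⟩
      simple := i.isSimpleGroup_congr.1 hS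
      cen := fun g hg h => by
        have h1 : (⟨g, hg⟩ : R) ∈ Subgroup.centralizer (S : Set R) := fun x hx => Subtype.ext (h _ ⟨x, hx, rfl⟩).symm
        rw [hR.cen, Subgroup.mem_bot] at h1
        exact congrArg Subtype.val h1 }
  have hreal : H902.Art.Real (.DD 4) p f (Nat.card S) := by
    rw [Nat.card_congr ε.toEquiv]
    exact H902.Names.ominus_real (m := 4) hp hf1 hf le_rfl hcd
  have hord : ∀ {u j : ℕ}, u.Prime → u ≠ 2 → u ^ j ∣ ((p ^ f) ^ 4 + 1) * ((p ^ f) ^ 6 - 1) → u ^ j ∣ Nat.card R := by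
    intro u j hu hu2 h
    have h1 : Nat.gcd 4 ((p ^ f) ^ 4 + 1) * Nat.card S = (p ^ f) ^ (4 * (4 - 1)) * (((p ^ f) ^ 4 + 1) *
        ∏ i ∈ Finset.range (4 - 1), ((p ^ f) ^ (2 * (i + 1)) - 1)) := hreal.eq
    simp only [Finset.prod_range_succ, Finset.range_zero, Finset.prod_empty, one_mul] at h1
    have h2 : u ^ j ∣ Nat.gcd 4 ((p ^ f) ^ 4 + 1) * Nat.card S := by
      rw [h1]
      exact h.trans ⟨(p ^ f) ^ 12 * (((p ^ f) ^ 2 - 1) * ((p ^ f) ^ 4 - 1)), by ring⟩
    have h3 : Nat.Coprime (u ^ j) (Nat.gcd 4 ((p ^ f) ^ 4 + 1)) :=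
      Nat.Coprime.coprime_dvd_right (Nat.gcd_dvd_left _ _)
        (Nat.Coprime.pow j 2 ((Nat.coprime_primes hu Nat.prime_two).2 hu2))
    exact (h3.dvd_of_dvd_mul_left h2).trans (Subgroup.card_subgroup_dvd_card S)
  have hq : p ^ a = (p ^ f) ^ 2 := by rw [← hK, hf]
  have hr : r ^ b ∣ Nat.card R := by
    refine hord hN.rb.prim.prime (by have := hN.rb.five; omega) (Dvd.dvd.mul_right ?_ _)
    have h1 := hN.rb.dvd
    rwa [mul_comm, pow_mul, hq, ← pow_mul] at h1
  have ht : t ∣ Nat.card R := by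
    have h1 := hord (j := 1) hN.t.prime (by have := hN.t.lt (by norm_num); omega) (Dvd.dvd.mul_left (by
      have h2 := (hN.t.dvd_iff (Nat.one_le_pow _ _ hp.pos) 3).2 dvd_rfl
      rwa [hq, ← pow_mul, ← pow_one t] at h2) _)
    rwa [pow_one] at h1
  have hcard : Nat.card R ≤ Nat.card F ^ 18 := by
    have h1 := H561.F34.lie_dvd hR.nab (.ominus 4 p f) ⟨K, inferInstance, inferInstance, c, d, hf, hcd, ⟨ε⟩⟩ hreal
    have h2 : Nat.card R ∣ Nat.card (MulAut S) := by
      refine Subgroup.card_dvd_of_injective (MulAut.conjNormal : R →* MulAut S) ((injective_iff_map_eq_one _).2 fun g hg => ?_)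
      have h3 : g ∈ Subgroup.centralizer (S : Set R) := fun x hx => by
        have h4 := congrArg Subtype.val (DFunLike.congr_fun hg ⟨x, hx⟩)
        rw [MulAut.conjNormal_apply] at h4
        exact (mul_inv_eq_iff_eq_mul.1 h4).symm
      rwa [hR.cen, Subgroup.mem_bot] at h3
    rw [hF, hq]
    refine (Nat.le_of_dvd ?_ (h2.trans h1)).trans (num_le hp.two_le hf1)
    rw [← hreal.eq]
    exact Nat.mul_pos (by omega) (Nat.mul_pos (Nat.gcd_pos_of_pos_left _ (by norm_num)) Nat.card_pos)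
  obtain ⟨ε'⟩ : Nonempty (S ≃* POmega K ⇑(minusForm 3 K c d)) := by
    have h1 : ∀ Q : ((Fin 3 ⊕ Fin 3) ⊕ Fin 2 → K) → K, Q = quadFormMinus 3 K c d → Nonempty (S ≃* POmega K Q) := by
      rintro _ rfl
      exact ⟨ε⟩
    exact h1 _ (coe_minusForm 3 K c d)
  by_contra hcon
  rw [not_or] at hcon
  refine not_all hN.rb.ha hF so hK hcd (i.symm.trans ε') fun α => ?_
  have hc : Nat.card (im α R) = Nat.card R := Subgroup.card_map_of_injective α.injective
  rcases hG F p a r b s k t hF hN (im α R) (hc ▸ hr) (hc ▸ ht) with h | h | h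
  · exact absurd h.of_im hcon.1
  · obtain ⟨M, τ, c', hτ, hM, hMM, hfix⟩ := exists_inv h
    refine absurd ⟨α⁻¹ * ph F M * α, so.le, so.conj, so.simple, fun hc => hR.nab ?_, cor so hR.core,
      ⟨α, M, τ, c', hτ, hM, hMM, by group⟩, fun h1 => ph_ne_one hτ hM ?_, ?_, fun x hx => ?_, hcard⟩ hcon.2
    · exact ⟨⟨fun x y => i.injective (by rw [map_mul, map_mul, hc.is_comm.comm])⟩⟩
    · calc ph F M = α * (α⁻¹ * ph F M * α) * α⁻¹ := by group
        _ = 1 := by rw [h1]; group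
    · calc _ = α⁻¹ * (ph F M * ph F M) * α := by group
        _ = 1 := by rw [← map_mul, hMM, map_one]; group
    · rw [MulAut.mul_apply, MulAut.mul_apply, hfix (α x) ⟨x, so.le hx, rfl⟩]
      exact α.symm_apply_apply x
  · exact h

end Cfsg.Agent.SM.O8
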