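import Cfsg.Agent.SM.O8.Defs
import Cfsg.Agent.H911.O8S.Own
import Cfsg.Agent.H929.UThreeSD

/-!
# SM (S3570), socle `PΩ⁺₈(q)`: the residual class in the own characteristic (helper8)
-/

set_option autoImplicit false
set_option linter.unusedSectionVars false

namespace Cfsg.Agent.SM.O8

namespace Own

open Cfsg Cfsg.Geo Cfsg.Agent.OrdDiv Cfsg.Agent.H436 Cfsg.Agent.H915.GN Cfsg.Agent.H264.GN Cfsg.Agent.H264.FKS
open Cfsg.Agent.H902 Cfsg.Agent.H902.Names Cfsg.Agent.H708.O8 Cfsg.Agent.H915.LD Cfsg.Agent.H884.El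
open Cfsg.Agent.H659.O8 Cfsg.Agent.H823.O8S
open Cfsg.Agent.H911.O8S (charP_of nd_plus mem_fix)
open Cfsg.Agent.H823.O8R (Sp6)
open scoped MatrixGroups Matrix

variable {p a t : ℕ} {g : Grp}

/-- a prime which does not divide the order of the outer automorphism group -/
theorem soc_of (hp : p.Prime) (ht : t.Prime) (h5 : 5 ≤ t) {R : Type} [Group R] [Finite R] (S : Subgroup R) [S.Normal]
    [IsSimpleGroup S] (hna : ¬ IsMulCommutative S) (hC : Subgroup.centralizer (S : Set R) = ⊥) (hn : IsNamed g S)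
    (hch : HasChar p g) {f : ℕ} (hf : 1 ≤ f) (hfl : fld g = p ^ f) (hft : f < t)
    (hd : ∀ X, IsLie g X p f → ¬ t ∣ Art.dd X (p ^ f)) (h : t ∣ Nat.card R) : t ∣ Nat.card S := by
  have h1 := h.trans (dvd_aut S hC)
  rw [← H934.OutB.card_out_mul S hna] at h1
  obtain ⟨X, f₁, h6, h7, h8⟩ := exists_lie hp hn hch
  obtain rfl : f₁ = f := Nat.pow_right_injective hp.two_le (h8.symm.trans hfl)
  refine (ht.dvd_mul.1 h1).resolve_left fun h9 => ?_
  obtain ⟨k, h10, h11, -⟩ := H364.OutLie.card_out (not_comm hna) h6 hn.real h7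
  rw [h10] at h9
  rcases ht.dvd_mul.1 h9 with h12 | h12
  · rcases ht.dvd_mul.1 (h12.trans h11) with h13 | h13
    · have h14 : t ∣ 2 ^ 3 * 3 := h13
      rcases ht.dvd_mul.1 h14 with h15 | h15
      · have := Nat.le_of_dvd (by norm_num) (ht.dvd_of_dvd_pow h15)
        omega
      · have := Nat.le_of_dvd (by norm_num) h15
        omega
    · exact hd X h6 h13
  · have := Nat.le_of_dvd (by omega) h12
    omega

/-- an odd prime divisor of `q ^ 2 + 1` -/
theorem dvd_num {n e : ℕ} (h : Num (p ^ a) n) (ht : Prim p e t) (h3 : 3 ≤ e) (h1 : e ∣ 2 * (a * 2)) (h2 : ¬ e ∣ a * 2) : t ∣ n := by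
  have h4 := (ht.dvd_add h1 h2).trans (pow_mul p a 2 ▸ h.2.1)
  exact (ht.prime.dvd_mul.1 h4).resolve_left (ht.not_dvd_two h3)

theorem two_mul_le (hp : p.Prime) (h4 : 4 ≤ p ^ a) : Nat.gcd 2 (p ^ a - 1) * (2 * a) ≤ p ^ a := by
  rcases hp.eq_two_or_odd' with rfl | ho
  · have ha : a ≠ 0 := by
      rintro rfl
      omega
    have h1 : Nat.gcd 2 (2 ^ a - 1) = 1 := by
      rw [Nat.coprime_two_left.2 (Nat.Even.sub_odd Nat.one_le_two_pow (even_two.pow_of_ne_zero ha) odd_one)]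
    obtain ⟨b, rfl⟩ := Nat.exists_eq_succ_of_ne_zero ha
    have := Nat.lt_two_pow_self (n := b)
    rw [h1, pow_succ]
    omega
  · have h1 : Nat.gcd 2 (p ^ a - 1) ≤ 2 := Nat.gcd_le_left _ two_pos
    have h3 : 3 ≤ p := by
      have := hp.two_le
      obtain ⟨c, hc⟩ := ho
      omega
    have h2 : 4 * a ≤ p ^ a := by
      rcases (show a ≤ 1 ∨ 2 ≤ a by omega) with h | h
      · omega
      · have h5 : ∀ b, 4 * (b + 2) ≤ 3 ^ (b + 2) := fun b => by
          induction b with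
          | zero => norm_num
          | succ b ih => rw [pow_succ 3 (b + 2)]; omega
        obtain ⟨b, rfl⟩ := Nat.exists_eq_add_of_le' h
        exact (h5 b).trans (Nat.pow_le_pow_left h3 _)
    calc _ ≤ 2 * (2 * a) := Nat.mul_le_mul_right _ h1
      _ ≤ _ := by omega

theorem l2_num {q c n d : ℕ} (h4 : 4 ≤ q) (h2 : (q ^ 2 - 1) * c = ((q ^ 2) ^ 2 - (q ^ 2) ^ 0) * ((q ^ 2) ^ 2 - (q ^ 2) ^ 1))
    (h3 : n ≤ 2 * a * c) (h5 : q ^ 3 * (q ^ 4 - 1) < d * n) (h6 : d * (2 * a) ≤ q) : False := by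
  have h7 : (q ^ 2 - 1) * c = (q ^ 2 - 1) * (q ^ 2 * (q ^ 4 - 1)) := by
    rw [h2, pow_zero, pow_one, ← pow_mul, show q ^ (2 * 2) - q ^ 2 = q ^ 2 * (q ^ 2 - 1) by rw [Nat.mul_sub, mul_one, ← pow_add]]
    ring
  have h9 : c = q ^ 2 * (q ^ 4 - 1) := Nat.eq_of_mul_eq_mul_left (Nat.sub_pos_of_lt (by nlinarith)) h7
  have h11 := (h5.trans_le ((Nat.mul_le_mul_left _ h3).trans_eq (mul_assoc _ _ _).symm)).trans_le (Nat.mul_le_mul_right c h6)
  rw [h9, ← mul_assoc, ← pow_succ'] at h11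
  exact lt_irrefl _ h11

section
variable {F : Type} [Field F] [Fintype F]

/-- **the order argument**: one exponent of the socle is `4 a` -/
theorem key (hp : p.Prime) (ha : 1 ≤ a) (hF : Nat.card F = p ^ a) {R : Subgroup (T8 F)} (S : Subgroup R) [S.Normal]
    [IsSimpleGroup S] (hna : ¬ IsMulCommutative S) (hC : Subgroup.centralizer (S : Set R) = ⊥)
    (hN : Num (p ^ a) (Nat.card R)) (hn : IsNamed g S) (hch : HasChar p g) :
    ∃ f, 1 ≤ f ∧ fld g = p ^ f ∧ f * Mg g ≤ 6 * a ∧ (∃ i, Xg g i ∧ f * i = 4 * a) ∧ (Yg g 4 → f * 6 ≠ 4 * a) := by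
  have hT8 : Nat.gcd 4 ((p ^ a) ^ 4 - 1) * Nat.card (T8 F) =
      (p ^ a) ^ (4 * (4 - 1)) * (((p ^ a) ^ 4 - 1) * prB (p ^ a) (4 - 1)) := by
    have h1 := oplus_eq (F := F) (m := 4) le_rfl
    rw [← Nat.card_eq_fintype_card, hF] at h1
    exact h1
  have hSR : Nat.card S ∣ Nat.card (T8 F) := (Subgroup.card_subgroup_dvd_card S).trans (Subgroup.card_subgroup_dvd_card R)
  have hT : TD p a (Nat.card S) (fun i => 1 ≤ i ∧ i ≤ 6 ∧ (2 ∣ i ∨ i = 4)) 6 12 := by
    refine td_oplus hp ha (n := 4) (by norm_num) (hSR.trans ?_)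
    rw [← hT8]
    exact Dvd.intro_left _ rfl
  obtain ⟨f, hf, hfl, hK, hY⟩ := kd_all hp hn.cond hch hn.eq
  have hM := top_le hp ha hK hY hT
  have h2M : f * 2 ≤ f * Mg g := Nat.mul_le_mul_left _ (H659.O8.two_le_Mg hn.cond hch)
  obtain ⟨r, hr⟩ := exists_prim (e := 4 * a) hp.two_le (by omega) (by omega)
  have h4 : 4 * a < r := lt_of_prim hr
  have h0 : p ^ (4 * a) - 1 ≠ 0 := Nat.sub_ne_zero_of_lt (Nat.one_lt_pow (by omega) hp.one_lt)
  have E : EX p a r _ := ⟨ha, hr, Nat.pow_succ_factorization_not_dvd h0 hr.prime⟩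
  have hrS := soc_of hp hr.prime (by omega) S hna hC hn hch hf hfl (by omega)
    (fun X hX => H659.O8.not_dvd_dd E (by omega) hn.cond hX hf hM)
    (dvd_num hN hr (by omega) ⟨1, by ring⟩ fun h => by have := Nat.le_of_dvd (by omega) h; omega)
  obtain ⟨i, hi, c, hc⟩ := hK.exp hr hrS
  obtain ⟨hi1, hi2⟩ := hK.le hi
  have h9 : f * i ≤ f * Mg g := Nat.mul_le_mul_left _ hi2
  have h10 : 0 < f * i := Nat.mul_pos hf hi1
  refine ⟨f, hf, hfl, hM, ⟨i, hi, ?_⟩, fun hY4 h6 => ?_⟩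
  · rcases (show c = 0 ∨ c = 1 ∨ 2 ≤ c by omega) with rfl | rfl | h3
    · omega
    · omega
    · have : 4 * a * 2 ≤ 4 * a * c := Nat.mul_le_mul_left _ h3
      omega
  · obtain ⟨t, ht⟩ := exists_prim (e := f * 4) hp.two_le (by omega) (by omega)
    obtain ⟨j, ⟨h1, h2, h3⟩, d, hd⟩ := hT.exp ht (hK.has hY4 (by omega) ht)
    obtain ⟨b, rfl⟩ : ∃ b, f = 2 * b := ⟨f / 2, by omega⟩
    obtain rfl : a = 3 * b := by omega
    have h7 : 3 * j = 8 * d := Nat.eq_of_mul_eq_mul_left (show 0 < b by omega) (by linarith)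
    omega

set_option maxHeartbeats 2000000 in
theorem own (hp : p.Prime) (h4 : 4 ≤ p ^ a) (hF : Nat.card F = p ^ a) {R : Subgroup (T8 F)} (hR : R ≠ ⊤)
    (S : Subgroup R) [S.Normal] (hS : IsSimpleGroup S) (hna : ¬ IsMulCommutative S)
    (hC : Subgroup.centralizer (S : Set R) = ⊥) {P : Subgroup (GL I8 F)}
    (hP : IsResidualCore (pre (quadFormPlus 4 F) R) P) (e : S ≃* H915.LD.Soc P) (hL : IsLieTypeChar p (H915.LD.Soc P))
    (hN : Num (p ^ a) (Nat.card R)) : Sp6 p a S ∨ Om8 (p ^ a) S := by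
  have ha : 1 ≤ a := Nat.pos_of_ne_zero (by rintro rfl; rw [pow_zero] at h4; omega)
  have hpf : Fact p.Prime := ⟨hp⟩
  have hch : CharP F p := charP_of hp hF
  have hcore := core_of_residual hP
  have hs := hcore.simple
  have h8 : Fintype.card I8 = 8 := by rw [Fintype.card_sum, Fintype.card_fin]
  have nd := nd_plus 4 F
  have hle : P ≤ omegaGL (quadFormPlus 4 F) := hP.le.trans pre_le_omegaGL
  have hfix : FixesQuadForm (matrixSet P) (quadFormPlus 4 F) := by
    rintro _ ⟨x, hx, rfl⟩ v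
    exact mem_fix (hle hx) v
  have hFQ : FixQ P := ⟨_, nd, hfix⟩
  have hsd : SD P := H879.Nine.sd_of_fixQ hFQ
  -- the exponent from a name
  have K1 : ∀ {g : Grp}, IsNamed g S → HasChar p g → ∃ f, 1 ≤ f ∧ fld g = p ^ f ∧ f * Mg g ≤ 6 * a ∧
      (∃ i, Xg g i ∧ f * i = 4 * a) ∧ (Yg g 4 → f * 6 ≠ 4 * a) := fun hn hc => key hp ha hF S hna hC hN hn hc
  have inj : ∀ {f f' : ℕ}, p ^ f = p ^ f' → f = f' := fun h => Nat.pow_right_injective hp.two_le h
  have hFc : Fintype.card F = p ^ a := by rw [← Nat.card_eq_fintype_card]; exact hF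
  let ε : I8 ≃ Fin 8 := Fintype.equivFinOfCardEq h8
  rcases H905.Md.small_dc (p := p) hcore.absIrred.1 hcore.perfect hL (by rw [h8]; norm_num) with
    h' | h' | h' | h' | h' | h' | h' | h' | h' | h' | h'
  · obtain ⟨K, i1, i2, i3, l, hl, hK, ⟨e'⟩⟩ := h'
    have hn : IsNamed (.psl (l + 1) (Fintype.card K)) S := by
      refine .mk' ⟨K, inferInstance, inferInstance, rfl, ⟨e.trans e'⟩⟩
        ⟨by omega, fun h => by rw [← Nat.card_eq_fintype_card]; exact hK (by omega), Fintype.isPrimePow_card_of_field⟩ ?_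
      rw [Nat.card_congr (e.trans e').toEquiv]
      exact psl_eq (by omega)
    obtain ⟨f, hf, hfl, hM, ⟨i, hi, hfi⟩, -⟩ := K1 hn (exists_pow_card K)
    have hfl' : Fintype.card K = p ^ f := hfl
    have hM' : f * (l + 1) ≤ 6 * a := hM
    have hi' : 1 ≤ i ∧ i ≤ l + 1 := hi
    rcases (show l = 1 ∨ l = 2 ∨ 3 ≤ l by omega) with rfl | rfl | hl3
    · exfalso
      obtain rfl : f = 2 * a := by rcases (show i = 1 ∨ i = 2 by omega) with rfl | rfl <;> omega
      have hq : p ^ (2 * a) = (p ^ a) ^ 2 := by rw [← pow_mul, mul_comm]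
      have h1 := S0813.result p (2 * a) hf hfl' 2 le_rfl fun _ => h4.trans (Nat.pow_le_pow_right hp.pos (by omega))
      have h2 := S0243.result (F := K) (hfl'.trans hq) 2 le_rfl
      rw [H364.OutLie.card_pgl le_rfl, ← H364.OutLie.mulaut_congr (e.trans e'), if_pos rfl, one_mul, hfl', hq] at h1
      rw [Fin.prod_univ_two, mul_left_comm] at h2
      exact l2_num h4 h2 (h1 ▸ Nat.le_of_dvd Nat.card_pos (dvd_aut S hC)) hN.2.2 (two_mul_le hp h4)
    · exfalso
      obtain ⟨h1, -⟩ := H911.Ad.sd_psl3 (p := p) hcore hsd e' (by rw [h8]; norm_num)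
      rw [Nat.card_eq_fintype_card, Nat.card_eq_fintype_card, hfl', hFc] at h1
      obtain rfl := inj h1
      have : a * i ≤ a * 3 := Nat.mul_le_mul_left _ hi'.2
      omega
    · exfalso
      rcases (show l + 1 < 8 ∨ l + 1 = 8 ∨ 9 ≤ l + 1 by omega) with h2 | h2 | h2
      · have := (H887.DS.sd_of_psl p hcore (m := l + 1) (by omega) (by rw [h8]; exact h2) (by rw [h8]; omega) e').2.1
        omega
      · have hc' : Core (H879.Rx.rx ε P) := H879.Rx.core_rx ε hcore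
        have := hc'.simple
        have h1 := H905.Md.psl_eq p hc'.absIrred hc'.perfect hl hK ((H879.Rx.socEqv ε P).symm.trans e') hc'.no_subfield h2.symm
        have h3 := h1.1
        rw [Nat.card_eq_fintype_card, Nat.card_eq_fintype_card, hfl', hFc] at h3
        have := inj h3
        subst this
        rw [h2] at hM'
        omega
      · have h1 := H905.Md.psl_rank p hcore.absIrred hcore.perfect hl hK e'
        rw [h8] at h1
        omega
  · obtain ⟨K, i1, i2, i3, m, hm, hm8, hK, ⟨e'⟩⟩ := h'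
    rw [h8] at hm8
    have hn : IsNamed (.psp m (Fintype.card K)) S := by
      refine .mk' ⟨K, inferInstance, inferInstance, rfl, ⟨e.trans e'⟩⟩
        ⟨by omega, hK, Fintype.isPrimePow_card_of_field⟩ ?_
      rw [Nat.card_congr (e.trans e').toEquiv]
      exact psp_eq hm
    obtain ⟨f, hf, hfl, hM, ⟨i, hi, hfi⟩, hY⟩ := K1 hn (exists_pow_card K)
    have hfl' : Fintype.card K = p ^ f := hfl
    have hM' : f * (2 * m) ≤ 6 * a := hM
    have hi' : 1 ≤ i ∧ i ≤ 2 * m ∧ 2 ∣ i := hi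
    rcases (show m = 2 ∨ m = 3 ∨ m = 4 by omega) with rfl | rfl | rfl
    · exfalso
      obtain ⟨-, -, h1⟩ := H905.Sp4.core_psp4 (p := p) hcore (by rw [Nat.card_eq_fintype_card]; exact hK rfl) e'
        (by rw [h8]; norm_num)
      rw [h8] at h1
      omega
    · have hY' := hY ⟨by norm_num, by norm_num, by norm_num⟩
      refine Or.inl (Or.inl ⟨K, i1, i2, ?_, ⟨e.trans e'⟩⟩)
      rw [hfl']
      congr 1
      rcases (show i = 2 ∨ i = 4 ∨ i = 6 by omega) with rfl | rfl | rfl <;> omega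
    · exfalso
      obtain ⟨-, h1⟩ := H925.Nat.psp (p := p) hcore (by rw [h8]; norm_num) le_rfl (by norm_num) e'
      exact h1.sp_not_fixQ (by norm_num) hFQ
  · obtain ⟨K, i1, i2, i3, N, q, hKq, hN3, hN8, hq, ⟨e'⟩⟩ := h'
    rcases (show N = 3 ∨ N = 4 ∨ 5 ≤ N by omega) with rfl | rfl | hN5
    · exfalso
      have hq2 : IsPrimePow (q ^ 2) := hKq ▸ Fintype.isPrimePow_card_of_field
      have hqp : IsPrimePow q := (isPrimePow_pow_iff (by norm_num)).1 hq2
      obtain ⟨k', hk'⟩ := exists_pow_card (p := p) K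
      have hn : IsNamed (.psu 3 q) S := by
        refine .mk' ⟨K, inferInstance, inferInstance, hKq, ⟨e.trans e'⟩⟩ ⟨le_rfl, hq, hqp⟩ ?_
        rw [Nat.card_congr (e.trans e').toEquiv]
        exact psu_eq hKq hN3
      obtain ⟨f, hf, hfl, -, ⟨i, hi, hfi⟩, -⟩ := K1 hn (exists_pow hp two_ne_zero (hKq.symm.trans hk'))
      have hfl' : q = p ^ f := hfl
      have h3 : 3 ≤ q := by
        have := hqp.two_le
        omega
      have h1 := H929.U3.card_psu3_sd p hcore hsd h3 hKq e' (by rw [h8]; norm_num)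
      obtain rfl := inj (hF.symm.trans (h1.trans hfl'))
      obtain rfl : i = 4 := Nat.eq_of_mul_eq_mul_left hf (by omega)
      rcases (hi : XU 3 4) with h | ⟨j, h⟩ <;> omega
    · exfalso
      have := H876.D3.core_psu_four p K (by rw [h8]; norm_num) hKq hcore e'
      rw [h8] at this
      omega
    · exfalso
      have hc' : Core (H879.Rx.rx ε P) := H879.Rx.core_rx ε hcore
      exact H879.Nine.own_psu (p := p) (by norm_num) hc' (H879.Rx.sd_rx ε hsd) hN5 hKq
        ((H879.Rx.socEqv ε P).symm.trans e')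
  · exfalso
    obtain ⟨rfl, K, i1, i2, m, hm, hK, ⟨e'⟩⟩ := h'
    exact H861.SzN.sz_false hcore hm hK e' (by rw [h8]; norm_num) (by rw [h8]; norm_num)
  · exfalso
    obtain ⟨rfl, K, i1, i2, m, hm, hK, ⟨e'⟩⟩ := h'
    have := H708.ReeSix.ree_eq_seven hcore hm hK e' (by rw [h8]; norm_num)
    rw [h8] at this
    omega
  · obtain ⟨K, i1, i2, i3, m, hm, hm8, hodd, ⟨e'⟩⟩ := h'
    rw [h8] at hm8
    have h2 : (2 : K) ≠ 0 := by
      intro h0
      have h3 : CharP K 2 := CharTwo.of_one_ne_zero_of_two_eq_zero one_ne_zero h0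
      obtain ⟨k, -, hk⟩ := FiniteField.card K 2
      rw [hk] at hodd
      exact absurd hodd (by
        rw [Nat.not_odd_iff_even]
        exact (even_two).pow_of_ne_zero k.ne_zero)
    rcases (show m = 3 ∨ m = 4 by omega) with rfl | rfl
    · have hn : IsNamed (.oodd 3 (Fintype.card K)) S := by
        refine .mk' ⟨K, inferInstance, inferInstance, rfl, ⟨e.trans e'⟩⟩
          ⟨le_rfl, hodd, Fintype.isPrimePow_card_of_field⟩ ?_
        rw [Nat.card_congr (e.trans e').toEquiv]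
        exact oodd_eq le_rfl hodd
      obtain ⟨f, hf, hfl, hM, ⟨i, hi, hfi⟩, hY⟩ := K1 hn (exists_pow_card K)
      have hfl' : Fintype.card K = p ^ f := hfl
      have hM' : f * (2 * 3) ≤ 6 * a := hM
      have hi' : 1 ≤ i ∧ i ≤ 2 * 3 ∧ 2 ∣ i := hi
      have hY' := hY ⟨by norm_num, by norm_num, by norm_num⟩
      refine Or.inl (Or.inr ⟨?_, K, i1, i2, ?_, ⟨e.trans e'⟩⟩)
      · rintro rfl
        exact h2 (by exact_mod_cast CharP.cast_eq_zero K 2)
      · rw [hfl']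
        congr 1
        rcases (show i = 2 ∨ i = 4 ∨ i = 6 by omega) with rfl | rfl | rfl <;> omega
    · exfalso
      have h1 := (H925.Nat.po_odd (p := p) hcore (by rw [h8]; norm_num) le_rfl (by norm_num) h2 e').2.card_eq
      simp at h1
  · exfalso
    obtain ⟨K, i1, i2, i3, m, hm, hm8, ⟨e'⟩⟩ := h'
    rw [h8] at hm8
    obtain rfl : m = 4 := by omega
    have hn : IsNamed (.oplus 4 (Fintype.card K)) S := by
      refine .mk' ⟨K, inferInstance, inferInstance, rfl, ⟨e.trans e'⟩⟩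
        ⟨le_rfl, Fintype.isPrimePow_card_of_field⟩ ?_
      rw [Nat.card_congr (e.trans e').toEquiv]
      exact oplus_eq le_rfl
    obtain ⟨f, hf, hfl, hM, ⟨i, hi, hfi⟩, hY⟩ := K1 hn (exists_pow_card K)
    have hfl' : Fintype.card K = p ^ f := hfl
    have hM' : f * (2 * (4 - 1)) ≤ 6 * a := hM
    have hi' : 1 ≤ i ∧ i ≤ 2 * (4 - 1) ∧ (2 ∣ i ∨ i = 4) := hi
    have hY' := hY ⟨by norm_num, by norm_num, by norm_num⟩
    obtain rfl : f = a := by rcases (show i = 2 ∨ i = 4 ∨ i = 6 by omega) with rfl | rfl | rfl <;> omega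
    have h1 : Nat.gcd 4 ((p ^ f) ^ 4 - 1) * Nat.card S =
        (p ^ f) ^ (4 * (4 - 1)) * (((p ^ f) ^ 4 - 1) * prB (p ^ f) (4 - 1)) := by
      have := hn.eq
      rw [hfl'] at this
      exact this
    have hT8 : Nat.gcd 4 ((p ^ f) ^ 4 - 1) * Nat.card (T8 F) =
        (p ^ f) ^ (4 * (4 - 1)) * (((p ^ f) ^ 4 - 1) * prB (p ^ f) (4 - 1)) := by
      have h1 := oplus_eq (F := F) (m := 4) le_rfl
      rw [hFc] at h1
      exact h1
    rw [← hT8] at h1
    have h2 : Nat.card S = Nat.card (T8 F) :=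
      Nat.eq_of_mul_eq_mul_left (Nat.gcd_pos_of_pos_left _ (by norm_num)) h1
    have h3 : Nat.card S ≤ Nat.card R := Nat.le_of_dvd Nat.card_pos (Subgroup.card_subgroup_dvd_card S)
    exact hR (Subgroup.eq_top_of_le_card R (h2 ▸ h3))
  · obtain ⟨K, i1, i2, i3, m, b, c, hm, hm8, hab, ⟨e'⟩⟩ := h'
    rw [h8] at hm8
    rcases (show m = 4 ∨ m = 5 by omega) with rfl | rfl
    · have hn : IsNamed (.ominus 4 (Fintype.card K)) S := by
        refine .mk' ⟨K, inferInstance, inferInstance, b, c, rfl, hab, ⟨e.trans e'⟩⟩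
          ⟨le_rfl, Fintype.isPrimePow_card_of_field⟩ ?_
        rw [Nat.card_congr (e.trans e').toEquiv]
        exact ominus_eq le_rfl hab
      obtain ⟨f, hf, hfl, hM, ⟨i, hi, hfi⟩, hY⟩ := K1 hn (exists_pow_card K)
      have hfl' : Fintype.card K = p ^ f := hfl
      have hM' : f * (2 * 4) ≤ 6 * a := hM
      have hi' : 1 ≤ i ∧ i ≤ 2 * 4 ∧ 2 ∣ i := hi
      have hY' := hY ⟨by norm_num, by norm_num, by norm_num⟩
      refine Or.inr ⟨K, i1, i2, b, c, ?_, hab, ⟨e.trans e'⟩⟩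
      rw [hfl', ← pow_mul]
      congr 1
      rcases (show i = 2 ∨ i = 4 ∨ i = 6 ∨ i = 8 by omega) with rfl | rfl | rfl | rfl <;> omega
    · exfalso
      obtain ⟨τ, h1⟩ := H925.Nat.po_minus (p := p) hcore (by rw [h8]; norm_num) (m := 4) le_rfl (by norm_num) hab e'
      have := h1.card_eq
      simp at this
  · exfalso
    obtain ⟨-, K, i1, i2, i3, hK, ⟨e'⟩⟩ := h'
    have := (H927.G2.core_g2 p hcore (by rw [Nat.card_eq_fintype_card]; exact hK) e' (by rw [h8]; norm_num)).2.2.2.2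
    rw [h8] at this
    omega
  · exfalso
    obtain ⟨-, K, i1, i2, i3, q, hq, hK, ⟨e'⟩⟩ := h'
    obtain ⟨-, h1, -⟩ := H392.TD.d4_small p hcore hq hK e' (by rw [h8]; norm_num)
    obtain ⟨k', hk'⟩ := exists_pow_card (p := p) K
    have T : OrderTable.{0} := table
    have hn : IsNamed (.td4 q) S := by
      refine .mk' ⟨K, inferInstance, inferInstance, hK, ⟨e.trans e'⟩⟩ hq ?_
      rw [Nat.card_congr (e.trans e').toEquiv]
      change 1 * _ = _ ^ 12 * _
      rw [T.td4 K q hq hK]; ring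
    have hc := exists_pow hp three_ne_zero (hK.symm.trans hk')
    obtain ⟨f, hf, hfl, -⟩ := K1 hn hc
    have hfl' : q = p ^ f := hfl
    rw [hF, hfl', ← pow_mul] at h1
    obtain rfl := inj h1
    obtain ⟨t, ht⟩ := exists_prim (e := f * 4) hp.two_le (by omega) (by omega)
    have h2 := lt_of_prim ht
    have h3 := soc_of hp ht.prime (by omega) S hna hC hn hc hf hfl (by omega)
      (fun X hX => by
        rw [hfl'] at hX
        generalize hg : Grp.td4 (p ^ f) = g at hX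
        cases hX <;> first | exact Grp.noConfusion hg | exact fun h => ht.prime.ne_one (Nat.dvd_one.1 h))
      (dvd_num hN ht (by omega) ⟨3, by ring⟩ fun ⟨c, hc⟩ => by
        have : 3 = 2 * c := Nat.eq_of_mul_eq_mul_left (show 0 < f * 2 by omega) (by linarith)
        omega)
    rw [Nat.card_congr (e.trans e').toEquiv, T.td4 K q hq hK, hfl'] at h3
    simp only [← pow_mul] at h3
    have h5 : ∀ j, ¬ 4 ∣ j → ¬ t ∣ p ^ (f * j) - 1 := fun j hj h => hj (Nat.dvd_of_mul_dvd_mul_left hf ((ht.dvd_iff _).1 h))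
    rcases ht.prime.dvd_mul.1 h3 with h6 | h6
    · rcases ht.prime.dvd_mul.1 h6 with h7 | h7
      · exact (ht.prime.dvd_mul.1 h7).elim (ht.not_dvd_pow _) (h5 2 (by norm_num))
      · exact h5 6 (by norm_num) h7
    · have h7 := ht.dvd (m := f * 4) dvd_rfl
      have h9 := ht.dvd (m := f * 8) ⟨2, by ring⟩
      have h10 : 1 ≤ p ^ (f * 4) := Nat.one_le_pow _ _ hp.pos
      have h11 : 1 ≤ p ^ (f * 8) := Nat.one_le_pow _ _ hp.pos
      rw [show p ^ (f * 8) + p ^ (f * 4) + 1 = (p ^ (f * 8) - 1) + (p ^ (f * 4) - 1) + 3 by omega] at h6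
      have := Nat.le_of_dvd (by norm_num) ((Nat.dvd_add_right (dvd_add h9 h7)).1 h6)
      omega
  · exfalso
    obtain ⟨-, hp2, h'⟩ := h'
    have := H927.LDTwF4.card_le_iso hp2 hcore.perfect h'
    rw [h8] at this
    omega

end

end Own

/-- **residual class, own characteristic** -/
theorem boxOwn : BoxOwn := fun _ _ _ _ _ hp h4 hF _ S _ h hL hN =>
  have := h.nrm
  h.iso.elim fun e => Own.own hp h4 hF h.ne S h.simple h.nab h.cen h.core e hL hN

end Cfsg.Agent.SM.O8
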