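import Cfsg.Agent.H372.O8R.DataSp

/-!
# SM (S3570), socle `PΩ⁺₈(q)`, box SPIN: the data of `PSp₆(q)` for `q ≥ 4` (helper30; copy of `H372/O8R/DataSp`, `data_sp`)
-/

set_option autoImplicit false
set_option linter.unusedSectionVars false

namespace Cfsg.Agent.SM.O8.Spn

open Cfsg Matrix Cfsg.Agent.ClassicalGeometry.SympBasic Cfsg.Agent.LieClassical.SympPerfect Cfsg.Agent.H953.O8R
open Cfsg.Agent.H372.O8R.DSp
open scoped commutatorElement

variable {K : Type} [Field K] [Fintype K] {n : ℕ}

/-- an element of `SL₂(q)` of order `(q + 1) / (2, q - 1)` -/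
theorem exists_tau4 (hq : 4 ≤ Fintype.card K) (hn : n * Nat.gcd 2 (Fintype.card K - 1) = Fintype.card K + 1) :
    ∃ τ : Matrix.SpecialLinearGroup (Fin 2) K, τ ^ n = 1 ∧ τ ^ 2 ≠ 1 := by
  obtain ⟨a, -, ha, -⟩ := Cfsg.Agent.ClassicalGeometry.NonsplitTorus.exists_torus_TI K
  refine ⟨a ^ Nat.gcd 2 (Fintype.card K - 1), ?_, ?_⟩
  · rw [← pow_mul, mul_comm, hn, ← ha, pow_orderOf_eq_one]
  · intro h
    rw [← pow_mul] at h
    have h1 := orderOf_dvd_of_pow_eq_one h
    rw [ha] at h1
    have h2 : Nat.gcd 2 (Fintype.card K - 1) ≤ 2 := Nat.gcd_le_left _ two_pos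
    have h3 : 0 < Nat.gcd 2 (Fintype.card K - 1) := Nat.gcd_pos_of_pos_left _ two_pos
    have := Nat.le_of_dvd (by omega) h1
    omega

theorem exists_l4 (hq : 4 ≤ Fintype.card K) : ∃ l : K, l ≠ 0 ∧ l ^ 2 ≠ 1 := by
  classical
  by_contra hcon
  push Not at hcon
  have h1 : (Finset.univ : Finset K) ⊆ {0, 1, -1} := by
    intro x _
    simp only [Finset.mem_insert, Finset.mem_singleton]
    by_cases hx : x = 0
    · exact Or.inl hx
    · exact Or.inr (mul_self_eq_one_iff.1 (by rw [← pow_two]; exact hcon x hx))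
  have h2 := Finset.card_le_card h1
  have h3 : ({0, 1, -1} : Finset K).card ≤ 3 := Finset.card_le_three
  rw [Finset.card_univ] at h2
  omega

/-- **DATA-SP** -/
theorem data_sp4 (hq : 4 ≤ Fintype.card K) (hn : n * Nat.gcd 2 (Fintype.card K - 1) = Fintype.card K + 1) :
    ∃ (t : Fin 3 → PSp 3 K) (L M : Fin 3 → Subgroup (PSp 3 K)), H953.O8R.DSp (PSp 3 K) n t L M := by
  obtain ⟨τ, hτn, hτ2⟩ := exists_tau4 hq hn
  have hl := exists_l4 hq
  let g : Fin 3 → G 3 K := fun i => pm (Equiv.swap 0 i)
  let M' : Fin 3 → Subgroup (G 3 K) := fun i => T {i}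
  let L' : Fin 3 → Subgroup (G 3 K) := fun i => T {i}ᶜ
  have hgM : ∀ i, (M' 0).map (MulAut.conj (g i)).toMonoidHom = M' i := fun i => pm_conj fun j => by
    rw [Set.mem_singleton_iff, Set.mem_singleton_iff]
    constructor
    · intro h
      have := congrArg (Equiv.swap 0 i) h
      rwa [Equiv.swap_apply_self, Equiv.swap_apply_left] at this
    · rintro rfl
      exact Equiv.swap_apply_right _ _
  have hgL : ∀ i, (L' 0).map (MulAut.conj (g i)).toMonoidHom = L' i := fun i => pm_conj fun j => by
    rw [Set.mem_compl_iff, Set.mem_compl_iff, Set.mem_singleton_iff, Set.mem_singleton_iff]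
    apply not_congr
    constructor
    · intro h
      have := congrArg (Equiv.swap 0 i) h
      rwa [Equiv.swap_apply_self, Equiv.swap_apply_left] at this
    · rintro rfl
      exact Equiv.swap_apply_right _ _
  let t' : Fin 3 → G 3 K := fun i => g i * emb τ * (g i)⁻¹
  have ht0 : emb τ ∈ M' 0 := mem_T_of_fix fun v hv => emb_fix τ hv
  have htM : ∀ i, t' i ∈ M' i := fun i => by
    rw [← hgM i]
    exact ⟨_, ht0, rfl⟩
  have hle : ∀ i j, i ≠ j → M' j ≤ L' i := fun i j hij => T_mono (by
    intro k hk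
    rw [Set.mem_singleton_iff] at hk
    subst hk
    exact fun h => hij (Set.mem_singleton_iff.1 h).symm)
  have hcent : ∀ i, ∀ x ∈ L' i, ∀ y ∈ M' i, x * y = y * x := fun i x hx y hy => T_comm disjoint_compl_left hx hy
  have hc12 : ∀ x ∈ M' 1, ∀ y ∈ M' 2, x * y = y * x := fun x hx y hy => T_comm (by simp) hx hy
  have hmap : ∀ (X : Subgroup (G 3 K)), ⁅X, X⁆ = X → ⁅X.map (qm K), X.map (qm K)⁆ = X.map (qm K) := fun X hX => by
    rw [← Subgroup.map_commutator, hX]
  have hgt0 : g 0 = 1 := by
    apply ext_mulVec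
    intro x
    funext i
    have h1 : ((1 : G 3 K).1 *ᵥ x) = x := Matrix.one_mulVec x
    rw [h1]
    rcases i with i | i
    · rw [pm_inl]
      simp
    · rw [pm_inr]
      simp
  have ht0' : t' 0 = emb τ := by
    change g 0 * emb τ * (g 0)⁻¹ = emb τ
    rw [hgt0]
    group
  -- the normal closures
  have htop : ∀ j : Fin 3, j ≠ 0 → ∀ N : Subgroup (PSp 3 K), N ≤ (L' 0).map (qm K) →
      (∀ g ∈ (L' 0).map (qm K), ∀ x ∈ N, g * x * g⁻¹ ∈ N) → (M' j).map (qm K) ≤ N → N = (L' 0).map (qm K) := by
    intro j hj N hN hN2 hN3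
    apply le_antisymm hN
    rw [Subgroup.map_le_iff_le_comap]
    refine T_top (I := {0}ᶜ) (J := {j}) ?_ (Set.mem_singleton j) ?_ ?_
    · intro k hk
      rw [Set.mem_singleton_iff] at hk
      subst hk
      exact hj
    · intro a ha x hx
      rw [Subgroup.mem_comap] at hx ⊢
      rw [map_mul, map_mul, map_inv]
      exact hN2 _ ⟨a, ha, rfl⟩ _ hx
    · rw [← Subgroup.map_le_iff_le_comap]
      exact hN3
  refine ⟨fun i => qm K (t' i), fun i => (L' i).map (qm K), fun i => (M' i).map (qm K), ?_⟩
  have hcom : ∀ X Y : Subgroup (G 3 K), (∀ x ∈ X, ∀ y ∈ Y, x * y = y * x) →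
      ∀ x ∈ X.map (qm K), ∀ y ∈ Y.map (qm K), x * y = y * x := by
    rintro X Y h _ ⟨x, hx, rfl⟩ _ ⟨y, hy, rfl⟩
    rw [← map_mul, h x hx y hy, map_mul]
  exact
    { rot :=
        { pow := fun i => by
            rw [← map_pow]
            have h1 : t' i ^ n = 1 := by
              change (g i * emb τ * (g i)⁻¹) ^ n = 1
              rw [conj_pow, ← map_pow, hτn, map_one, mul_one, mul_inv_cancel]
            rw [h1, map_one]
          sq := fun i h => by
            rw [← map_pow] at h
            have h1 : t' i ^ 2 ∈ Subgroup.center (G 3 K) := (QuotientGroup.eq_one_iff _).1 h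
            have h2 : emb τ ^ 2 ∈ Subgroup.center (G 3 K) := by
              have h3 : emb τ ^ 2 = (g i)⁻¹ * t' i ^ 2 * (g i)⁻¹⁻¹ := by
                change _ = (g i)⁻¹ * (g i * emb τ * (g i)⁻¹) ^ 2 * (g i)⁻¹⁻¹
                rw [conj_pow]
                group
              rw [h3]
              exact Subgroup.Normal.conj_mem inferInstance _ h1 _
            obtain ⟨c, hc⟩ := (LieClassical.SympCenter.mem_center_iff 3 _).1 h2
            have h3 : (emb τ ^ 2).1 *ᵥ (Pi.single (Sum.inl 1) 1 : V 3 K) = Pi.single (Sum.inl 1) 1 := by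
              rw [← map_pow]
              exact emb_fix _ (su_inl (by simp))
            rw [hc, Matrix.smul_mulVec, Matrix.one_mulVec] at h3
            have h4 := congrFun h3 (Sum.inl 1)
            rw [Pi.smul_apply, Pi.single_eq_same, smul_eq_mul, mul_one] at h4
            rw [h4, one_smul] at hc
            have h5 : emb τ ^ 2 = 1 := Subtype.ext hc
            rw [← map_pow, ← map_one emb] at h5
            exact hτ2 (emb_injective h5)
          perf := fun i => hmap _ (T_perf hl)
          cent := by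
            rintro i _ ⟨x, hx, rfl⟩
            rw [← map_mul, ← map_mul, hcent i x hx _ (htM i)]
          mem := fun i j hij => ⟨_, hle i j hij (htM j), rfl⟩
          conj := fun i => by
            refine ⟨qm K (g i), ?_, ?_⟩
            · rw [ht0']
              change qm K (g i * emb τ * (g i)⁻¹) = _
              rw [map_mul, map_mul, map_inv]
            · change (L' i).map (qm K) = ((L' 0).map (qm K)).map (MulAut.conj (qm K (g i))).toMonoidHom
              rw [← hgL i, Subgroup.map_map, Subgroup.map_map]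
              congr 1
          A_le := Subgroup.map_mono (hle 0 1 (by decide))
          B_le := Subgroup.map_mono (hle 0 2 (by decide))
          comm := hcom _ _ hc12
          A_perf := hmap _ (T_perf hl)
          B_perf := hmap _ (T_perf hl)
          A_top := htop 1 (by decide)
          B_top := htop 2 (by decide) }
      perf := fun i => hmap _ (T_perf hl)
      mem := fun i => ⟨_, htM i, rfl⟩
      cent := fun i => hcom _ _ (hcent i)
      le := fun i j hij => Subgroup.map_mono (hle i j hij)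
      top := by
        change (L' 0).map (qm K) ⊔ (L' 1).map (qm K) = ⊤
        rw [← Subgroup.map_sup]
        change (T (K := K) ({0}ᶜ : Set (Fin 3)) ⊔ T ({1}ᶜ : Set (Fin 3))).map (qm K) = ⊤
        rw [sup_top]
        exact Subgroup.map_top_of_surjective _ (QuotientGroup.mk'_surjective _) }

end Cfsg.Agent.SM.O8.Spn
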