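import Cfsg.Agent.H36.O8R.DataOmFin
import Cfsg.Agent.SM.O8.SpinSp

/-!
# SM (S3570), socle `PΩ⁺₈(q)`, box SPIN: the data of `Ω₇(q)` for odd `q ≥ 5` (helper30)

Copies of `H292.O8R.rot_seven`, `rot_all`, `H466.O8R.exists_link`, `om_sg`, `H36.O8R.data_om`; the five conjugates of `M` are linked
by the planes `⟨w, u i ± l v i⟩`, `l² ≠ 0, 1` (for `q = 5` these planes are anisotropic).
-/

set_option autoImplicit false
set_option linter.unusedSectionVars false

namespace Cfsg.Agent.SM.O8.Spn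

open Module QuadraticMap Cfsg Cfsg.Agent.LieClassical.OrthCore Cfsg.Agent.LieClassical.OrthTrans
  Cfsg.Agent.LieClassical.OrthFinite Cfsg.Agent.H466.O8R Cfsg.Agent.H36.Om7 Cfsg.Agent.H292.O8R
open Cfsg.Agent.H953.O8R (cj DOm)

section rot

variable {K V : Type*} [Field K] [AddCommGroup V] [Module K V] {Q : QuadraticForm K V}
  {b : Basis (Fin 3 ⊕ Fin 3 ⊕ Unit) K V} {β γ : K}

/-- **the rotation data** -/
theorem rot_seven4 [Fintype K] (hodd : Odd (Fintype.card K)) (h16 : 4 ≤ Fintype.card K) {n : ℕ}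
    (hn : n * Nat.gcd 2 (Fintype.card K - 1) = Fintype.card K + 1) (h : OB Q b (nm β γ)) (hγ : γ ≠ 0)
    (hβ : ∀ x y : K, x ^ 2 + β * y ^ 2 = 0 → x = 0 ∧ y = 0) :
    ∃ (t : Fin 3 → V ≃ₗ[K] V) (c : V ≃ₗ[K] V), c ∈ O Q ∧ c ^ 3 = 1 ∧
      (∀ i k, (c ^ ((i : Fin 3) : ℕ)) (b (.inl k)) = b (.inl (k + i))) ∧
      (∀ i k, (c ^ ((i : Fin 3) : ℕ)) (b (.inr (.inl k))) = b (.inr (.inl (k + i)))) ∧
      (∀ i, t i = c ^ (i : ℕ) * t 0 * (c ^ (i : ℕ))⁻¹) ∧
      (∀ i : Fin 3, Om Q (Pl b i) = (Om Q (Pl b 0)).map (MulAut.conj (c ^ (i : ℕ))).toMonoidHom) ∧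
      (∀ i, t i ^ n = 1) ∧ (∀ i, t i ^ 2 ≠ 1) ∧
      (∀ i, ∀ x ∈ PW Q (Pl b i), x * t i = t i * x) ∧
      (∀ i (X : Submodule K V), X ≤ Pc Q b i → t i ∈ Om Q X) ∧
      (∀ i j, i ≠ j → t j ∈ Om Q (Pl b i)) := by
  have h2 : (2 : K) ≠ 0 := by
    intro h0
    have h1 : ringChar K = 2 := by
      have := CharTwo.of_one_ne_zero_of_two_eq_zero (R := K) one_ne_zero h0
      exact ringChar.eq K 2
    have := FiniteField.even_card_iff_char_two.1 h1
    rw [Nat.odd_iff] at hodd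
    omega
  have hβ0 : β ≠ 0 := by
    intro h0
    exact one_ne_zero (hβ 0 1 (by rw [h0]; ring)).2
  obtain ⟨τ, hτ, s, hs, hτo, hsτ, hτf, hsf⟩ := exists_tau b h2 h (i := .inl 0) (j := .inr (.inl 0)) (by simp) rfl rfl hβ
  have hgcd : Nat.gcd 2 (Fintype.card K - 1) = 2 := by
    obtain ⟨k, hk⟩ := hodd
    rw [hk]
    simp
  rw [hgcd] at hn
  set c := b.equiv b cyc with hc
  have hcO : c ∈ O Q := h.perm_mem cyc nm_cyc
  have hcO' : ∀ k : ℕ, c ^ k ∈ O Q := fun k => (O Q).pow_mem hcO k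
  have hcl : ∀ i k, (c ^ ((i : Fin 3) : ℕ)) (b (.inl k)) = b (.inl (k + i)) := by
    intro i k
    rw [hc, equiv_pow, equiv_apply', cyc_inl]
  have hcr : ∀ i k, (c ^ ((i : Fin 3) : ℕ)) (b (.inr (.inl k))) = b (.inr (.inl (k + i))) := by
    intro i k
    rw [hc, equiv_pow, equiv_apply', cyc_inr]
  have hPc : ∀ (i : Fin 3) x, x ∈ Pc Q b i → (c ^ (i : ℕ))⁻¹ x ∈ Pc Q b 0 := by
    intro i x hx
    have hgO := (O Q).inv_mem (hcO' i)
    have e1 : (c ^ (i : ℕ))⁻¹ (b (.inl i)) = b (.inl 0) := by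
      have := hcl i 0
      rw [zero_add] at this
      rw [← this]
      exact (c ^ (i : ℕ)).symm_apply_apply _
    have e2 : (c ^ (i : ℕ))⁻¹ (b (.inr (.inl i))) = b (.inr (.inl 0)) := by
      have := hcr i 0
      rw [zero_add] at this
      rw [← this]
      exact (c ^ (i : ℕ)).symm_apply_apply _
    constructor
    · rw [← e1, polar_map hgO, hx.1]
    · rw [← e2, polar_map hgO, hx.2]
  have hfix : ∀ (u : V ≃ₗ[K] V), u ∈ O Q → (∀ v, polar Q v (b (.inl 0)) = 0 → polar Q v (b (.inr (.inl 0))) = 0 → u v = v) →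
      ∀ i : Fin 3, c ^ (i : ℕ) * u * (c ^ (i : ℕ))⁻¹ ∈ PW Q (Pc Q b i) := by
    intro u hu huf i
    refine mem_PW.2 ⟨(O Q).mul_mem ((O Q).mul_mem (hcO' i) hu) ((O Q).inv_mem (hcO' i)), fun x hx => ?_⟩
    have h1 := hPc i x hx
    show (c ^ (i : ℕ)) (u ((c ^ (i : ℕ))⁻¹ x)) = x
    rw [huf _ h1.1 h1.2]
    exact (c ^ (i : ℕ)).apply_symm_apply x
  let t : Fin 3 → V ≃ₗ[K] V := fun i => c ^ (i : ℕ) * τ ^ 2 * (c ^ (i : ℕ))⁻¹
  have ht : ∀ i, t i = c ^ (i : ℕ) * τ ^ 2 * (c ^ (i : ℕ))⁻¹ := fun _ => rfl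
  have ht0 : t 0 = τ ^ 2 := by rw [ht]; simp
  have htm : ∀ i, t i ∈ Om Q (Pc Q b i) := by
    intro i
    have h3 := comm_mem (hfix τ hτ hτf i) (hfix s hs hsf i)
    have h4 : t i = (c ^ (i : ℕ) * τ * (c ^ (i : ℕ))⁻¹) * (c ^ (i : ℕ) * s * (c ^ (i : ℕ))⁻¹) * (c ^ (i : ℕ) * τ * (c ^ (i : ℕ))⁻¹)⁻¹ *
        (c ^ (i : ℕ) * s * (c ^ (i : ℕ))⁻¹)⁻¹ := by
      have h5 : s * τ⁻¹ * s⁻¹ = τ := by
        rw [show s * τ⁻¹ * s⁻¹ = (s * τ * s⁻¹)⁻¹ by group, hsτ, inv_inv]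
      have h6 : (c ^ (i : ℕ) * τ * (c ^ (i : ℕ))⁻¹) * (c ^ (i : ℕ) * s * (c ^ (i : ℕ))⁻¹) * (c ^ (i : ℕ) * τ * (c ^ (i : ℕ))⁻¹)⁻¹ *
          (c ^ (i : ℕ) * s * (c ^ (i : ℕ))⁻¹)⁻¹ = c ^ (i : ℕ) * (τ * (s * τ⁻¹ * s⁻¹)) * (c ^ (i : ℕ))⁻¹ := by group
      rw [h6, h5, ht, _root_.sq]
    rw [h4]
    exact h3
  refine ⟨t, c, hcO, ?_, hcl, hcr, ?_, ?_, ?_, ?_, ?_, ?_, ?_⟩
  · rw [hc, equiv_pow, cyc_pow, equiv_one]
  · intro i
    rw [ht0]
  · intro i
    rw [map_Om (hcO' i)]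
    congr 1
    rw [Pl, Pl, Submodule.map_span, Set.image_pair]
    have e1 := hcl i 0
    have e2 := hcr i 0
    rw [zero_add] at e1 e2
    rw [← e1, ← e2]
    rfl
  · intro i
    have h3 : τ ^ (2 * n) = 1 := by
      rw [mul_comm, hn, ← hτo, pow_orderOf_eq_one]
    have h4 : t i = MulAut.conj (c ^ (i : ℕ)) (τ ^ 2) := rfl
    rw [h4, ← map_pow, ← pow_mul, h3, map_one]
  · intro i h3
    have h4 : t i = MulAut.conj (c ^ (i : ℕ)) (τ ^ 2) := rfl
    rw [h4, ← map_pow, ← pow_mul] at h3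
    have h5 : τ ^ (2 * 2) = 1 := (MulAut.conj (c ^ (i : ℕ))).injective (by rw [h3, map_one])
    have h6 := Nat.le_of_dvd (by norm_num) (orderOf_dvd_of_pow_eq_one h5)
    omega
  · intro i x hx
    exact comm_of_PW h h2 hβ0 hγ hx (Om_le_PW (htm i))
  · intro i X hX
    exact Om_anti hX (htm i)
  · intro i j hij
    refine Om_anti ?_ (htm j)
    rw [Pl, Submodule.span_le]
    rintro x (rfl | rfl)
    · exact ⟨h.orth _ _ (by simpa using hij), h.orth _ _ (by simp)⟩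
    · exact ⟨h.orth _ _ (by simp), h.orth _ _ (by simpa using hij)⟩

end rot

section all

variable {K V : Type*} [Field K] [Fintype K] [AddCommGroup V] [Module K V] {Q : QuadraticForm K V} {u v : Fin 3 → V} {w : V}

/-- **the complete rotation part** -/
theorem rot_all4 (fr : Fr Q u v w) (hd : finrank K V = 7) (hG : Good Q) (hodd : Odd (Fintype.card K)) (h16 : 4 ≤ Fintype.card K)
    {n : ℕ} (hn : n * Nat.gcd 2 (Fintype.card K - 1) = Fintype.card K + 1) :
    ∃ (t : Fin 3 → V ≃ₗ[K] V) (L : Fin 3 → Subgroup (V ≃ₗ[K] V)) (A B : Subgroup (V ≃ₗ[K] V)) (c : V ≃ₗ[K] V),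
      c ∈ ⁅O Q, O Q⁆ ∧ (∀ i, t i ∈ ⁅O Q, O Q⁆) ∧ (∀ i, L i ≤ ⁅O Q, O Q⁆) ∧
      (∀ i, t i ^ n = 1) ∧ (∀ i, t i ^ 2 ≠ 1) ∧ (∀ i, ⁅L i, L i⁆ = L i) ∧
      (∀ i, ∀ x ∈ L i, x * t i = t i * x) ∧ (∀ i j, i ≠ j → t j ∈ L i) ∧
      (∀ i : Fin 3, t i = c ^ (i : ℕ) * t 0 * (c ^ (i : ℕ))⁻¹ ∧ L i = (L 0).map (MulAut.conj (c ^ (i : ℕ))).toMonoidHom) ∧
      A ≤ L 0 ∧ B ≤ L 0 ∧ (∀ a ∈ A, ∀ b ∈ B, a * b = b * a) ∧ ⁅A, A⁆ = A ∧ ⁅B, B⁆ = B ∧
      (∀ N : Subgroup (V ≃ₗ[K] V), N ≤ L 0 → (∀ g ∈ L 0, ∀ x ∈ N, g * x * g⁻¹ ∈ N) → A ≤ N → N = L 0) ∧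
      (∀ N : Subgroup (V ≃ₗ[K] V), N ≤ L 0 → (∀ g ∈ L 0, ∀ x ∈ N, g * x * g⁻¹ ∈ N) → B ≤ N → N = L 0) ∧
      t 0 ∈ MM Q u v w 0 0 ∧ MM Q u v w 0 0 ≤ L 1 ∧ MM Q u v w 0 0 ≤ L 2 := by
  have hfd : FiniteDimensional K V := Module.finite_of_finrank_pos (by omega)
  have h2 : (2 : K) ≠ 0 := by
    intro h0
    have h1 : ringChar K = 2 := by
      have := CharTwo.of_one_ne_zero_of_two_eq_zero (R := K) one_ne_zero h0
      exact ringChar.eq K 2
    have := FiniteField.even_card_iff_char_two.1 h1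
    rw [Nat.odd_iff] at hodd
    omega
  obtain ⟨δ, hδ, x, y, hxy⟩ := exists_delta hodd
  have hδ0 : δ ≠ 0 := by
    intro h0
    exact one_ne_zero (hδ 0 1 (by rw [h0]; ring)).2
  obtain ⟨r, s, hrs⟩ : ∃ r s : K, r ^ 2 - s ^ 2 = -δ := by
    refine ⟨(1 - δ) / 2, (-δ - 1) / 2, ?_⟩
    field_simp
    ring
  obtain ⟨b, hb, ob⟩ := exists_rv h2 hd fr hδ0 hrs hxy
  obtain ⟨t, c, hcO, hc3, -, -, hti, hLi, hpow, hsq, hcent, htX, htm⟩ := rot_seven4 hodd h16 hn ob hδ0 hδ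
  have hcompl := fun i => isCompl h2 ob (neg_ne_zero.2 hδ0) i
  have hperp : ∀ i, ∀ x ∈ Pl b i, ∀ y ∈ Pc Q b i, polar Q x y = 0 := fun i x hx y hy => polar_of_mem hx hy
  have hw : Q w = 1 := fr.w1
  have hav : ∀ i, av u v i = ov u v w (Sum.inr (Sum.inl i)) := fun i => rfl
  -- the two hyperbolic planes
  have htwo : Cfsg.Agent.H885.O8R.Two Q ![u 1, u 2] ![v 1, v 2] := by
    constructor
    · intro i; fin_cases i
      · exact fr.u0 1
      · exact fr.u0 2
    · intro i; fin_cases i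
      · exact fr.v0 1
      · exact fr.v0 2
    · intro i; fin_cases i
      · exact (fr.uv 1 1).trans (if_pos rfl)
      · exact (fr.uv 2 2).trans (if_pos rfl)
    · intro i j hij
      fin_cases i <;> fin_cases j
      · exact absurd rfl hij
      · exact (fr.uv 1 2).trans (if_neg (by decide))
      · exact (fr.uv 2 1).trans (if_neg (by decide))
      · exact absurd rfl hij
    · intro i j hij
      fin_cases i <;> fin_cases j
      · exact absurd rfl hij
      · exact fr.uu 1 2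
      · exact fr.uu 2 1
      · exact absurd rfl hij
    · intro i j hij
      fin_cases i <;> fin_cases j
      · exact absurd rfl hij
      · exact fr.vv 1 2
      · exact fr.vv 2 1
      · exact absurd rfl hij
  have vu : ∀ i j, polar Q (v i) (u j) = if i = j then 1 else 0 := fun i j => by
    rw [polar_comm, fr.uv]
    simp only [eq_comm]
  have ua : ∀ i, i ≠ 0 → polar Q (u i) (av u v 0) = 0 := fun i hi => by
    rw [av, polar_add_right, fr.uu, fr.uv, if_neg hi, add_zero]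
  have ub : ∀ i, i ≠ 0 → polar Q (u i) (bv u v 0) = 0 := fun i hi => by
    rw [bv, polar_sub_right, fr.uu, fr.uv, if_neg hi, sub_zero]
  have va : ∀ i, i ≠ 0 → polar Q (v i) (av u v 0) = 0 := fun i hi => by
    rw [av, polar_add_right, fr.vv, vu, if_neg hi, add_zero]
  have vb : ∀ i, i ≠ 0 → polar Q (v i) (bv u v 0) = 0 := fun i hi => by
    rw [bv, polar_sub_right, fr.vv, vu, if_neg hi, sub_zero]
  have b0 : b (.inl 0) = w := hb _
  have b1 : b (.inl 1) = av u v 1 := hb _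
  have b2 : b (.inl 2) = av u v 2 := hb _
  have c0 : b (.inr (.inl 0)) = r • av u v 0 + s • bv u v 0 := hb _
  have c1 : b (.inr (.inl 1)) = x • bv u v 1 + y • bv u v 2 := hb _
  have c2 : b (.inr (.inl 2)) = (-y) • bv u v 1 + x • bv u v 2 := hb _
  have d0 : b (.inr (.inr ())) = s • av u v 0 + r • bv u v 0 := hb _
  have hui : ∀ i, i ≠ 0 → u i ∈ Pc Q b 0 := fun i hi => by
    refine mem_Pc.2 ⟨by rw [b0]; exact fr.uw i, ?_⟩
    rw [c0, polar_add_right, polar_smul_right, polar_smul_right, ua i hi, ub i hi]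
    simp
  have hvi : ∀ i, i ≠ 0 → v i ∈ Pc Q b 0 := fun i hi => by
    refine mem_Pc.2 ⟨by rw [b0]; exact fr.vw i, ?_⟩
    rw [c0, polar_add_right, polar_smul_right, polar_smul_right, va i hi, vb i hi]
    simp
  obtain ⟨A, B, hA, hB, hAB, hAA, hBB, hAt, hBt⟩ := Cfsg.Agent.H885.O8R.exists_AB (by omega) hG.nondeg htwo (hcompl 0) (hperp 0)
    (five_le hd ob 0)
    (fun i => by
      fin_cases i
      · exact hui 1 (by decide)
      · exact hui 2 (by decide))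
    (fun i => by
      fin_cases i
      · exact hvi 1 (by decide)
      · exact hvi 2 (by decide))
    (e := b (.inr (.inr ()))) (mem_Pc.2 ⟨ob.orth _ _ (by simp), ob.orth _ _ (by simp)⟩) (b.ne_zero _)
    (fun i => by
      fin_cases i
      · constructor
        · show polar Q (u 1) _ = 0
          rw [d0, polar_add_right, polar_smul_right, polar_smul_right, ua 1 (by decide), ub 1 (by decide)]
          simp
        · show polar Q (v 1) _ = 0
          rw [d0, polar_add_right, polar_smul_right, polar_smul_right, va 1 (by decide), vb 1 (by decide)]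
          simp
      · constructor
        · show polar Q (u 2) _ = 0
          rw [d0, polar_add_right, polar_smul_right, polar_smul_right, ua 2 (by decide), ub 2 (by decide)]
          simp
        · show polar Q (v 2) _ = 0
          rw [d0, polar_add_right, polar_smul_right, polar_smul_right, va 2 (by decide), vb 2 (by decide)]
          simp)
  have hle : ∀ i, Pc Q b i ≤ ⊤ := fun i => le_top
  have htO : ∀ i, t i ∈ ⁅O Q, O Q⁆ := fun i => Om_le (htX i (Pc Q b i) le_rfl)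
  have hMM : ∀ i, b (.inl i) ∈ pp Q (tr3 u v w 0 0) → b (.inr (.inl i)) ∈ pp Q (tr3 u v w 0 0) → MM Q u v w 0 0 ≤ Om Q (Pl b i) := by
    intro i h3 h4
    refine Om_anti ?_
    rw [Pl, Submodule.span_le]
    rintro z (rfl | rfl)
    · exact h3
    · exact h4
  have haa : ∀ i j, i ≠ j → polar Q (av u v i) (av u v j) = 0 := fun i j hij =>
    ov_orth fr (Sum.inr (Sum.inl i)) (Sum.inr (Sum.inl j)) (by simpa using hij)
  have hbb : ∀ i j, i ≠ j → polar Q (bv u v i) (bv u v j) = 0 := fun i j hij =>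
    ov_orth fr (Sum.inr (Sum.inr i)) (Sum.inr (Sum.inr j)) (by simpa using hij)
  have hab : ∀ i j, polar Q (av u v i) (bv u v j) = 0 := fun i j =>
    ov_orth fr (Sum.inr (Sum.inl i)) (Sum.inr (Sum.inr j)) (by simp)
  have hba : ∀ i j, polar Q (bv u v i) (av u v j) = 0 := fun i j =>
    ov_orth fr (Sum.inr (Sum.inr i)) (Sum.inr (Sum.inl j)) (by simp)
  have hwa : ∀ i, polar Q w (av u v i) = 0 := fun i => ov_orth fr (Sum.inl ()) (Sum.inr (Sum.inl i)) (by simp)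
  have hwb : ∀ i, polar Q w (bv u v i) = 0 := fun i => ov_orth fr (Sum.inl ()) (Sum.inr (Sum.inr i)) (by simp)
  have hpa : ∀ i, i ≠ 0 → av u v i ∈ pp Q (tr3 u v w 0 0) := by
    intro i hi
    rw [mem_pp]
    intro k
    fin_cases k
    · exact hwa i
    · exact haa 0 i (Ne.symm hi)
    · exact hba 0 i
  have hpb : ∀ i, i ≠ 0 → bv u v i ∈ pp Q (tr3 u v w 0 0) := by
    intro i hi
    rw [mem_pp]
    intro k
    fin_cases k
    · exact hwb i
    · exact hab 0 i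
    · exact hbb 0 i (Ne.symm hi)
  refine ⟨t, fun i => Om Q (Pl b i), A, B, c, Cfsg.Agent.H885.O8R.odd_mem hG hcO (by decide) hc3, htO, fun i => Om_le, hpow, hsq,
    fun i => Cfsg.Agent.H885.O8R.perfect_five hG.nondeg (hcompl i) (hperp i) (five_le hd ob i),
    fun i x hx => hcent i x (Om_le_PW hx), htm, fun i => ⟨hti i, hLi i⟩, hA, hB, hAB, hAA, hBB, hAt, hBt, ?_, ?_, ?_⟩
  · refine htX 0 _ fun z hz => ?_
    obtain ⟨e1, e2, e3⟩ := mem_tr3 hz
    refine mem_Pc.2 ⟨by rw [b0, polar_comm]; exact e1, ?_⟩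
    rw [c0, polar_comm, polar_add_left, polar_smul_left, polar_smul_left, e2, e3]
    simp
  · refine hMM 1 (by rw [b1]; exact hpa 1 (by decide)) ?_
    rw [c1]
    exact add_mem (Submodule.smul_mem _ _ (hpb 1 (by decide))) (Submodule.smul_mem _ _ (hpb 2 (by decide)))
  · refine hMM 2 (by rw [b2]; exact hpa 2 (by decide)) ?_
    rw [c2]
    exact add_mem (Submodule.smul_mem _ _ (hpb 1 (by decide))) (Submodule.smul_mem _ _ (hpb 2 (by decide)))

end all

section link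

variable {F V : Type*} [Field F] [AddCommGroup V] [Module F V] {Q : QuadraticForm F V}

/-- in every nondegenerate plane `⟨a, b⟩` there is a commutator of reflections whose square is not trivial -/
theorem exists_link4 (h2 : (2 : F) ≠ 0) {a b : V} (ha : Q a ≠ 0) (hb : Q b ≠ 0)
    (hab : polar Q a b = 0) {t : F} (ht : t ≠ 0) (hN : Q a + Q b * t ^ 2 ≠ 0) (hN' : Q a - Q b * t ^ 2 ≠ 0) :
    ∃ x : V ≃ₗ[F] V, x ^ 2 ≠ 1 ∧ ∀ X : Submodule F V, (∀ v ∈ X, polar Q a v = 0 ∧ polar Q b v = 0) → x ∈ Om Q X := by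
  have hba : polar Q b a = 0 := by rw [polar_comm]; exact hab
  have hQ : Q (a + t • b) = Q a + Q b * t ^ 2 := by
    rw [Q_add, QuadraticMap.map_smul, polar_smul_right, hab, smul_eq_mul, smul_eq_mul]
    ring
  have hc : Q (a + t • b) ≠ 0 := by rw [hQ]; exact hN
  obtain ⟨r, hr⟩ : ∃ r, r = refl Q (a + t • b) hc := ⟨_, rfl⟩
  obtain ⟨r', hr'⟩ : ∃ r', r' = refl Q a ha := ⟨_, rfl⟩
  have hpa : polar Q (a + t • b) a = 2 * Q a := by
    rw [polar_add_left, polar_smul_left, polar_self', hba]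
    simp
  have hpb : polar Q (a + t • b) b = 2 * Q b * t := by
    rw [polar_add_left, polar_smul_left, polar_self', hab]
    simp only [smul_eq_mul]
    ring
  -- the rotation
  obtain ⟨c, hc'⟩ : ∃ c, c = (Q a - Q b * t ^ 2) / (Q a + Q b * t ^ 2) := ⟨_, rfl⟩
  obtain ⟨s, hs⟩ : ∃ s, s = 2 * Q a * t / (Q a + Q b * t ^ 2) := ⟨_, rfl⟩
  obtain ⟨s', hs'⟩ : ∃ s', s' = 2 * Q b * t / (Q a + Q b * t ^ 2) := ⟨_, rfl⟩
  have hcs : c ^ 2 + s * s' = 1 := by
    rw [hc', hs, hs']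
    field_simp
    ring
  have hra : (r * r') a = c • a + s • b := by
    show r (r' a) = _
    have e1 : r' a = -a := by
      rw [hr', refl_apply, polar_self']
      have : (Q a)⁻¹ * (2 * Q a) = 2 := by field_simp
      rw [this, two_smul]
      abel
    rw [e1, map_neg, hr, refl_apply, hpa, hQ, hc', hs]
    have : -(a - ((Q a + Q b * t ^ 2)⁻¹ * (2 * Q a)) • (a + t • b)) =
        ((Q a + Q b * t ^ 2)⁻¹ * (2 * Q a) - 1) • a + ((Q a + Q b * t ^ 2)⁻¹ * (2 * Q a) * t) • b := by module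
    rw [this]
    congr 2
    · field_simp
      ring
    · field_simp
  have hrb : (r * r') b = (-s') • a + c • b := by
    show r (r' b) = _
    have e1 : r' b = b := by
      rw [hr', refl_apply, hab]
      simp
    rw [e1, hr, refl_apply, hpb, hQ, hc', hs']
    have : b - ((Q a + Q b * t ^ 2)⁻¹ * (2 * Q b * t)) • (a + t • b) =
        (-((Q a + Q b * t ^ 2)⁻¹ * (2 * Q b * t))) • a + (1 - (Q a + Q b * t ^ 2)⁻¹ * (2 * Q b * t) * t) • b := by module
    rw [this]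
    congr 2
    · field_simp
    · field_simp
      ring
  have hc0 : c ≠ 0 := by
    rw [hc']
    exact div_ne_zero hN' hN
  have hs0 : s * s' ≠ 0 := by
    rw [hs, hs']
    exact mul_ne_zero (div_ne_zero (mul_ne_zero (mul_ne_zero h2 ha) ht) hN)
      (div_ne_zero (mul_ne_zero (mul_ne_zero h2 hb) ht) hN)
  -- two applications
  have h2a : (r * r') ((r * r') a) = (2 * c ^ 2 - 1) • a + (2 * c * s) • b := by
    rw [hra, map_add, map_smul, map_smul, hra, hrb]
    have : c • (c • a + s • b) + s • (-s' • a + c • b) = (c ^ 2 - s * s') • a + (2 * c * s) • b := by module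
    rw [this]
    congr 2
    linear_combination -hcs
  have h2b : (r * r') ((r * r') b) = (-(2 * c * s')) • a + (2 * c ^ 2 - 1) • b := by
    rw [hrb, map_add, map_smul, map_smul, hra, hrb]
    have : -s' • (c • a + s • b) + c • (-s' • a + c • b) = (-(2 * c * s')) • a + (c ^ 2 - s * s') • b := by module
    rw [this]
    congr 2
    linear_combination -hcs
  have h4a : (r * r') ((r * r') ((r * r') ((r * r') a))) =
      (2 * (2 * c ^ 2 - 1) ^ 2 - 1) • a + (4 * c * s * (2 * c ^ 2 - 1)) • b := by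
    rw [h2a, map_add, map_smul, map_smul, map_add, map_smul, map_smul, h2a, h2b]
    have : (2 * c ^ 2 - 1) • ((2 * c ^ 2 - 1) • a + (2 * c * s) • b) +
        (2 * c * s) • (-(2 * c * s') • a + (2 * c ^ 2 - 1) • b) =
        ((2 * c ^ 2 - 1) ^ 2 - 4 * c ^ 2 * (s * s')) • a + (4 * c * s * (2 * c ^ 2 - 1)) • b := by module
    rw [this]
    congr 2
    linear_combination (-4 * c ^ 2) * hcs
  refine ⟨(r * r') * (r * r'), fun h => ?_, fun X hX => ?_⟩
  · have h5 := congrArg (fun g : V ≃ₗ[F] V => polar Q a (g a)) h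
    rw [pow_two] at h5
    have h6 : polar Q a ((r * r') ((r * r') ((r * r') ((r * r') a)))) = polar Q a a := h5
    rw [h4a, polar_add_right, polar_smul_right, polar_smul_right, hab, polar_self'] at h6
    simp only [smul_eq_mul, mul_zero, add_zero] at h6
    have h7 : (2 * (2 * c ^ 2 - 1) ^ 2 - 1) = 1 := by
      have h8 : (2 * Q a) * (2 * (2 * c ^ 2 - 1) ^ 2 - 1) = (2 * Q a) * 1 := by
        rw [mul_one, mul_comm]
        exact h6
      exact mul_left_cancel₀ (mul_ne_zero h2 ha) h8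
    have h8 : (2 * 2 * 2) * (c ^ 2 * (s * s')) = 0 := by
      have h9 : s * s' = 1 - c ^ 2 := by linear_combination hcs
      rw [h9]
      linear_combination -h7
    exact mul_ne_zero (mul_ne_zero (mul_ne_zero h2 h2) h2) (mul_ne_zero (pow_ne_zero _ hc0) hs0) h8
  · have m1 : r ∈ PW Q X := by
      rw [hr]
      refine refl_mem_PW hc fun x hx => ?_
      rw [polar_add_left, polar_smul_left, (hX x hx).1, (hX x hx).2]
      simp
    have m2 : r' ∈ PW Q X := by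
      rw [hr']
      exact refl_mem_PW ha fun x hx => (hX x hx).1
    have e1 : r⁻¹ = r := by rw [hr]; exact refl_inv hc
    have e2 : r'⁻¹ = r' := by rw [hr']; exact refl_inv ha
    have h3 := comm_mem m1 m2
    rw [e1, e2] at h3
    rwa [← mul_assoc]

variable {u v : Fin 3 → V} {w : V}

/-- the vectors `u i + l v i` -/
def xv (u v : Fin 3 → V) (l : F) (i : Fin 3) : V := u i + l • v i

/-- `w, u i + l v i, u j - l v j` -/
def t3 (u v : Fin 3 → V) (w : V) (l : F) (i j : Fin 3) : Fin 3 → V := ![w, xv u v l i, xv u v (-l) j]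

/-- the orthogonal basis -/
def ow (u v : Fin 3 → V) (w : V) (l : F) : Unit ⊕ (Fin 3 ⊕ Fin 3) → V :=
  Sum.elim (fun _ => w) (Sum.elim (xv u v l) (xv u v (-l)))

/-- the norms -/
def nw (l : F) : Unit ⊕ (Fin 3 ⊕ Fin 3) → F := Sum.elim (fun _ => 1) (Sum.elim (fun _ => l) (fun _ => -l))

theorem xv_norm (fr : Fr Q u v w) (l : F) (i : Fin 3) : Q (xv u v l i) = l := by
  rw [xv, Q_add, QuadraticMap.map_smul, fr.u0, fr.v0, polar_smul_right, fr.uv, if_pos rfl]
  simp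

theorem xv_polar (fr : Fr Q u v w) (l m : F) (i j : Fin 3) :
    polar Q (xv u v l i) (xv u v m j) = if i = j then l + m else 0 := by
  have vu : ∀ i j, polar Q (v i) (u j) = if i = j then 1 else 0 := fun i j => by
    rw [polar_comm, fr.uv]
    simp only [eq_comm]
  rw [xv, xv, polar_add_left, polar_add_right, polar_add_right, polar_smul_left, polar_smul_left, polar_smul_right,
    polar_smul_right, fr.uu, fr.vv, fr.uv, vu]
  split_ifs <;> simp [add_comm]

theorem xv_w (fr : Fr Q u v w) (l : F) (i : Fin 3) : polar Q (xv u v l i) w = 0 := by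
  rw [xv, polar_add_left, polar_smul_left, fr.uw, fr.vw]
  simp

theorem w_xv (fr : Fr Q u v w) (l : F) (i : Fin 3) : polar Q w (xv u v l i) = 0 := by
  rw [polar_comm, xv_w fr]

/-- the permutation isometries -/
theorem exists_g4 (h2 : (2 : F) ≠ 0) (hd : finrank F V = 7) (fr : Fr Q u v w) {l : F} (hl : l ≠ 0) :
    ∃ G : Fin 3 → Fin 3 → (V ≃ₗ[F] V), G 0 0 = 1 ∧ (∀ i j, G i j ∈ O Q) ∧ (∀ i j, G i j ^ 3 = 1) ∧
      ∀ i j k, G i j w = w ∧ G i j (xv u v l k) = xv u v l (k + i) ∧ G i j (xv u v (-l) k) = xv u v (-l) (k + j) := by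
  have : FiniteDimensional F V := Module.finite_of_finrank_pos (by omega)
  obtain ⟨B, hB, ob⟩ : ∃ B : Basis (Unit ⊕ (Fin 3 ⊕ Fin 3)) F V, (∀ i, B i = ow u v w l i) ∧ OB Q B (nw l) := by
    refine exists_OB h2 (fun i => ?_) (fun i => ?_) (fun i j h => ?_) (by simp [hd])
    · rcases i with i | i | i
      · exact one_ne_zero
      · exact hl
      · exact neg_ne_zero.2 hl
    · rcases i with i | i | i
      · exact fr.w1
      · exact xv_norm fr l i
      · exact xv_norm fr (-l) i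
    · rcases i with i | i | i <;> rcases j with j | j | j
      · exact absurd rfl h
      · exact w_xv fr _ _
      · exact w_xv fr _ _
      · exact xv_w fr _ _
      · exact (xv_polar fr _ _ _ _).trans (if_neg fun h1 => h (by rw [h1]))
      · exact (xv_polar fr _ _ _ _).trans (by simp)
      · exact xv_w fr _ _
      · exact (xv_polar fr _ _ _ _).trans (by simp)
      · exact (xv_polar fr _ _ _ _).trans (if_neg fun h1 => h (by rw [h1]))
  refine ⟨fun i j => B.equiv B (sg i j), ?_, ?_, ?_, ?_⟩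
  · have h1 : sg 0 0 = 1 := by decide
    show B.equiv B (sg 0 0) = 1
    rw [h1, equiv_one]
  · intro i j
    refine ob.perm_mem _ fun k => ?_
    rcases k with k | k | k <;> rfl
  · intro i j
    show (B.equiv B (sg i j)) ^ 3 = 1
    rw [equiv_pow, sg_pow, equiv_one]
  · intro i j k
    refine ⟨?_, ?_, ?_⟩
    · have h1 := equiv_apply' B (sg i j) (Sum.inl ())
      have h3 : sg i j (Sum.inl ()) = Sum.inl () := rfl
      rw [h3, hB] at h1
      exact h1
    · have h1 := equiv_apply' B (sg i j) (Sum.inr (Sum.inl k))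
      have h3 : sg i j (Sum.inr (Sum.inl k)) = Sum.inr (Sum.inl (k + i)) := rfl
      rw [h3, hB, hB] at h1
      exact h1
    · have h1 := equiv_apply' B (sg i j) (Sum.inr (Sum.inr k))
      have h3 : sg i j (Sum.inr (Sum.inr k)) = Sum.inr (Sum.inr (k + j)) := rfl
      rw [h3, hB, hB] at h1
      exact h1

/-- the conjugates of `M` -/
def M4 (Q : QuadraticForm F V) (u v : Fin 3 → V) (w : V) (l : F) (i j : Fin 3) : Subgroup (V ≃ₗ[F] V) :=
  Om Q (pp Q (t3 u v w l i j))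

theorem M4_diag (h2 : (2 : F) ≠ 0) {l : F} (hl : l ≠ 0) (i : Fin 3) : M4 Q u v w l i i = MM Q u v w i i := by
  have key : ∀ (m : F), m ≠ 0 → ∀ x, x ∈ pp Q (t3 u v w m i i) ↔
      polar Q w x = 0 ∧ polar Q (u i) x = 0 ∧ polar Q (v i) x = 0 := by
    intro m hm x
    rw [mem_pp]
    constructor
    · intro h
      have h3 : polar Q (u i + m • v i) x = 0 := h 1
      have h4 : polar Q (u i + (-m) • v i) x = 0 := h 2
      rw [polar_add_left, polar_smul_left, smul_eq_mul] at h3 h4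
      refine ⟨h 0, ?_, ?_⟩
      · exact (mul_eq_zero.1 (show 2 * polar Q (u i) x = 0 by linear_combination h3 + h4)).resolve_left h2
      · exact (mul_eq_zero.1 (show (2 * m) * polar Q (v i) x = 0 by linear_combination h3 - h4)).resolve_left
          (mul_ne_zero h2 hm)
    · rintro ⟨h3, h4, h5⟩ k
      fin_cases k
      · exact h3
      · show polar Q (u i + m • v i) x = 0
        rw [polar_add_left, polar_smul_left, h4, h5, smul_zero, add_zero]
      · show polar Q (u i + (-m) • v i) x = 0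
        rw [polar_add_left, polar_smul_left, h4, h5, smul_zero, add_zero]
  have e : t3 u v w (1 : F) i i = tr3 u v w i i := by
    funext k
    fin_cases k
    · rfl
    · show u i + (1 : F) • v i = u i + v i
      rw [one_smul]
    · show u i + (-1 : F) • v i = u i - v i
      rw [neg_one_smul, sub_eq_add_neg]
  unfold M4 MM
  congr 1
  ext x
  rw [key l hl, ← e, key 1 one_ne_zero]

theorem M4_conj {l : F} {i j : Fin 3} {g : V ≃ₗ[F] V} (hg : g ∈ O Q) (hw : g w = w) (ha : g (xv u v l 0) = xv u v l i)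
    (hb : g (xv u v (-l) 0) = xv u v (-l) j) : (M4 Q u v w l 0 0).map (MulAut.conj g).toMonoidHom = M4 Q u v w l i j := by
  unfold M4
  rw [map_Om_pp hg]
  congr 2
  funext k
  fin_cases k
  · exact hw
  · exact ha
  · exact hb

theorem link4 (h2 : (2 : F) ≠ 0) (fr : Fr Q u v w) {l : F} (hl : l ≠ 0) (hl1 : l ^ 2 ≠ 1) (i : Fin 3) :
    ∃ x : V ≃ₗ[F] V, x ^ 2 ≠ 1 ∧ ∀ X : Submodule F V, (∀ y ∈ X, polar Q w y = 0 ∧ polar Q (xv u v l i) y = 0) → x ∈ Om Q X := by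
  refine exists_link4 h2 (by rw [fr.w1]; exact one_ne_zero) (by rw [xv_norm fr]; exact hl) (w_xv fr l i) one_ne_zero ?_ ?_
  · rw [fr.w1, xv_norm fr]
    intro h
    exact hl1 (by linear_combination (l - 1) * h)
  · rw [fr.w1, xv_norm fr]
    intro h
    exact hl1 (by linear_combination (-l - 1) * h)

theorem link_a4 (h2 : (2 : F) ≠ 0) (fr : Fr Q u v w) {l : F} (hl : l ≠ 0) (hl1 : l ^ 2 ≠ 1) (i : Fin 3) :
    ∃ x : V ≃ₗ[F] V, x ^ 2 ≠ 1 ∧ ∀ j, x ∈ M4 Q u v w l i j := by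
  obtain ⟨x, hx, h⟩ := link4 h2 fr hl hl1 i
  exact ⟨x, hx, fun j => h _ fun y hy => ⟨mem_pp.1 hy 0, mem_pp.1 hy 1⟩⟩

theorem link_b4 (h2 : (2 : F) ≠ 0) (fr : Fr Q u v w) {l : F} (hl : l ≠ 0) (hl1 : l ^ 2 ≠ 1) (j : Fin 3) :
    ∃ x : V ≃ₗ[F] V, x ^ 2 ≠ 1 ∧ ∀ i, x ∈ M4 Q u v w l i j := by
  obtain ⟨x, hx, h⟩ := link4 h2 fr (neg_ne_zero.2 hl) (by rwa [neg_sq]) j
  exact ⟨x, hx, fun i => h _ fun y hy => ⟨mem_pp.1 hy 0, mem_pp.1 hy 2⟩⟩

variable [Fintype F]

/-- **`s` and `g`** -/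
theorem om_sg4 (h2 : (2 : F) ≠ 0) (hF : ∃ l : F, l ≠ 0 ∧ l ^ 2 ≠ 1) (hQ : Nondeg Q) (hd : finrank F V = 7) (fr : Fr Q u v w) :
    ∃ (s : V ≃ₗ[F] V) (g : Fin 5 → (V ≃ₗ[F] V)), s ∈ ⁅O Q, O Q⁆ ∧ s ^ 7 = 1 ∧
      (∀ x ∈ MM Q u v w 0 0, ∀ y ∈ MM Q u v w 0 0, x * (s * y * s⁻¹) = (s * y * s⁻¹) * x) ∧
      g 0 = 1 ∧ (∀ i, g i ∈ ⁅O Q, O Q⁆) ∧
      (∀ i : Fin 5, i ≠ 0 → ∃ j < i, ∃ x ∈ cj (g i) (MM Q u v w 0 0), x ∈ cj (g j) (MM Q u v w 0 0) ∧ x ^ 2 ≠ 1) ∧
      ⁅O Q, O Q⁆ ≤ ⨆ i, cj (g i) (MM Q u v w 0 0) := by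
  have hfd : FiniteDimensional F V := Module.finite_of_finrank_pos (by omega)
  have hG : Good Q := good_of_finite hQ (by omega)
  obtain ⟨l, hl, hl1⟩ := hF
  obtain ⟨s, hs, hs7, hsw, hsa, hsb⟩ := exists_s h2 hd fr
  obtain ⟨G, hG0, hGO, hG3, hGa⟩ := exists_g4 h2 hd fr hl
  have hc : ∀ i j, cj (G i j) (MM Q u v w 0 0) = M4 Q u v w l i j := by
    intro i j
    obtain ⟨h3, h4, h5⟩ := hGa i j 0
    rw [← M4_diag h2 hl]
    refine M4_conj (hGO i j) h3 ?_ ?_
    · rw [h4, zero_add]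
    · rw [h5, zero_add]
  let p : Fin 5 → Fin 3 × Fin 3 := ![(0, 0), (0, 1), (1, 1), (1, 2), (2, 2)]
  refine ⟨s, fun i => G (p i).1 (p i).2, Cfsg.Agent.H885.O8R.odd_mem hG hs (by decide) hs7, hs7,
    fun x hx y hy => s_comm h2 fr hs hsw hsa hsb hx hy, hG0,
    fun i => Cfsg.Agent.H885.O8R.odd_mem hG (hGO _ _) (by decide) (hG3 _ _), ?_, ?_⟩
  · intro i hi
    obtain ⟨xa0, ha0, ha0'⟩ := link_a4 h2 fr hl hl1 0
    obtain ⟨xa1, ha1, ha1'⟩ := link_a4 h2 fr hl hl1 1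
    obtain ⟨xb1, hb1, hb1'⟩ := link_b4 h2 fr hl hl1 1
    obtain ⟨xb2, hb2, hb2'⟩ := link_b4 h2 fr hl hl1 2
    fin_cases i
    · exact absurd rfl hi
    · refine ⟨0, by decide, xa0, ?_, ?_, ha0⟩
      · show xa0 ∈ cj (G 0 1) (MM Q u v w 0 0)
        rw [hc]
        exact ha0' 1
      · show xa0 ∈ cj (G 0 0) (MM Q u v w 0 0)
        rw [hc]
        exact ha0' 0
    · refine ⟨1, by decide, xb1, ?_, ?_, hb1⟩
      · show xb1 ∈ cj (G 1 1) (MM Q u v w 0 0)
        rw [hc]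
        exact hb1' 1
      · show xb1 ∈ cj (G 0 1) (MM Q u v w 0 0)
        rw [hc]
        exact hb1' 0
    · refine ⟨2, by decide, xa1, ?_, ?_, ha1⟩
      · show xa1 ∈ cj (G 1 2) (MM Q u v w 0 0)
        rw [hc]
        exact ha1' 2
      · show xa1 ∈ cj (G 1 1) (MM Q u v w 0 0)
        rw [hc]
        exact ha1' 1
    · refine ⟨3, by decide, xb2, ?_, ?_, hb2⟩
      · show xb2 ∈ cj (G 2 2) (MM Q u v w 0 0)
        rw [hc]
        exact hb2' 2
      · show xb2 ∈ cj (G 1 2) (MM Q u v w 0 0)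
        rw [hc]
        exact hb2' 1
  · rw [hG.commutator_eq_E]
    refine top_MM h2 fr fun i => ?_
    have key : ∀ k : Fin 5, cj (G (p k).1 (p k).2) (MM Q u v w 0 0) ≤
        ⨆ i, cj ((fun i => G (p i).1 (p i).2) i) (MM Q u v w 0 0) := fun k =>
      le_iSup (fun i => cj ((fun i => G (p i).1 (p i).2) i) (MM Q u v w 0 0)) k
    fin_cases i
    · have := key 0
      rw [show p 0 = (0, 0) from rfl, hc, M4_diag h2 hl] at this
      exact this
    · have := key 2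
      rw [show p 2 = (1, 1) from rfl, hc, M4_diag h2 hl] at this
      exact this
    · have := key 4
      rw [show p 4 = (2, 2) from rfl, hc, M4_diag h2 hl] at this
      exact this

end link

open Cfsg.Agent.LieClassical.QuadForms Cfsg.Agent.H36.O8R

/-- **DATA-OM** -/
theorem data_om4 {K : Type} [Field K] [Fintype K] {n : ℕ} (hodd : Odd (Fintype.card K)) (hq : 4 ≤ Fintype.card K)
    (hn : n * Nat.gcd 2 (Fintype.card K - 1) = Fintype.card K + 1) :
    ∃ (t : Fin 3 → POmega K (quadFormOdd 3 K)) (L : Fin 3 → Subgroup (POmega K (quadFormOdd 3 K)))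
      (A B M : Subgroup (POmega K (quadFormOdd 3 K))) (s : POmega K (quadFormOdd 3 K)) (k : ℕ)
      (g : Fin 5 → POmega K (quadFormOdd 3 K)), DOm (POmega K (quadFormOdd 3 K)) n t L A B M s k g := by
  have h2 : (2 : K) ≠ 0 := two_ne hodd
  obtain ⟨f, hf, hr⟩ := exists_hom7 (K := K) h2
  obtain ⟨s, g, hs, hs7, hsc, hg0, hg, hlink, htop⟩ := om_sg4 h2 (exists_l4 hq) (nd_V7 h2) finrank_V7 (fr7 (K := K))
  obtain ⟨t, L, A, B, c, hc, ht, hL, htn, ht2, hLp, hcent, hmem, hconj, hA, hB, hAB, hAp, hBp, hAt, hBt, ht0, hM1, hM2⟩ :=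
    rot_all4 (fr7 (K := K)) finrank_V7 (good_V7 h2) hodd hq hn
  have hMX : H466.O8R.MM (oddForm 3 K) (fun i => Pi.single (Sum.inr (Sum.inl i)) 1) (fun i => Pi.single (Sum.inr (Sum.inr i)) 1)
    (Pi.single (Sum.inl ()) 1) 0 0 ≤ ⁅O (oddForm 3 K), O (oddForm 3 K)⁆ := hM1.trans (hL 1)
  refine DOmIn.exists_dom (f := f) (X := ⁅O (oddForm 3 K), O (oddForm 3 K)⁆) (t := t) (L := L) (A := A) (B := B)
    (M := H466.O8R.MM (oddForm 3 K) (fun i => Pi.single (Sum.inr (Sum.inl i)) 1) (fun i => Pi.single (Sum.inr (Sum.inr i)) 1)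
    (Pi.single (Sum.inl ()) 1) 0 0) (s := s) (k := 7) (g := g) ?_ hf hr
  exact
    { t_mem := ht
      L_le := hL
      M_le := hMX
      s_mem := hs
      g_mem := hg
      pow := htn
      sq := ht2
      perf := hLp
      cent := hcent
      mem := hmem
      conj := fun i => ⟨c ^ (i : ℕ), pow_mem hc _, hconj i⟩
      A_le := hA
      B_le := hB
      comm := hAB
      A_perf := hAp
      B_perf := hBp
      A_top := hAt
      B_top := hBt
      M_perf := M_perf h2 (by omega) (nd_V7 h2) (fr7 (K := K))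
      t_zero := ht0
      le₁ := hM1
      le₂ := hM2
      M_top := fun N h1 h3 h4 => M_top h2 (by omega) (nd_V7 h2) (fr7 (K := K)) h1 h3 h4 (ht2 0)
      odd := by decide
      s_pow := hs7
      s_comm := hsc
      g_zero := hg0
      link := hlink
      top := le_antisymm (iSup_le fun i => by
        rintro _ ⟨x, hx, rfl⟩
        exact mul_mem (mul_mem (hg i) (hMX hx)) (inv_mem (hg i))) htop }

end Cfsg.Agent.SM.O8.Spn
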