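import Cfsg.Agent.SM.O8.TW
import Cfsg.Agent.SM.O8.SpinOm
import Cfsg.Agent.H953.O8R.Spin

/-!
# SM (S3570), socle `PΩ⁺₈(q)`: box SPIN (helper30; copy of `H953/O8R/Spin` for `q ≥ 4`)
-/

set_option autoImplicit false
set_option linter.unusedSectionVars false

namespace Cfsg.Agent.SM.O8

namespace Spn

open Module QuadraticMap Cfsg Cfsg.Geo
open Cfsg.Agent.H708.O8 (I8 T8 RB)
open Cfsg.Agent.H884.El Cfsg.Agent.H915.LD
open Cfsg.Agent.H823.O8S Cfsg.Agent.H823.O8R Cfsg.Agent.H953.O8R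
open scoped MatrixGroups Matrix

variable {F : Type} [Field F] [Fintype F] {p a : ℕ} {R : Subgroup (T8 F)}

/-- **SPIN for `PSp₆(q)`** -/
theorem spin_sp4 (hF : Nat.card F = p ^ a) (h16 : 4 ≤ p ^ a) (S : Subgroup R) [S.Normal]
    {K : Type} [Field K] [Fintype K] (hK : Fintype.card K = p ^ a) (i : S ≃* PSp 3 K) :
    ∃ α : MulAut (T8 F), FixV (R.map α.toMonoidHom) := by
  have hFK : Fintype.card F = Fintype.card K := by rw [hK, ← hF, Nat.card_eq_fintype_card]
  have hn : mt (Fintype.card K) * Nat.gcd 2 (Fintype.card K - 1) = Fintype.card K + 1 := mt_eq _ Fintype.card_pos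
  obtain ⟨t, L, M, hD⟩ := data_sp4 (by rw [hK]; exact h16) hn
  have hf : Function.Injective (R.subtype.comp (S.subtype.comp i.symm.toMonoidHom)) := fun x y hxy =>
    i.symm.injective (Subtype.ext (Subtype.ext hxy))
  obtain ⟨α, r, c, hR⟩ := step_tri hF hf hD.rot (by rw [hFK]; exact hn)
  have hf' : Function.Injective (α.toMonoidHom.comp (R.subtype.comp (S.subtype.comp i.symm.toMonoidHom))) := fun x y hxy =>
    hf (α.injective hxy)
  obtain ⟨w, hw, hfix⟩ := H332.O8R.geo_sp sys8 hf' hD hR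
  exact ⟨α, fixV_of S i.symm α hw hfix⟩

/-- **SPIN for `Ω₇(q)`**, `q` odd -/
theorem spin_om4 (hF : Nat.card F = p ^ a) (hp : p.Prime) (hp2 : p ≠ 2) (h16 : 4 ≤ p ^ a) (S : Subgroup R) [S.Normal]
    {K : Type} [Field K] [Fintype K] (hK : Fintype.card K = p ^ a) (i : S ≃* POmega K (quadFormOdd 3 K)) :
    ∃ α : MulAut (T8 F), FixV (R.map α.toMonoidHom) := by
  have hFK : Fintype.card F = Fintype.card K := by rw [hK, ← hF, Nat.card_eq_fintype_card]
  have hodd : Odd (Fintype.card K) := by rw [hK]; exact (hp.odd_of_ne_two hp2).pow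
  have h2 : (2 : F) ≠ 0 := by
    intro h
    have hoddF : Odd (Fintype.card F) := by rw [hFK]; exact hodd
    obtain ⟨m, hm⟩ := hoddF
    have h3 := FiniteField.cast_card_eq_zero F
    rw [hm] at h3
    push_cast at h3
    rw [h, zero_mul, zero_add] at h3
    exact one_ne_zero h3
  have hn : mt (Fintype.card K) * Nat.gcd 2 (Fintype.card K - 1) = Fintype.card K + 1 := mt_eq _ Fintype.card_pos
  obtain ⟨t, L, A, B, M, s, k, g, hD⟩ := data_om4 hodd (by rw [hK]; exact h16) hn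
  have hf : Function.Injective (R.subtype.comp (S.subtype.comp i.symm.toMonoidHom)) := fun x y hxy =>
    i.symm.injective (Subtype.ext (Subtype.ext hxy))
  obtain ⟨α, r, c, hR⟩ := step_tri hF hf hD.rot (by rw [hFK]; exact hn)
  have hf' : Function.Injective (α.toMonoidHom.comp (R.subtype.comp (S.subtype.comp i.symm.toMonoidHom))) := fun x y hxy =>
    hf (α.injective hxy)
  obtain ⟨w, hw, hfix⟩ := H442.O8R.geo_om sys8 hf' h2 hD hR
  exact ⟨α, fixV_of S i.symm α hw hfix⟩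

end Spn

/-- **box SPIN** -/
theorem boxSpin : BoxSpin := by
  intro F _ _ p a hp h4 hF R S hS hK
  rcases hK with ⟨K, i1, i2, hK, ⟨i⟩⟩ | ⟨hp2, K, i1, i2, hK, ⟨i⟩⟩
  · exact Spn.spin_sp4 hF h4 S hK i
  · exact Spn.spin_om4 hF hp hp2 h4 S hK i

end Cfsg.Agent.SM.O8
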