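import Cfsg.Agent.SM.O8.Kill
import Cfsg.Agent.SM.O8.G6A
import Cfsg.Agent.SM.O8.Own
import Cfsg.Agent.SM.O8.Cross
import Cfsg.Agent.SM.O8.Spin
import Cfsg.Agent.SM.O8.Min
import Cfsg.Agent.SM.Asm
import Cfsg.Agent.H989.Cov.O8
import Cfsg.Agent.H59.O8S.Num

/-!
# SM, `S = PΩ⁺₈(q)`: the case `q ≥ 4` and the assembly (helper71)
-/

set_option autoImplicit false
set_option linter.unusedSectionVars false

namespace Cfsg.Agent.SM.O8

open Module QuadraticMap Cfsg Cfsg.Geo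
open Subgroup Equiv MulAction
open Cfsg.Agent.H951 (fx cm Inv mem_fx)
open Cfsg.Agent.H884.El (pre lin PP)
open Cfsg.Agent.H708.O8 (I8 T8)
open Cfsg.Agent.H823.O8S (mk8 gl8 RW prim_pp)
open Cfsg.Agent.H436 (Prim)
open Cfsg.Agent.SM.Ex78 (Pd)

theorem prim_five : Prim 5 (6 * 1) 7 := by
  refine ⟨by norm_num, fun m => ?_, by norm_num⟩
  have h : PP 5 6 7 := ⟨by norm_num, by
    rw [orderOf_eq_iff (by norm_num)]
    decide⟩
  exact h.dvd_iff (by norm_num) m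

theorem exists_nb {p a : ℕ} (hp : p.Prime) (ha : 1 ≤ a) (h4 : 4 ≤ p ^ a) : ∃ r b s k t, Nb p a r b s k t := by
  obtain ⟨r, b, h1⟩ := H989.Cov.O8.exists_rb hp ha
  obtain ⟨t, h3⟩ := H436.exists_prim (q := p ^ a) (e := 3) (by omega) le_rfl (by omega)
  have h3' := prim_pp (by omega) h3
  by_cases h5 : p ^ a = 5
  · obtain ⟨rfl, rfl⟩ := (Nat.Prime.pow_eq_iff (by norm_num : Nat.Prime 5)).1 h5
    exact ⟨r, b, 7, 1, t, h1, ⟨hp, ha, h4, prim_five, by norm_num, le_rfl⟩, Or.inr (Or.inr ⟨rfl, rfl, rfl, rfl⟩), h3'⟩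
  · obtain ⟨s, k, h2⟩ := H59.O8S.exists_rk hp ha h4 h5
    exact ⟨r, b, s, k, t, h1, h2.weak, h2.cases.imp_right Or.inl, h3'⟩

variable {F : Type} [Field F] [Fintype F] {p a r b s k t : ℕ} {X Y R : Subgroup (T8 F)} {U V : Subgroup (MulAut (T8 F))}

/-- the residual class -/
theorem res_case (hK : Kn) (hF : Nat.card F = p ^ a) (h : Nb p a r b s k t) (hR : R ≠ ⊤)
    (hN : Num (p ^ a) (Nat.card R)) (hres : InOrthogonalResidualClass (pre (quadFormPlus 4 F) R)) :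
    SR r R ∨ (t ∣ Nat.card R ∧ ∃ N σ, Mn R N σ) := by
  obtain ⟨P, hP, -⟩ := hres
  obtain ⟨S, hSn, hS, hna, hCe, he⟩ := H264.FKS.exists_res_plus (n := 4) le_rfl hP
  have hRs : Rs R S P := ⟨hR, hSn, hS, hna, hCe, hP, he⟩
  have hr : PP (Nat.card F) 4 r := hF ▸ G6.pp4 h
  by_cases hL : IsLieTypeChar p (H915.LD.Soc P)
  · rcases boxOwn F p a h.rb.hp h.rw.four hF R S P hRs hL hN with h1 | h1
    · obtain ⟨α, hα⟩ := boxSpin F p a h.rb.hp h.rw.four hF R S hSn h1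
      exact Or.inl (SR_of_fixV hr hα)
    · refine (boxMin (boxG34 boxTW) F p a r b s k t hF h R S P hRs h1).imp_right fun ⟨σ, hσ⟩ => ⟨?_, _, σ, hσ⟩
      exact (h1.dvd (Nat.one_le_pow _ _ h.rb.hp.pos) h.t).trans (Subgroup.card_subgroup_dvd_card S)
  · have := hP.simple
    exact absurd ⟨hN.1, hN.2.1⟩ (boxCross F p a r b s k t hF h R S P hRs hL (hK (H915.LD.Soc P))).2.2

/-- the conclusion -/
def Pp (X Y : Subgroup (T8 F)) : Prop :=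
  ∃ (α : MulAut (T8 F)) (v : I8 → F), quadFormPlus 4 F v ≠ 0 ∧ im α X = pt v ∧
    ∃ (β : MulAut (T8 F)) (w : I8 → F), w ≠ 0 ∧ im β Y = pt w

theorem case_X (hK : Kn) (hF : Nat.card F = p ^ a) (h : Nb p a r b s k t) (c : Cf X Y U V)
    (hX : r ∣ Nat.card X) (hY : r ∣ Nat.card Y) (hs : SR r X) : Pp X Y := by
  have hr : PP (Nat.card F) 4 r := hF ▸ G6.pp4 h
  have h4 : 4 ≤ Nat.card F := hF ▸ h.rw.four
  obtain ⟨α, hα⟩ := hs
  have c' := c.map α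
  have hX' : r ∣ Nat.card (im α X) := (card_im α X).symm ▸ hX
  have hY' : r ∣ Nat.card (im α Y) := (card_im α Y).symm ▸ hY
  obtain ⟨v, hv, e, hU⟩ := canX h4 hr c' hX' hα
  change im α X = pt v at e
  change Cf (im α X) (im α Y) _ _ at c'
  rw [e] at c' hX' hα
  have h1 : SR r (im α Y) := by
    rcases boxGB boxNT boxTW F p a r b s k t hF h v _ hv c'.pd with h2 | h2
    · exact h2
    · rcases res_case hK hF h c'.neY (hF ▸ numGB hv c'.pd c'.nb) h2 with h3 | ⟨-, N, σ, h3⟩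
      · exact h3
      · exact (kill_Y hr hv c' hX' hα h3).elim
  obtain ⟨β, w, hw, h2⟩ := pt_of_SR h4 hr hv c' hU hY' h1
  exact ⟨α, v, hv, e, β * α, w, hw, by rw [← im_im, h2]⟩

theorem case_Y (hK : Kn) (hF : Nat.card F = p ^ a) (h : Nb p a r b s k t) (c : Cf X Y U V)
    (hY : r ∣ Nat.card Y) (hsY : s ∣ Nat.card Y) (hs : SR r Y) : SR r X := by
  have hr : PP (Nat.card F) 4 r := hF ▸ G6.pp4 h
  have ht : PP (Nat.card F) 3 t := hF ▸ h.t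
  have hs6 : PP (Nat.card F) 6 s := hF ▸ h.rw.pp
  obtain ⟨α, hα⟩ := hs
  refine SR.of_im (α := α) ?_
  have c' := c.map α
  obtain ⟨h1, h2, -, h3⟩ := canY hr c' ((card_im α Y).symm ▸ hY) hα
  change Cf (im α X) (im α Y) _ _ at c'
  change im α Y = St (Fx r (im α Y)) at h1
  obtain ⟨z, hz, hzs, hz1⟩ := exists_elt hs6.prime (hs6.odd (by norm_num)) ((card_im α Y).symm ▸ hsY)
  generalize Fx r (im α Y) = W at hα h1 h2 h3
  rw [h1] at c' hz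
  have h6 : H823.O8R.Six (gl8 F z) s :=
    ⟨hs6, by rw [← map_pow, hzs, map_one], fun e => hz1 (by rw [gl8_injective (e.trans (map_one _).symm), map_one]), Q_ln z⟩
  have h7 : W ≤ fx (ln z) := h6.isoQ.le_fx hs6 (mem_St.1 hz) (h2.trans_lt (by norm_num))
  have h8 : An W := fun w hw => h6.plane.2 w (h7 hw)
  have h9 : finrank F W = 1 ∨ finrank F W = 2 := by
    have k1 : finrank F W ≤ 2 := (Submodule.finrank_mono h7).trans h6.plane.1.le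
    have k2 := Submodule.finrank_eq_zero.not.2 hα
    omega
  have h10 : (SR r (im α X) ∨ InOrthogonalResidualClass (pre (quadFormPlus 4 F) (im α X))) ∧
      Num (p ^ a) (Nat.card (im α X)) := by
    rcases h9 with k | k
    · obtain ⟨w, hw, hw0⟩ := (Submodule.ne_bot_iff _).1 hα
      have e : W = Submodule.span F {w} := (Submodule.eq_of_le_of_finrank_eq
        ((Submodule.span_singleton_le_iff_mem _ _).2 hw) ((finrank_span_singleton hw0).trans k.symm)).symm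
      have hq : quadFormPlus 4 F w ≠ 0 := fun k' => hw0 (h8 w hw k')
      rw [e] at c'
      exact ⟨boxGB boxNT boxTW F p a r b s _ t hF h w _ hq c'.pd.symm, hF ▸ numGB hq c'.pd.symm (by rw [inf_comm]; exact c'.nb)⟩
    · exact boxGP (boxG34 boxTW) boxNT F p a r b s _ t hF h W _ k h8 c'.pd
  rcases h10.1 with k1 | k1
  · exact k1
  · rcases res_case hK hF h c'.neX h10.2 k1 with k2 | ⟨k2, N, σ, k3⟩
    · exact k2
    · exact kill_X hr ht h9 h8 c' h3 k3 k2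

/-- **the factorisations for `q ≥ 4`** -/
theorem main4 (hK : Kn) (hG : BoxG6) (h4 : 4 ≤ Nat.card F) (c : Cf X Y U V) : Pp X Y := by
  obtain ⟨p, a, hp, ha, hF⟩ := exists_pa F
  obtain ⟨r, b, s, k, t, h⟩ := exists_nb hp ha (hF ▸ h4)
  have hX := boxA hK boxCross F p a r b s k t hF h X Y c.neX c.neY c.pd
  have hY := boxA hK boxCross F p a r b s k t hF h Y X c.neY c.neX c.pd.symm
  have hs6 : PP (Nat.card F) 6 s := hF ▸ h.rw.pp
  have key : ∀ Z : Subgroup (T8 F), ¬ s ∣ Z.index → s ^ k ∣ Nat.card Z := fun Z hZ => by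
    have h1 := (G6.parts hF h).2.2.1
    rw [← Z.card_mul_index] at h1
    exact (Nat.Coprime.pow_left k ((Nat.Prime.coprime_iff_not_dvd hs6.prime).2 hZ)).dvd_of_dvd_mul_right h1
  refine case_X hK hF h c hX hY ?_
  have hc : ∀ P : Subgroup (T8 F), IsPGroup s P → IsCyclic P := fun P hP => by
    have := H823.O8R.cyc_six hs6 P ⊤ (hP.to_subgroup ⊤)
    exact isCyclic_of_surjective _ (Subgroup.topEquiv (G := P)).surjective
  rcases c.pd.cyc hs6.prime hc with h1 | h1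
  · exact hG F p a r b s k t hF h X Y c.neX c.neY c.pd hX (key X h1)
  · exact case_Y hK hF h c hY ((dvd_pow_self s (by have := h.rw.hk; omega)).trans (key Y h1))
      (hG F p a r b s k t hF h Y X c.neY c.neX c.pd.symm hY (key Y h1))

/-! ### the assembly -/

theorem O7_lt {q q' : ℕ} (hq : 1 ≤ q) (h : q < q') :
    (q ^ 2 - 1) * (q ^ 4 - 1) * (q ^ 6 - 1) ≤ (q' ^ 2 - 1) * (q' ^ 4 - 1) * (q' ^ 6 - 1) ∧
      0 < (q' ^ 2 - 1) * (q' ^ 4 - 1) * (q' ^ 6 - 1) := by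
  have h1 : ∀ m, q ^ m - 1 ≤ q' ^ m - 1 := fun m => Nat.sub_le_sub_right (Nat.pow_le_pow_left h.le m) 1
  have h2 : ∀ m, m ≠ 0 → 0 < q' ^ m - 1 := fun m hm => Nat.sub_pos_of_lt (Nat.one_lt_pow hm (by omega))
  exact ⟨Nat.mul_le_mul (Nat.mul_le_mul (h1 2) (h1 4)) (h1 6),
    Nat.mul_pos (Nat.mul_pos (h2 2 (by norm_num)) (h2 4 (by norm_num))) (h2 6 (by norm_num))⟩

theorem O7_mono {q q' : ℕ} (hq : 1 ≤ q) (h : q < q') :
    q ^ 9 * ((q ^ 2 - 1) * (q ^ 4 - 1) * (q ^ 6 - 1)) < q' ^ 9 * ((q' ^ 2 - 1) * (q' ^ 4 - 1) * (q' ^ 6 - 1)) :=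
  Nat.mul_lt_mul_of_lt_of_le (Nat.pow_lt_pow_left h (by norm_num)) (O7_lt hq h).1 (O7_lt hq h).2

theorem O7_par {a m : ℕ} (ha : 2 ≤ a) (h : 2 ^ a < 2 * m + 1)
    (e : (2 * m + 1) ^ 9 * (((2 * m + 1) ^ 2 - 1) * ((2 * m + 1) ^ 4 - 1) * ((2 * m + 1) ^ 6 - 1)) =
      2 * ((2 ^ a) ^ 9 * (((2 ^ a) ^ 2 - 1) * ((2 ^ a) ^ 4 - 1) * ((2 ^ a) ^ 6 - 1)))) : False := by
  have hq : 4 ≤ 2 ^ a := (by norm_num : 4 ≤ 2 ^ 2).trans (Nat.pow_le_pow_right (by norm_num) ha)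
  obtain ⟨h1, h2⟩ := O7_lt (q := 2 ^ a) (by omega) h
  have h3 : (2 * m + 1) ^ 9 ≤ (2 * 2 ^ a) ^ 9 := by
    refine Nat.le_of_mul_le_mul_right ?_ h2
    rw [e]
    calc _ ≤ 2 * ((2 ^ a) ^ 9 * (((2 * m + 1) ^ 2 - 1) * ((2 * m + 1) ^ 4 - 1) * ((2 * m + 1) ^ 6 - 1))) :=
          Nat.mul_le_mul_left _ (Nat.mul_le_mul_left _ h1)
      _ ≤ 2 ^ 9 * ((2 ^ a) ^ 9 * (((2 * m + 1) ^ 2 - 1) * ((2 * m + 1) ^ 4 - 1) * ((2 * m + 1) ^ 6 - 1))) :=
          Nat.mul_le_mul_right _ (by norm_num)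
      _ = _ := by ring
  have h4 : m + 1 ≤ 2 ^ a := by
    have := (Nat.pow_le_pow_iff_left (by norm_num : 9 ≠ 0)).1 h3
    omega
  have e2 : (2 * m + 1) ^ 2 - 1 = 4 * (m * (m + 1)) := Nat.sub_eq_of_eq_add (by ring)
  have e4 : (2 * m + 1) ^ 4 - 1 = 8 * (m * (m + 1)) * (2 * (m * (m + 1)) + 1) := Nat.sub_eq_of_eq_add (by ring)
  have e6 : (2 * m + 1) ^ 6 - 1 = 4 * (m * (m + 1)) * (2 * (8 * (m * (m + 1)) ^ 2 + 6 * (m * (m + 1)) + 1) + 1) :=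
    Nat.sub_eq_of_eq_add (by ring)
  rw [e2, e4, e6] at e
  have co : ∀ n, Nat.Coprime ((2 ^ a) ^ 9) (2 * n + 1) := fun n =>
    Nat.Coprime.pow_left _ (Nat.Coprime.pow_left _ (Nat.coprime_two_left.2 ⟨n, rfl⟩))
  have h5 : (2 ^ a) ^ 9 ∣ 128 * m ^ 3 * (m + 1) ^ 3 := by
    have h6 : (2 ^ a) ^ 9 ∣ 128 * m ^ 3 * (m + 1) ^ 3 * (2 * m + 1) ^ 9 * (2 * (m * (m + 1)) + 1) *
        (2 * (8 * (m * (m + 1)) ^ 2 + 6 * (m * (m + 1)) + 1) + 1) :=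
      ⟨2 * (((2 ^ a) ^ 2 - 1) * ((2 ^ a) ^ 4 - 1) * ((2 ^ a) ^ 6 - 1)), by
        refine Eq.trans (by ring) (e.trans (by ring))⟩
    exact ((co m).pow_right 9).dvd_of_dvd_mul_right ((co _).dvd_of_dvd_mul_right ((co _).dvd_of_dvd_mul_right h6))
  have h7 : (2 ^ a) ^ 9 ≤ 128 * (2 ^ a) ^ 3 := by
    rcases Nat.even_or_odd' m with ⟨n, rfl | rfl⟩
    · have h8 := ((co n).pow_right 3).dvd_of_dvd_mul_right h5
      exact (Nat.le_of_dvd (by have : 0 < 2 * n := by omega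
                               positivity) h8).trans
        (Nat.mul_le_mul_left _ (Nat.pow_le_pow_left (by omega) 3))
    · rw [mul_right_comm] at h5
      have h8 := ((co n).pow_right 3).dvd_of_dvd_mul_right h5
      exact (Nat.le_of_dvd (by positivity) h8).trans (Nat.mul_le_mul_left _ (Nat.pow_le_pow_left h4 3))
  have h9 : (2 ^ a) ^ 6 * (2 ^ a) ^ 3 ≤ 128 * (2 ^ a) ^ 3 := (le_of_eq (by ring)).trans h7
  have h10 := Nat.le_of_mul_le_mul_right h9 (by positivity)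
  have h11 := Nat.pow_le_pow_left hq 6
  omega

theorem gcd_two (q : ℕ) (hq : 1 ≤ q) : (Nat.gcd 2 (q - 1) = 1 ∧ Even q) ∨ (Nat.gcd 2 (q - 1) = 2 ∧ Odd q) := by
  rcases Nat.even_or_odd' q with ⟨n, rfl | rfl⟩
  · exact Or.inl ⟨Nat.coprime_two_left.2 ⟨n - 1, by omega⟩, n, by ring⟩
  · exact Or.inr ⟨Nat.gcd_eq_left ⟨n, by omega⟩, n, rfl⟩

theorem O7_not_lt {p a q' n : ℕ} (hp : p.Prime) (h4 : 4 ≤ p ^ a) (h : p ^ a < q') (h1 : O7 (p ^ a) n) (h2 : O7 q' n) :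
    False := by
  have h3 := O7_mono (q := p ^ a) (by omega) h
  unfold O7 at h1 h2
  rcases gcd_two (p ^ a) (by omega) with ⟨k1, k2⟩ | ⟨k1, -⟩ <;> rcases gcd_two q' (by omega) with ⟨k3, -⟩ | ⟨k3, m, k4⟩ <;>
    rw [k1] at h1 <;> rw [k3] at h2
  · omega
  · obtain rfl : p = 2 := hp.even_iff.1 (Nat.even_pow.1 k2).1
    subst k4
    refine O7_par (a := a) ?_ h (by omega)
    by_contra hc
    have : a = 0 ∨ a = 1 := by omega
    rcases this with rfl | rfl <;> norm_num at h4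
  · omega
  · omega

/-- `PΩ⁺₈(q)`, `q ≥ 4` -/
def f84 : Fam := fun S _ =>
  ∃ (F : Type) (_ : Field F) (_ : Fintype F), 4 ≤ Nat.card F ∧ Nonempty (S ≃* POmega F (quadFormPlus 4 F))

/-- the row for `q ≥ 4` -/
def R4 : Tab := fun t _ k => k = 2 ∧ ∃ p a : ℕ, p.Prime ∧ 1 ≤ a ∧ 4 ≤ p ^ a ∧ O7 (p ^ a) t

variable {Ω : Type} [Fintype Ω] [DecidableEq Ω] {X₀ H T M S : Subgroup (Perm Ω)}

theorem up_four (hK : Kn) (hG : BoxG6) (h4 : 4 ≤ Nat.card F) (u : Up X₀ H T M S) (φ : S ≃* T8 F) (x : Ω) :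
    O7 (Nat.card F) (Nat.card T) ∧ ∃ φ : S ≃* T8 F, ∃ v, quadFormPlus 4 F v ≠ 0 ∧ dn φ T = pt v ∧
      ∃ (α : MulAut (T8 F)) (w : I8 → F), w ≠ 0 ∧ im α (dn φ (M ⊓ stabilizer (Perm Ω) x)) = pt w := by
  obtain ⟨α, v, hv, h1, β, w, hw, h2⟩ := main4 hK hG h4 ((u.fac x).cf φ)
  refine ⟨?_, φ.trans α, v, hv, (dn_trans φ α T).trans h1, β * α⁻¹, w, hw, ?_⟩
  · rw [← card_dn φ u.le, ← card_im α, h1]
    exact (boxExt F v hv).2.1
  · rw [dn_trans]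
    change im _ (im α _) = _
    rw [im_im, inv_mul_cancel_right, h2]

theorem bnd84 (hK : Kn) (hG : BoxG6) : Bnd f84 R4 := by
  rintro Ω _ _ X H T ⟨M₀, S₀, u₀, F, _, _, h4, ⟨φ₀⟩⟩
  obtain ⟨x⟩ : Nonempty Ω := Fintype.card_pos_iff.1 (lt_of_lt_of_le (by norm_num) u₀.two)
  obtain ⟨p, a, hp, ha, hF⟩ := exists_pa F
  have h1 := (up_four hK hG h4 u₀ φ₀ x).1
  refine ⟨2, ⟨rfl, p, a, hp, ha, hF ▸ h4, hF ▸ h1⟩, cnt (X := X) (H := H) (T := T) (F := F) x ?_⟩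
  rintro M ⟨S, u, F', _, _, h4', ⟨φ⟩⟩
  obtain ⟨p', a', hp', ha', hF'⟩ := exists_pa F'
  have h2 := (up_four hK hG h4' u φ x).1
  have h3 : Nat.card F' = Nat.card F := by
    rcases lt_trichotomy (Nat.card F') (Nat.card F) with k | k | k
    · exact (O7_not_lt hp' (hF' ▸ h4') (hF' ▸ k) (hF' ▸ h2) h1).elim
    · exact k
    · exact (O7_not_lt hp (hF ▸ h4) (hF ▸ k) (hF ▸ h1) h2).elim
  obtain ⟨e⟩ := nonempty_T8 (F := F') (F' := F) (by rw [← Nat.card_eq_fintype_card, ← Nat.card_eq_fintype_card, h3])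
  exact ⟨S, u, (up_four hK hG h4 u (φ.trans e) x).2⟩

theorem R4.lt {t n k : ℕ} (h : R4 t n k) : 4 ^ 18 < t := by
  obtain ⟨-, p, a, -, -, h1, h2⟩ := h
  exact (Nat.pow_le_pow_left h1 18).trans_lt (lt_O7 (by omega) h2)

theorem R2.r8 {t n k : ℕ} (h : R2 t n k) : R8 t n k := by
  rcases h with ⟨rfl, rfl⟩ | h | h
  · exact Or.inl ⟨rfl, 2, 1, Nat.prime_two, le_rfl, by unfold O7; norm_num⟩
  · exact Or.inr (Or.inl h)
  · exact Or.inr (Or.inr (Or.inl h))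

theorem R3.r8 {t n k : ℕ} (h : R3 t n k) : R8 t n k := by
  rcases h with ⟨rfl, rfl⟩ | h | h | h
  · exact Or.inl ⟨rfl, 3, 1, Nat.prime_three, le_rfl, by unfold O7; norm_num⟩
  · exact Or.inr (Or.inr (Or.inr (Or.inl h)))
  · exact Or.inr (Or.inr (Or.inr (Or.inr (Or.inl h))))
  · exact Or.inr (Or.inr (Or.inr (Or.inr (Or.inr h))))

theorem R4.r8 {t n k : ℕ} (h : R4 t n k) : R8 t n k := by
  obtain ⟨h1, p, a, h2, h3, -, h4⟩ := h
  exact Or.inl ⟨h1, p, a, h2, h3, h4⟩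

/-- two tables without a common order -/
theorem bnd_or {P P₁ P₂ : Fam} {R₁ R₂ : Tab} (h₁ : Bnd P₁ R₁) (h₂ : Bnd P₂ R₂)
    (hP : ∀ (S : Type) [Group S], P S → P₁ S ∨ P₂ S) (hR : ∀ t n k₁ k₂, R₁ t n k₁ → R₂ t n k₂ → False) :
    Bnd P fun t n k => R₁ t n k ∨ R₂ t n k := by
  refine h₁.split h₂ hP fun t n k₁ k₂ a₁ a₂ h => ?_
  rcases h with h | h
  · rcases a₂ with rfl | a₂
    · exact ⟨k₁, le_rfl, Or.inl h⟩
    · exact (hR _ _ _ _ h a₂).elim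
  · rcases a₁ with rfl | a₁
    · exact ⟨k₂, by omega, Or.inr h⟩
    · exact (hR _ _ _ _ a₁ h).elim

/-- **the family `PΩ⁺₈(q)`** -/
theorem bnd8_of (hK : Kn) (hG : BoxG6) (h2 : Box2) (h3 : Box3) : Bnd f8 R8 := by
  have h23 := bnd_or (P := fun S _ => f8q 2 S ∨ f8q 3 S) h2 h3 (fun _ _ h => h) fun t n k₁ k₂ a b => by
    unfold R2 at a
    unfold R3 at b
    omega
  refine (bnd_or (P := f8) h23 (bnd84 hK hG) ?_ fun t n k₁ k₂ a b => ?_).mono fun t n k h => ⟨k, le_rfl, ?_⟩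
  · rintro S _ ⟨F, _, _, e⟩
    have h1 : 1 < Fintype.card F := Fintype.one_lt_card
    by_cases k2 : Fintype.card F = 2
    · exact Or.inl (Or.inl ⟨F, _, _, k2, e⟩)
    by_cases k3 : Fintype.card F = 3
    · exact Or.inl (Or.inr ⟨F, _, _, k3, e⟩)
    · exact Or.inr ⟨F, _, ‹_›, by rw [Nat.card_eq_fintype_card]; omega, e⟩
  · have h1 := b.lt
    unfold R2 R3 at a
    omega
  · rcases h with (h | h) | h
    exacts [h.r8, h.r8, h.r8]

end Cfsg.Agent.SM.O8
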