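import Cfsg.Agent.SM.O8.GA
import Cfsg.Agent.H856.Om7.Geo

/-!
# SM (S3570), `PΩ⁺₈(q)`: the geometric classes, `boxG34` (helper89)

* `split` : Aschbacher's theorem for a group of order divisible by `r ^ b`;
* `boxG34`.
-/

set_option autoImplicit false
set_option linter.unusedSectionVars false
set_option maxHeartbeats 400000

namespace Cfsg.Agent.SM.O8

open Module QuadraticMap Cfsg Cfsg.Geo Cfsg.Agent.LieClassical.OrthCore Cfsg.Agent.H955 Cfsg.Agent.H954.TSing
open Cfsg.Agent.LieClassical.OmegaReindex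
open Cfsg.Agent.H951 (fx cm Inv)
open Cfsg.Agent.H884.El
open Cfsg.Agent.H708.O8 (I8 T8 RB kill_symp)
open Cfsg.Agent.H683.O8R (Sub2 inv_of_fix sub_two)
open scoped MatrixGroups Matrix

namespace G4

variable {F : Type} [Field F] [Fintype F] {p a r b : ℕ}

/-- `H` keeps the pair `W`, `W^⊥` of nondegenerate 4-spaces -/
def N4 (H : Subgroup (GL I8 F)) : Prop :=
  ∃ W : Submodule F (I8 → F), Nondeg (res (quadPlus 4 F) W) ∧ finrank F W = 4 ∧
    (∀ g ∈ H, Inv (lin g) W ∨ ∀ w ∈ W, lin g w ∈ perp (quadPlus 4 F) W) ∧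
    ∀ g ∈ H, ∀ m, Odd m → g ^ m = 1 → Inv (lin g) W

/-- `H` normalises a quadratic field -/
def F2 (H : Subgroup (GL I8 F)) : Prop :=
  ActsIrreducibly (matrixSet H) ∧ ∃ K : Subalgebra F (Matrix I8 I8 F), IsFieldSubalgebra 2 K ∧
    IsAdjointClosedFor (polar (quadFormPlus 4 F)) K ∧ H ≤ subalgebraNormalizer K

/-- **the geometric classes** -/
theorem split (hTW : BoxTW) (hF : Nat.card F = p ^ a) (h : RB p a r b) (h4 : 4 ≤ p ^ a) {R : Subgroup (T8 F)}
    (hrb : r ^ b ∣ Nat.card R) : SR r R ∨ InOrthogonalResidualClass (pre (quadFormPlus 4 F) R) ∨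
      Sub2 (pre (quadFormPlus 4 F) R) ∨ N4 (pre (quadFormPlus 4 F) R) ∨ F2 (pre (quadFormPlus 4 F) R) := by
  have hH : pre (quadFormPlus 4 F) R ≤ isometryGroup F (quadFormPlus 4 F) := pre_le
  replace hrb : r ^ b ∣ Nat.card (pre (quadFormPlus 4 F) R) := hrb.trans card_dvd_pre
  have hsm := fun W => sr_small (R := R) (W := W) (h.ppF hF)
  have hts := fun W => sr_ts (R := R) (W := W) hTW (h.ppF hF)
  have hten := fun n₁ n₂ => tens (R := R) (n₁ := n₁) (n₂ := n₂) hTW hF (h.ppF hF)
  generalize pre (quadFormPlus 4 F) R = H at hH hrb hsm hts hten ⊢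
  have hb1 : 1 ≤ b := h.b1
  have hr : r ∣ Nat.card H := (dvd_pow_self r (by omega)).trans hrb
  have hQ : Nondeg (quadPlus 4 F) := nondeg_iff.2 quadPlus_nondegenerate
  have hcoe : ⇑(quadPlus 4 F) = quadFormPlus 4 F := coe_quadPlus 4 F
  have hn : Fintype.card (Fin 4 ⊕ Fin 4) = 8 := by simp
  have hH' := hH
  rw [← hcoe] at hH'
  have h5 := h.five
  have hP4 : PP (Nat.card F) 4 r := h.ppF hF
  have hq := one_lt_q F
  have hfinG : Finite (GL I8 F) := inferInstance
  have hrodd : Odd r := hP4.odd (by norm_num)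
  have hcas : 13 ≤ r ∨ (r = 5 ∧ 2 ≤ b) := by
    rcases h.cases with ⟨h13, -⟩ | ⟨h1, hb2, -⟩ | ⟨-, -, hp23, ha1⟩
    · exact Or.inl h13
    · exact Or.inr ⟨h1, hb2⟩
    · rw [ha1] at h4
      rcases hp23 with h0 | h0 <;> rw [h0] at h4 <;> norm_num at h4
  by_cases hirr : ActsIrreducibly (matrixSet H)
  · rcases Cfsg.Agent.H925.orth_irreducible_fine (by omega) (Cfsg.Agent.H884.OddForm.isNondegenerate_of_nondeg _ hQ) hH' hirr with
      ⟨t', k', D, htk, hD, hHD, -⟩ | ⟨k', D, hk', hD, hDs, hHD⟩ | ⟨s', K, hs', hsn, hK, hadj, hHK⟩ |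
      ⟨n₁, n₂, e, P, ε, f₁, f₂, h1, h1', h12, hε, hf₁, hf₂, hT, hHT⟩ | ⟨F₁, s', B, ζ, -, hs', hcard, hζ, hrat, hHF⟩ |
      ⟨s', m, E, hRH, -, hHR, habs, hR, hchar, hm, hsm, -, ht', -⟩ | ⟨k', t', e, P, E, hkt, hW⟩ | hS
    · have h2t := hD.decomp.decomp.two_le
      have hkpos := hD.decomp.decomp.pos
      rw [hn] at htk
      by_cases hk4 : k' < 4
      · exfalso
        have hrt := decomp_le hD.decomp.decomp hHD hP4 hk4 hr
        have hk1 : k' = 1 := by
          by_contra hcon
          have h3 : 2 ≤ k' := by omega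
          have := Nat.mul_le_mul hrt h3
          omega
        subst hk1
        obtain ⟨rfl, hb2⟩ := hcas.resolve_left (by omega)
        have h3 := H856.Om7.decomp_dvd hD.decomp.decomp hHD hP4.prime (fun h6 => by
          have := (hP4.dvd_iff hq.le 1).1 (by rwa [pow_one])
          omega) ((pow_dvd_pow 5 hb2).trans hrb)
        rw [show t' = 8 by omega] at h3
        revert h3
        decide
      · have ht2 : t' = 2 := by
          have h3 : t' < 3 := by
            by_contra hcon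
            push Not at hcon
            have := Nat.mul_le_mul hcon (not_lt.1 hk4)
            omega
          omega
        subst ht2
        obtain rfl : k' = 4 := by omega
        refine Or.inr (Or.inr (Or.inr (Or.inl ⟨D 0, nondeg_of_on (hD.decomp.nondegenerate 0),
          hD.decomp.decomp.finrank_eq 0, fun g hg => ?_, fun g hg m hm hgm => inv_of_fix hHD hg hm hgm 0⟩)))
        obtain ⟨σ, hσ⟩ := hHD hg
        have h3 : ∀ w ∈ D 0, lin g w ∈ D (σ 0) := fun w hw => by
          rw [← hσ]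
          exact Submodule.mem_map_of_mem hw
        by_cases h0 : σ 0 = 0
        · rw [h0] at h3
          exact Or.inl h3
        · exact Or.inr fun w hw u hu => hD.decomp.orthogonal 0 (σ 0) (Ne.symm h0) u hu _ (h3 w hw)
    · refine Or.inl (hts (D 0) (fun h0 => ?_) (fun w hw => (qp w).symm.trans (hDs 0 w hw))
        fun g hg hgr => inv_of_fix hHD hg hrodd hgr 0)
      have h3 := hD.finrank_eq 0
      have h6 := hD.pos
      rw [h0, finrank_bot] at h3
      omega
    · rw [hn] at hsn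
      obtain rfl : s' = 2 := by
        have : s' ∣ 2 ^ 3 := hsn
        exact (Nat.prime_dvd_prime_iff_eq hs' Nat.prime_two).1 (hs'.dvd_of_dvd_pow this)
      rw [hcoe] at hadj
      exact Or.inr (Or.inr (Or.inr (Or.inr ⟨hirr, K, hK, hadj, hHK⟩)))
    · exact Or.inl (hten n₁ n₂ e P hε h1 h1' (h12.trans hn) hf₁ hf₂ hT hHT)
    · obtain rfl := sub_two hF h hHF hs' hcard hr
      rw [hcoe] at hrat
      exact Or.inr (Or.inr (Or.inl ⟨hirr, F₁, B, ζ, hζ, hcard, hrat, hHF⟩))
    · exfalso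
      rcases hcas with h13 | ⟨-, hb2⟩
      · have := symp_le hHR habs hR hm hsm ht' hP4 (by norm_num) hr
        rw [hn] at this
        omega
      · exact kill_symp hF h hRH hHR habs hR hm hsm ht' ((pow_dvd_pow r hb2).trans hrb)
    · exfalso
      have h2k := hW.two_le_m
      have h2t := hW.two_le_t
      have hk3 : k' < 3 := by
        by_contra hcon
        push Not at hcon
        have h3 : 3 ^ 2 ≤ k' ^ t' := (Nat.pow_le_pow_left hcon 2).trans (Nat.pow_le_pow_right (by omega) h2t)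
        omega
      have ht4 : t' < 4 := by
        by_contra hcon
        push Not at hcon
        have h3 : 2 ^ 4 ≤ k' ^ t' := (Nat.pow_le_pow_left h2k 4).trans (Nat.pow_le_pow_right (by omega) hcon)
        omega
      rcases H251.GeoCard.wreath e P hP4.prime (hP4.not_dvd (by omega))
        (hr.trans (Subgroup.card_dvd_of_le hW.wreath)) with h | h
      · omega
      · have := le_of_div hP4 (one_lt_q F).le h
        omega
    · exact Or.inr (Or.inl hS)
  · rcases Cfsg.Agent.H925.reducible_cases (Cfsg.Agent.H884.OddForm.isNondegenerate_of_nondeg _ hQ) hH' hirr with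
      ⟨W, hW0, hWs, hHW⟩ | ⟨W, hW0, hWn, hd, hHW⟩ | ⟨-, v, hv, hHW⟩
    · exact Or.inl (hts W hW0 (fun w hw => (qp w).symm.trans (hWs w hw)) fun g hg _ => inv_of_mem (hHW hg))
    · rw [hn] at hd
      by_cases h3 : finrank F W ≤ 3
      · exact Or.inl (hsm W hW0 h3 fun g hg _ => inv_of_mem (hHW hg))
      · exact Or.inr (Or.inr (Or.inr (Or.inl ⟨W, nondeg_of_on hWn, (by omega : finrank F W = 4),
          fun g hg => Or.inl (inv_of_mem (hHW hg)), fun g hg _ _ _ => inv_of_mem (hHW hg)⟩)))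
    · have hv0 : v ≠ 0 := by
        rintro rfl
        exact hv (QuadraticMap.map_zero _)
      exact Or.inl (hsm _ (by rw [Ne, Submodule.span_singleton_eq_bot]; exact hv0)
        ((finrank_span_singleton (K := F) hv0).le.trans (by norm_num)) fun g hg _ => inv_of_mem (hHW hg))

/-- `r₃` kills the pairs of nondegenerate 4-spaces -/
theorem N4.kill {H : Subgroup (GL I8 F)} (hH : H ≤ isometryGroup F (quadFormPlus 4 F)) {t : ℕ}
    (hP3 : PP (Nat.card F) 3 t) (ht : t ∣ Nat.card H) (h : N4 H) : False := by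
  obtain ⟨W, hWn, hd, -, hW⟩ := h
  have hQ : Nondeg (quadPlus 4 F) := nondeg_iff.2 quadPlus_nondegenerate
  rw [← coe_quadPlus] at hH
  have hfin : finrank F (I8 → F) = 8 := H886.O8R.finrank_I8'
  obtain ⟨z, hzH, hziso, hzt, hz1⟩ := exists_elt hH hP3 (by omega) ht
  obtain ⟨hzcm, -, -⟩ := hziso.odd_case hQ (lin_ne_one hz1) hP3 (by decide) (hfin.le.trans_lt (by norm_num))
  have hzadd : finrank F (fx (lin z)) + finrank F (cm (lin z)) = 8 := hziso.finrank_add.trans hfin
  have hW := hW z hzH t (hP3.odd (by norm_num)) hzt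
  have h1 := hziso.even_inf hW hWn
  have h3 := hziso.dvd hP3 hW
  have h4 : finrank F ↥(W ⊓ cm (lin z)) ≤ 4 := (Submodule.finrank_mono (inf_le_left : W ⊓ cm (lin z) ≤ W)).trans hd.le
  have h5 : finrank F ↥(W ⊓ cm (lin z)) = 0 := by
    obtain ⟨k, hk⟩ := h1
    obtain ⟨l, hl⟩ := h3
    omega
  have h6 := (H951.finrank_inf_add hziso.ne0 hziso.pow hW).trans hd
  have h8 := Submodule.finrank_mono (inf_le_right : W ⊓ fx (lin z) ≤ fx (lin z))
  omega

end G4

/-- **(7a)** -/
theorem boxG34 (hTW : BoxTW) : BoxG34 := by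
  intro F _ _ p a r b s k t hF h R hrb ht
  have hP3 : PP (Nat.card F) 3 t := by rw [hF]; exact h.t
  replace ht : t ∣ Nat.card (pre (quadFormPlus 4 F) R) := ht.trans card_dvd_pre
  rcases G4.split hTW hF h.rb h.rw.four hrb with h1 | h1 | h1 | h1 | ⟨-, K, hK, -, hHK⟩
  · exact Or.inl h1
  · exact Or.inr (Or.inr h1)
  · exact Or.inr (Or.inl h1)
  · exact (h1.kill pre_le hP3 ht).elim
  · have hH : pre (quadFormPlus 4 F) R ≤ isometryGroup F (quadPlus 4 F) := by
      have h1 : isometryGroup F (quadFormPlus 4 F) ≤ isometryGroup F (quadPlus 4 F) := by rw [coe_quadPlus]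
      exact pre_le.trans h1
    exact (no_quadratic_field (nondeg_iff.2 quadPlus_nondegenerate) hH hP3 (by decide) le_rfl (by simp) ht hK hHK).elim

end Cfsg.Agent.SM.O8
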