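import Cfsg.Agent.SM.O8.G6A
import Cfsg.Agent.H886.O8R.OrdV
import Cfsg.Agent.H708.Rg.TriJ
import Cfsg.Agent.H958.Bridge

/-!
# SM (S3570), socle `PΩ⁺₈(q)`, `q ≥ 4`: the factor which contains the Sylow `r₆`-subgroup (helper18)
-/

set_option autoImplicit false
set_option linter.unusedSectionVars false

namespace Cfsg.Agent.SM.O8

open Module QuadraticMap Cfsg Cfsg.Geo Cfsg.Agent.LieClassical.OrthCore Cfsg.Agent.H955 Cfsg.Agent.H954.TSing
open Cfsg.Agent.LieClassical.OmegaReindex Cfsg.Agent.OrdDiv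
open Cfsg.Agent.H951 (fx cm Inv)
open Cfsg.Agent.H884.El
open Cfsg.Agent.H708.O8 (I8 T8 RB)
open Cfsg.Agent.H436 (Prim)
open Cfsg.Agent.H823.O8S Cfsg.Agent.H823.O8R
open Cfsg.Agent.H886.O8R (om Xw mkT)
open Cfsg.Agent.SM.Ex78 (Pd)
open scoped MatrixGroups Matrix

namespace G6

variable {F : Type} [Field F] [Fintype F] {p a r b s k t : ℕ} {R : Subgroup (T8 F)}

theorem pre_le' : pre (quadFormPlus 4 F) R ≤ isometryGroup F (⇑(quadPlus 4 F)) := by
  rw [coe_quadPlus]
  exact H884.El.pre_le (Q := quadFormPlus 4 F) (M := R)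

theorem inv_SW {W : Submodule F (I8 → F)} {g : GL I8 F} (h : g ∈ SW W) : Inv (lin g) W := fun w hw => by
  rw [← mem_SW.1 h]
  exact ⟨w, hw, rfl⟩

/-- small invariant subspaces are fixed by the elements of order `r` -/
theorem le_Fx (hr : PP (Nat.card F) 4 r) {W : Submodule F (I8 → F)} (h4 : finrank F W < 4)
    (hle : pre (quadFormPlus 4 F) R ≤ SW W) : W ≤ Fx r R := by
  refine le_iInf fun g => ?_
  have hiso : Iso (quadPlus 4 F) (lin g.1) r :=
    Iso.mk' hr (by norm_num) (by rw [← lin_pow, g.2.2, lin_one]) (lin_iso pre_le' g.2.1)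
  exact hiso.le_fx hr (inv_SW (hle g.2.1)) h4

theorem fx_ne (hr : PP (Nat.card F) 4 r) (h : FixV R ∨ FixP R) : Fx r R ≠ ⊥ := by
  rcases h with ⟨w, hw, hle⟩ | ⟨W, hW, -, hle⟩
  · have hw0 : w ≠ 0 := by
      rintro rfl
      apply hw
      rw [← coe_quadPlus, QuadraticMap.map_zero]
    intro h0
    have h1 := le_Fx hr (by rw [finrank_span_singleton hw0]; norm_num) hle (Submodule.mem_span_singleton_self w)
    rw [h0, Submodule.mem_bot] at h1
    exact hw0 h1
  · intro h0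
    have h1 := le_Fx hr (by rw [hW]; norm_num) hle
    rw [h0, le_bot_iff] at h1
    rw [h1, finrank_bot] at hW
    omega

/-- the orbit of a vector of an invariant subspace -/
theorem orb {W : Submodule F (I8 → F)} (hle : pre (quadFormPlus 4 F) R ≤ SW W) {w : I8 → F} (hw : w ∈ W) (hw0 : w ≠ 0) :
    ∃ n, 0 < n ∧ n < Nat.card F ^ finrank F W ∧ Nat.card R ∣ n * Nat.card (Xw w) := by
  have hfin : Finite (Omega F (quadFormPlus 4 F)) := inferInstance
  have h1 := H886.O8R.card_orbit (R.comap (mkT F)) w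
  have h2 : Nat.card R ∣ Nat.card (R.comap (mkT F)) := by
    conv_lhs => rw [← Subgroup.map_comap_eq_self_of_surjective (QuotientGroup.mk'_surjective _) R]
    exact Subgroup.card_map_dvd _ _
  refine ⟨Nat.card {v : I8 → F // ∃ x ∈ R.comap (mkT F), om F x w = v}, ?_, ?_, ?_⟩
  · refine Nat.pos_of_ne_zero fun h0 => ?_
    rw [h0, zero_mul] at h1
    exact Nat.card_pos.ne h1
  · rw [← Module.natCard_eq_pow_finrank]
    have hm : ∀ v : {v : I8 → F // ∃ x ∈ R.comap (mkT F), om F x w = v}, v.1 ∈ W := by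
      rintro ⟨v, x, hx, rfl⟩
      exact inv_SW (hle (mem_pre.2 hx)) w hw
    have hfW : Finite W := inferInstance
    have key : ∀ v : {v : I8 → F // ∃ x ∈ R.comap (mkT F), om F x w = v}, v.1 ≠ 0 := by
      rintro ⟨v, x, hx, rfl⟩ h12
      exact hw0 ((om F x).map_eq_zero_iff.1 h12)
    have h3 : Nat.card (Option {v : I8 → F // ∃ x ∈ R.comap (mkT F), om F x w = v}) ≤ Nat.card W := by
      refine Nat.card_le_card_of_injective (fun o => o.elim (0 : W) fun v => ⟨v.1, hm v⟩) ?_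
      rintro (_ | u) (_ | v) huv
      · rfl
      · exact absurd (congrArg (fun z : W => z.1) huv).symm (key v)
      · exact absurd (congrArg (fun z : W => z.1) huv) (key u)
      · have h12 : u.1 = v.1 := congrArg (fun z : W => z.1) huv
        rw [Subtype.ext h12]
    rw [Finite.card_option] at h3
    exact h3
  · rw [← h1] at h2
    exact h2.trans (Nat.mul_dvd_mul_left _ (Subgroup.card_dvd_of_le inf_le_right))

theorem card_omega5 (hF : Nat.card F = 5) :
    Nat.card (Omega F (quadFormPlus 4 F)) ∣ 2 * 5 ^ 12 * (624 * 24 * 624 * 15624) := by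
  have h1 := S0287.result (F := F) (q := 5) (by rw [← Nat.card_eq_fintype_card, hF]) 4 (by norm_num)
  refine (Subgroup.card_subgroup_dvd_card _).trans (dvd_of_eq ?_)
  rw [h1]
  simp only [Finset.prod_range_succ, Finset.prod_range_zero]
  norm_num

/-- `q = 5`: a nonsingular vector in an invariant subspace of dimension at most two -/
theorem kill_ns (hF : Nat.card F = 5) {W : Submodule F (I8 → F)} (hle : pre (quadFormPlus 4 F) R ≤ SW W)
    (h2 : finrank F W ≤ 2) {w : I8 → F} (hw : w ∈ W) (hw0 : quadFormPlus 4 F w ≠ 0) : ¬ 5 ^ 11 ∣ Nat.card R := by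
  intro hd
  obtain ⟨n, hn0, hn, h1⟩ := orb hle hw (by
    rintro rfl
    apply hw0
    rw [← coe_quadPlus, QuadraticMap.map_zero])
  have hn' : n < 25 := by
    rw [hF] at hn
    exact hn.trans_le (Nat.pow_le_pow_right (by norm_num) h2)
  have h3 := H886.O8R.card_stab hw0
  rw [← Nat.card_eq_fintype_card, hF] at h3
  have h4 := card_omega5 hF
  rw [← h3] at h4
  have h5 : 5 ^ 10 ∣ Nat.card (Xw w) := by
    have h6 := hd.trans h1
    by_cases h7 : 5 ∣ n
    · obtain ⟨m, rfl⟩ := h7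
      rw [pow_succ', mul_assoc] at h6
      have h8 : Nat.Coprime (5 ^ 10) m := by
        refine Nat.Coprime.pow_left _ ((Nat.Prime.coprime_iff_not_dvd (by norm_num)).2 ?_)
        omega
      exact h8.dvd_of_dvd_mul_left (Nat.dvd_of_mul_dvd_mul_left (by norm_num) h6)
    · have h8 : Nat.Coprime (5 ^ 11) n := Nat.Coprime.pow_left _ ((Nat.Prime.coprime_iff_not_dvd (by norm_num)).2 h7)
      exact (pow_dvd_pow 5 (by norm_num)).trans (h8.dvd_of_dvd_mul_left h6)
  have h6 := (Nat.mul_dvd_mul_left (5 ^ 7 - 5 ^ 3) h5).trans h4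
  norm_num at h6

/-- `q = 5`: an invariant singular point -/
theorem kill_sing (hF : Nat.card F = 5) {W : Submodule F (I8 → F)} (hle : pre (quadFormPlus 4 F) R ≤ SW W)
    (h2 : finrank F W ≤ 1) {w : I8 → F} (hw : w ∈ W) (hw0 : w ≠ 0) (hs : quadFormPlus 4 F w = 0) : ¬ 81 ∣ Nat.card R := by
  classical
  intro hd
  obtain ⟨n, hn0, hn, h1⟩ := orb hle hw hw0
  have hn' : n < 5 := by
    rw [hF] at hn
    exact hn.trans_le (Nat.pow_le_pow_right (by norm_num) h2)
  have h3 := H886.O8R.card_orbit (⊤ : Subgroup (Omega F (quadFormPlus 4 F))) w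
  rw [top_inf_eq, Subgroup.card_top] at h3
  have h7 : Nat.card {v : I8 → F // ∃ x ∈ (⊤ : Subgroup (Omega F (quadFormPlus 4 F))), om F x w = v} = 78624 := by
    have h8 := LieClassical.QuadCount.card_plus (F := F) 4 0
    rw [if_pos rfl, ← Nat.card_eq_fintype_card, hF] at h8
    have h9 : Nat.card {v : Fin 4 ⊕ Fin 4 → F // quadFormPlus 4 F v = 0} = 78625 := by omega
    have h0 : quadFormPlus 4 F (0 : I8 → F) = 0 := by rw [← coe_quadPlus, QuadraticMap.map_zero]
    have h10 := Finite.card_option (α := {v : I8 → F // ∃ x ∈ (⊤ : Subgroup (Omega F (quadFormPlus 4 F))), om F x w = v})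
    have h11 : Nat.card (Option {v : I8 → F // ∃ x ∈ (⊤ : Subgroup (Omega F (quadFormPlus 4 F))), om F x w = v}) =
        Nat.card {v : Fin 4 ⊕ Fin 4 → F // quadFormPlus 4 F v = 0} := by
      refine Nat.card_eq_of_bijective (fun o => o.elim ⟨0, h0⟩ fun v => ⟨v.1, ?_⟩) ⟨?_, ?_⟩
      · obtain ⟨v, x, -, rfl⟩ := v
        rw [H886.O8R.Q_om, hs]
      · have key : ∀ v : {v : I8 → F // ∃ x ∈ (⊤ : Subgroup (Omega F (quadFormPlus 4 F))), om F x w = v}, v.1 ≠ 0 := by
          rintro ⟨v, x, hx, rfl⟩ h12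
          exact hw0 ((om F x).map_eq_zero_iff.1 h12)
        rintro (_ | u) (_ | v) huv
        · rfl
        · exact absurd (congrArg (fun z : {v : Fin 4 ⊕ Fin 4 → F // quadFormPlus 4 F v = 0} => z.1) huv).symm (key v)
        · exact absurd (congrArg (fun z : {v : Fin 4 ⊕ Fin 4 → F // quadFormPlus 4 F v = 0} => z.1) huv) (key u)
        · have h12 : u.1 = v.1 := congrArg (fun z : {v : Fin 4 ⊕ Fin 4 → F // quadFormPlus 4 F v = 0} => z.1) huv
          rw [Subtype.ext h12]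
      · rintro ⟨v, hv⟩
        by_cases hv0 : v = 0
        · exact ⟨none, Subtype.ext hv0.symm⟩
        · obtain ⟨g, hg, h12⟩ := (H886.O8R.good_QF (F := F)).trans_norm hw0 hv0 (by rw [H886.O8R.coe_QF, hs, hv])
          obtain ⟨x, hx⟩ := H886.O8R.exists_omega hg
          exact ⟨some ⟨v, x, Subgroup.mem_top x, by rw [hx, h12]⟩, rfl⟩
    omega
  have h4 := card_omega5 hF
  rw [← h3, h7] at h4
  have h5 : 27 ∣ Nat.card (Xw w) := by
    have h6 := hd.trans h1
    interval_cases n <;> omega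
  have h6 := (Nat.mul_dvd_mul_left 78624 h5).trans h4
  norm_num at h6

/-- the space of the fixed vectors is invariant -/
theorem not_irr {g : GL I8 F} (hg : g ∈ pre (quadFormPlus 4 F) R) (hgr : g ^ r = 1) (hg1 : g ≠ 1) (h0 : Fx r R ≠ ⊥) :
    ¬ ActsIrreducibly (matrixSet (pre (quadFormPlus 4 F) R)) := by
  intro hirr
  rcases hirr (Fx r R) (by
    rintro _ ⟨x, hx, rfl⟩ _ ⟨v, hv, rfl⟩
    refine (Submodule.mem_iInf _).2 fun y => ?_
    have h1 := (Submodule.mem_iInf _).1 hv ⟨x⁻¹ * y.1 * x, mul_mem (mul_mem (inv_mem hx) y.2.1) hx, by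
      have h2 := conj_pow (i := r) (a := x⁻¹) (b := y.1)
      rw [inv_inv] at h2
      rw [h2, y.2.2, mul_one, inv_mul_cancel]⟩
    rw [H951.mem_fx] at h1 ⊢
    change lin y.1 (lin x v) = lin x v
    have h2 : lin x (lin (x⁻¹ * y.1 * x) v) = lin x v := congrArg (lin x) h1
    rw [← lin_mul_apply, ← mul_assoc, ← mul_assoc, mul_inv_cancel, one_mul, lin_mul_apply] at h2
    exact h2) with h1 | h1
  · exact h0 h1
  · apply lin_ne_one hg1
    refine LinearMap.ext fun v => ?_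
    have h2 : v ∈ Fx r R := by rw [h1]; exact Submodule.mem_top
    exact H951.mem_fx.1 ((Submodule.mem_iInf _).1 h2 ⟨g, hg, hgr⟩)

theorem ar1 {m n : ℕ} (h1 : m + n = 8) (h2 : 4 ∣ n) (h3 : m ≠ 0) (h4 : n ≠ 0) : n = 4 := by omega

theorem ar2 {m : ℕ} (h1 : 2 * m ≤ 4) : m < 3 := by omega

theorem ar3 {m : ℕ} (h1 : 2 * m ≤ 2) : m ≤ 1 := by omega

theorem ar4 {m n : ℕ} (h1 : Even m) (h2 : 3 ∣ m) (h3 : m ≤ n) (h4 : 2 * n ≤ 8) : m = 0 := by
  obtain ⟨c, hc⟩ := h1
  omega

/-- `q = 5`: the reducible groups -/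
theorem kill_red (hF : Nat.card F = 5) (h13 : PP (Nat.card F) 4 13) (h31 : PP (Nat.card F) 3 31) (h0 : Fx 13 R ≠ ⊥)
    (d5 : 5 ^ 11 ∣ Nat.card R) (d3 : 81 ∣ Nat.card R) (d13 : 13 ∣ Nat.card R) (d31 : 31 ∣ Nat.card R) : False := by
  have hfin : Finite (GL I8 F) := inferInstance
  have hQ : Nondeg (quadPlus 4 F) := nondeg_iff.2 quadPlus_nondegenerate
  have hND : IsNondegenerateQuadraticForm (⇑(quadPlus 4 F)) :=
    Cfsg.Agent.H884.OddForm.isNondegenerate_of_nondeg (quadPlus 4 F) hQ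
  have h8 : finrank F (I8 → F) = 8 := finrank8
  obtain ⟨g, hg, ig, hgr, hg1⟩ := exists_elt (pre_le' (R := R)) h13 (by norm_num) (d13.trans card_dvd_pre)
  obtain ⟨z, hz, iz, hzr, hz1⟩ := exists_elt (pre_le' (R := R)) h31 (by norm_num) (d31.trans card_dvd_pre)
  have hgf : finrank F (fx (lin g)) ≠ 0 := fun h1 => h0 (by
    rw [eq_bot_iff, ← Submodule.finrank_eq_zero.1 h1]
    exact iInf_le (fun g : {g : GL I8 F // g ∈ pre (quadFormPlus 4 F) R ∧ g ^ 13 = 1} => fx (lin g.1)) ⟨g, hg, hgr⟩)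
  have hga := ig.finrank_add
  have hgd := ig.dvd_cm h13
  have hgc : finrank F (cm (lin g)) ≠ 0 := fun h1 => cm_ne_bot (lin_ne_one hg1) (Submodule.finrank_eq_zero.1 h1)
  rw [h8] at hga
  have hg4 : finrank F (cm (lin g)) = 4 := ar1 hga hgd hgf hgc
  have hza := iz.finrank_add
  have hz6 := (iz.odd_case hQ (lin_ne_one hz1) h31 (by decide) (by rw [h8]; norm_num)).1
  rw [h8, hz6] at hza
  have hz2 : finrank F (fx (lin z)) = 2 := Nat.add_right_cancel hza
  rw [hg4] at hga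
  have hg4' : finrank F (fx (lin g)) = 4 := Nat.add_right_cancel hga
  have half : ∀ {W U : Submodule F (I8 → F)}, TS (quadPlus 4 F) W → W ≤ U → Nondeg (res (quadPlus 4 F) U) →
      2 * finrank F W ≤ finrank F U := by
    intro W U hW hWU hU
    have h1 := H955.two_mul_finrank_le hU (U := W.comap U.subtype) (fun u hu => hW _ hu)
    rwa [(Submodule.comapSubtypeEquivOfLe hWU).finrank_eq] at h1
  rcases Cfsg.Agent.H925.reducible_cases hND pre_le' (not_irr hg hgr hg1 h0) with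
    ⟨W, hW0, hWs, hHW⟩ | ⟨W, hW0, hWn, hdW, hHW⟩ | ⟨-, v, hv, hHW⟩
  · have h1 : W ≤ fx (lin g) := ig.ts_le hQ (lin_ne_one hg1) h13 hg4 (inv_of_mem (hHW hg)) hWs
    have h2 := half hWs h1 (nondeg_fx hQ ig.iso ig.ne0 ig.pow)
    rw [hg4'] at h2
    have h3 : W ≤ fx (lin z) := iz.le_fx h31 (inv_of_mem (hHW hz)) (ar2 h2)
    have h4 := half hWs h3 (nondeg_fx hQ iz.iso iz.ne0 iz.pow)
    rw [hz2] at h4
    obtain ⟨w, hw, hw0⟩ := Submodule.exists_mem_ne_zero_of_ne_bot hW0
    exact kill_sing hF (le_SW_of_stab hHW) (ar3 h4) hw hw0 (by rw [← coe_quadPlus]; exact hWs w hw) d3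
  · have hWn' : Nondeg (res (quadPlus 4 F) W) := H958.nondegOn_iff.1 hWn
    have hWi : Inv (lin z) W := inv_of_mem (hHW hz)
    have h1 := iz.even_inf hWi hWn'
    have h2 := iz.dvd h31 hWi
    have h3 : finrank F ↥(W ⊓ cm (lin z)) ≤ finrank F W := Submodule.finrank_mono inf_le_left
    rw [card_I8] at hdW
    have h4 : finrank F ↥(W ⊓ cm (lin z)) = 0 := ar4 h1 h2 h3 hdW
    have h5 := H951.inf_fx_sup_inf_cm iz.ne0 iz.pow hWi
    rw [Submodule.finrank_eq_zero.1 h4, sup_bot_eq] at h5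
    have h6 : W ≤ fx (lin z) := by
      rw [← h5]
      exact inf_le_right
    have h7 := Submodule.finrank_mono h6
    rw [hz2] at h7
    have h9 : ∃ w ∈ W, quadPlus 4 F w ≠ 0 := by
      by_contra hcon
      push Not at hcon
      exact ts_not_nondeg hcon le_rfl hW0 hWn'
    obtain ⟨w, hw, hw0⟩ := h9
    exact kill_ns hF (le_SW_of_stab hHW) h7 hw (by rw [← coe_quadPlus]; exact hw0) d5
  · refine kill_ns hF (le_SW_of_stab hHW) ?_ (Submodule.mem_span_singleton_self v) (by rw [← coe_quadPlus]; exact hv) d5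
    exact (finrank_span_singleton (K := F) (v := v) (by
      rintro rfl
      exact hv (QuadraticMap.map_zero _))).le.trans (by norm_num)

/-- `q = 5`: no proper subgroup has index dividing `87360` -/
theorem kill5 (hKn : Kn) (hS : BoxSpin) (hC : BoxCross) (hO : BoxOwn) (h34 : BoxG34) (hF : Nat.card F = p ^ a)
    (h : Nb p a r b s k t) (h5 : p ^ a = 5) (hR : R ≠ ⊤) (hd : Nat.card (T8 F) ∣ 87360 * Nat.card R) : False := by
  have hp := h.rb.hp
  have ha := h.rb.ha
  have hr := r5 h h5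
  have ht := t5 h h5
  have hF5 : Nat.card F = 5 := hF.trans h5
  obtain ⟨hp5, ha1⟩ := (Nat.Prime.pow_eq_iff (by norm_num : Nat.Prime 5)).1 h5
  subst hr ht hp5 ha1
  have hb : b = 1 := by
    have h1 := h.rb.dvd
    have h2 : 1 ≤ b := by rcases h.rb.cases with h3 | h3 | h3 <;> omega
    by_contra h3
    have h4 := (pow_dvd_pow 13 (show 2 ≤ b by omega)).trans h1
    norm_num at h4
  subst hb
  have hc := H832.O8R.card_t8 hF
  norm_num at hc
  have hT : Nat.card (T8 F) = 87360 * (5 ^ 11 * 81 * 13 * 31 * 64) := by omega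
  rw [hT] at hd
  have h1 := Nat.dvd_of_mul_dvd_mul_left (by norm_num) hd
  have d5 : 5 ^ 11 ∣ Nat.card R := Dvd.dvd.trans (by norm_num) h1
  have d3 : 81 ∣ Nat.card R := Dvd.dvd.trans (by norm_num) h1
  have d13 : 13 ∣ Nat.card R := Dvd.dvd.trans (by norm_num) h1
  have d31 : 31 ∣ Nat.card R := Dvd.dvd.trans (by norm_num) h1
  have nsq : ∀ n : ℕ, n ^ 2 ≠ 5 := by
    intro n hn
    have h2 : n < 3 := by
      by_contra h3
      have := Nat.pow_le_pow_left (show 3 ≤ n by omega) 2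
      omega
    interval_cases n <;> omega
  rcases h34 F 5 1 13 1 s k 31 hF h R (by rw [pow_one]; exact d13) d31 with ⟨α, h2⟩ | ⟨-, F₁, B, ζ, -, h2, -⟩ | ⟨P, hP, -⟩
  · have hc' : Nat.card (im α R) = Nat.card R := card_map α
    exact kill_red hF5 (by rw [hF]; exact pp4 h) (by rw [hF]; exact h.t) h2 (by rw [hc']; exact d5) (by rw [hc']; exact d3)
      (by rw [hc']; exact d13) (by rw [hc']; exact d31)
  · exact nsq _ (h2.symm.trans hF5)
  · obtain ⟨S, hSn, hSs, hna, hCe, ⟨e⟩⟩ := H264.FKS.exists_res_plus (n := 4) le_rfl hP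
    have rs : Rs R S P := ⟨hR, hSn, hSs, hna, hCe, hP, ⟨e⟩⟩
    by_cases hL : IsLieTypeChar 5 (H915.LD.Soc P)
    · have hN : Num (5 ^ 1) (Nat.card R) := by
        refine ⟨Dvd.dvd.trans (by norm_num) d5, Dvd.dvd.trans (by norm_num) (Nat.mul_dvd_mul_left 2 d13), ?_⟩
        have h2 := Nat.le_of_dvd Nat.card_pos d5
        norm_num at h2 ⊢
        omega
      rcases hO F 5 1 hp (by norm_num) hF R S P rs hL hN with h6 | ⟨K, _, _, _, _, h6, -⟩
      · obtain ⟨α, w, hw, hle⟩ := hS F 5 1 hp (by norm_num) hF R S hSn h6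
        refine kill_ns hF5 hle ?_ (Submodule.mem_span_singleton_self w) hw (by rw [card_map α]; exact d5)
        exact (finrank_span_singleton (K := F) (v := w) (by
          rintro rfl
          apply hw
          rw [← coe_quadPlus, QuadraticMap.map_zero])).le.trans (by norm_num)
      · exact nsq _ h6
    · have := hP.simple
      exact (hC F 5 1 13 1 s k 31 hF h R S P rs hL (hKn (H915.LD.Soc P))).1 (Dvd.dvd.trans (by norm_num) d5)

end G6

open G6 in
/-- **box (9)** -/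
theorem boxG6 (hKn : Kn) (hS : BoxSpin) (hC : BoxCross) (hO : BoxOwn) (h34 : BoxG34) : BoxG6 := by
  intro F _ _ p a r b s k t hF h X Y hX hY hXY hr hs
  have hp := h.rb.hp
  have ha := h.rb.ha
  have h4 : PP (Nat.card F) 4 r := by rw [hF]; exact pp4 h
  have hid : im (1 : MulAut (T8 F)) X = X := Subgroup.map_id X
  rcases g6w hF h hs (Or.inl hr) with h1 | h1 | h1 | ⟨P, hP, -⟩
  · exact ⟨1, by rw [hid]; exact fx_ne h4 (Or.inl h1)⟩
  · exact ⟨1, by rw [hid]; exact fx_ne h4 (Or.inr h1)⟩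
  · obtain ⟨α, h2⟩ := H708.Rg.tri_J hF h1
    exact ⟨α, fx_ne h4 (Or.inr h2)⟩
  · obtain ⟨S, hSn, hSs, hna, hCe, ⟨e⟩⟩ := H264.FKS.exists_res_plus (n := 4) le_rfl hP
    have hsR : s ∣ Nat.card X := (dvd_pow_self s (by have := h.rw.hk; omega)).trans hs
    have key : Sp6 p a S → SR r X := fun h6 => by
      obtain ⟨α, h2⟩ := hS F p a hp h.rw.four hF X S hSn h6
      exact ⟨α, fx_ne h4 (Or.inl h2)⟩
    by_cases hL : IsLieTypeChar p (H915.LD.Soc P)
    · rcases H911.O8S.own hF h.rw hX S hSs hna hCe hP e hL hsR with h6 | hN | h6 | h6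
      · exact absurd hr (H886.O8R.psl2_r4 hp ha h.rb.prim (H886.O8R.dvd_psl2 S hp ha hCe h6))
      · exact absurd hr (H886.O8R.psu3_r4 hp ha h.rb.prim
          (H886.O8R.dvd_psu3 S hp ha (by have := h.rw.four; omega) hCe hN.real))
      · exact key (Or.inl h6)
      · exact key (Or.inr h6)
    · have := hP.simple
      obtain ⟨h5, h6⟩ := (hC F p a r b s k t hF h X S P ⟨hX, hSn, hSs, hna, hCe, hP, ⟨e⟩⟩ hL
        (hKn (H915.LD.Soc P))).2.1 hs hr
      exact (kill5 hKn hS hC hO h34 hF h h5 hY (hXY.card_dvd.trans (Nat.mul_dvd_mul_right h6 _))).elim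

end Cfsg.Agent.SM.O8
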