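import Cfsg.Agent.SM.Defs
import Cfsg.Agent.SM.Ex78.Base
import Cfsg.Agent.H823.O8R.Over
import Cfsg.Agent.H683.O8R.Geo34
import Cfsg.Agent.H198.TriInn

/-!
# SM (S3570), socle `S = PΩ⁺₈(q)`: definitions, table and boxes (helper71, plan in `notes/SM/o8.md`)

Everything happens in `T8 F`.  `im α R` is the image of `R` under an automorphism (this is how the three modules are reached),
`St W` the stabiliser of a subspace, `pt v` the stabiliser of the point `⟨v⟩`, `Nt β` says that `β` is induced by a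
semisimilarity, `Fx r R` is the space of the vectors fixed by all elements of order `r` of the preimage of `R`.
-/

set_option autoImplicit false
set_option linter.unusedSectionVars false

namespace Cfsg.Agent.SM.O8

open Module QuadraticMap Cfsg Cfsg.Geo
open Cfsg.Agent.H951 (fx cm Inv)
open Cfsg.Agent.H884.El (pre lin PP)
open Cfsg.Agent.H708.O8 (I8 T8 RB)
open Cfsg.Agent.H823.O8S (SW tp RW Fld NJ)
open Cfsg.Agent.H823.O8R (FixV FixP FixJ Sp6)
open Cfsg.Agent.H683.O8R (Sub2)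
open Cfsg.Agent.H198.Carriers (plusQ good_plusQ)
open Cfsg.Agent.ClassicalGeometry.OrthSemi (Gam IsSS)
open Cfsg.Agent.SM.Ex78 (Pd)
open scoped MatrixGroups Matrix

/-! ### the family and its table -/

/-- `PΩ⁺₈(q)` -/
def f8q (q : ℕ) : Fam := fun S _ =>
  ∃ (F : Type) (_ : Field F) (_ : Fintype F), Fintype.card F = q ∧ Nonempty (S ≃* POmega F (quadFormPlus 4 F))

/-- `PΩ⁺₈(q)`, any `q` -/
def f8 : Fam := fun S _ => ∃ (F : Type) (_ : Field F) (_ : Fintype F), Nonempty (S ≃* POmega F (quadFormPlus 4 F))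

/-- `t = |Ω₇(q)|` -/
def O7 (q t : ℕ) : Prop := t * Nat.gcd 2 (q - 1) = q ^ 9 * ((q ^ 2 - 1) * (q ^ 4 - 1) * (q ^ 6 - 1))

/-- the rows for `q = 2`: `T = Sp₆(2)`, `T = A₉` -/
def R2 : Tab := fun t n k => (t = 1451520 ∧ k = 2) ∨ (t = 1451520 ∧ n = 960 ∧ k = 3) ∨ (t = 181440 ∧ n = 120 ∧ k = 3)

/-- the rows for `q = 3`: `T = Ω₇(3)`, `T = Ω⁺₈(2)`, `T = L₄(3)` -/
def R3 : Tab := fun t n k => (t = 4585351680 ∧ k = 2) ∨ (t = 4585351680 ∧ n = 28431 ∧ k = 4) ∨
  (t = 174182400 ∧ n = 1120 ∧ k = 3) ∨ (t = 6065280 ∧ n = 1080 ∧ k = 3)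

/-- **the table** -/
def R8 : Tab := fun t n k => (k = 2 ∧ ∃ p a : ℕ, p.Prime ∧ 1 ≤ a ∧ O7 (p ^ a) t) ∨
  (t = 1451520 ∧ n = 960 ∧ k = 3) ∨ (t = 181440 ∧ n = 120 ∧ k = 3) ∨ (t = 4585351680 ∧ n = 28431 ∧ k = 4) ∨
  (t = 174182400 ∧ n = 1120 ∧ k = 3) ∨ (t = 6065280 ∧ n = 1080 ∧ k = 3)

/-- the classification, as a hypothesis -/
def Kn : Prop := ∀ (X : Type) [Group X] [Finite X] [IsSimpleGroup X], IsKnownSimple' X

/-! ### the objects -/

section defs

variable {F : Type} [Field F] [Fintype F]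

/-- the stabiliser of a subspace -/
def St (W : Submodule F (I8 → F)) : Subgroup (T8 F) := tp (SW W)

/-- the stabiliser of a point -/
abbrev pt (v : I8 → F) : Subgroup (T8 F) := St (Submodule.span F {v})

/-- the image under an automorphism -/
abbrev im (α : MulAut (T8 F)) (R : Subgroup (T8 F)) : Subgroup (T8 F) := R.map α.toMonoidHom

/-- the automorphism induced by a semisimilarity -/
noncomputable def ph (F : Type) [Field F] [Fintype F] : Gam (plusQ 4 F) →* MulAut (T8 F) :=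
  H198.OrthFrame.Phi (good_plusQ (F := F) (m := 4) (by norm_num))

/-- induced by a semisimilarity -/
def Nt (β : MulAut (T8 F)) : Prop := β ∈ (ph F).range

/-- the vectors fixed by all elements of order dividing `r` -/
def Fx (r : ℕ) (R : Subgroup (T8 F)) : Submodule F (I8 → F) :=
  ⨅ g : {g : GL I8 F // g ∈ pre (quadFormPlus 4 F) R ∧ g ^ r = 1}, fx (lin g.1)

/-- in one of the three modules the elements of order `r` have a common fixed vector -/
def SR (r : ℕ) (R : Subgroup (T8 F)) : Prop := ∃ α : MulAut (T8 F), Fx r (im α R) ≠ ⊥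

/-- anisotropic -/
def An (U : Submodule F (I8 → F)) : Prop := ∀ w ∈ U, quadFormPlus 4 F w = 0 → w = 0

/-- transitive on the points of the type of `v` -/
def Tr (H : Subgroup (GL I8 F)) (v : I8 → F) : Prop :=
  ∀ u, quadFormPlus 4 F u = quadFormPlus 4 F v → ∃ g ∈ H, lin g v = u ∨ lin g v = -u

/-- transitive on the anisotropic planes -/
def TrP (H : Subgroup (GL I8 F)) : Prop :=
  ∀ U U' : Submodule F (I8 → F), finrank F U = 2 → An U → finrank F U' = 2 → An U' → ∃ g ∈ H, U.map (lin g) = U'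

/-- the socle `S` of a group `R` in the residual class, `P` the core -/
structure Rs (R : Subgroup (T8 F)) (S : Subgroup R) (P : Subgroup (GL I8 F)) : Prop where
  ne : R ≠ ⊤
  nrm : S.Normal
  simple : IsSimpleGroup S
  nab : ¬ IsMulCommutative S
  cen : Subgroup.centralizer (S : Set R) = ⊥
  core : IsResidualCore (pre (quadFormPlus 4 F) R) P
  iso : Nonempty (S ≃* H915.LD.Soc P)

/-- in one of the modules `σ` is induced by a semilinear involution -/
def Sf (σ : MulAut (T8 F)) : Prop :=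
  ∃ (γ : MulAut (T8 F)) (M : Gam (plusQ 4 F)) (τ : F ≃+* F) (c : F), τ ≠ RingEquiv.refl F ∧ IsSS (plusQ 4 F) τ c M.1 ∧
    M * M = 1 ∧ γ * σ * γ⁻¹ = ph F M

/-- `R` normalises a subgroup `N` of type `Ω⁻₈(q₀)`, `q₀² = q`, centralised by `σ` -/
structure Mn (R N : Subgroup (T8 F)) (σ : MulAut (T8 F)) : Prop where
  le : N ≤ R
  conj : ∀ g ∈ R, ∀ x ∈ N, g * x * g⁻¹ ∈ N
  simple : IsSimpleGroup N
  nab : ¬ IsMulCommutative N
  cor : ∀ β : MulAut (T8 F), Nt β → (∀ x ∈ N, β x = x) → β = 1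
  sf : Sf σ
  ne : σ ≠ 1
  sq : σ * σ = 1
  fix : ∀ x ∈ N, σ x = x
  card : Nat.card R ≤ Nat.card F ^ 18

end defs

/-- the numbers, `q = p ^ a ≥ 4`: `r = r₄`, `s = r₆`, `t = r₃` -/
structure Nb (p a r b s k t : ℕ) : Prop where
  rb : RB p a r b
  rw : RW p a s k
  sc : (13 ≤ s ∧ k = 1) ∨ (s = 7 ∧ k = 2) ∨ (p = 5 ∧ a = 1 ∧ s = 7 ∧ k = 1)
  t : PP (p ^ a) 3 t

/-- the order of a group which is transitive, but not regular, on an orbit of nonsingular points or anisotropic planes -/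
def Num (q n : ℕ) : Prop := q ^ 3 ∣ n ∧ q ^ 2 + 1 ∣ 2 * n ∧ q ^ 3 * (q ^ 4 - 1) < Nat.gcd 2 (q - 1) * n

/-- `PΩ⁻₈(q₀)`, `q₀² = q` -/
def Om8 (q : ℕ) (S : Type) [Group S] : Prop :=
  ∃ (K : Type) (_ : Field K) (_ : Fintype K) (c d : K), Fintype.card K ^ 2 = q ∧
    (∀ z₁ z₂ : K, z₁ ^ 2 + c * z₁ * z₂ + d * z₂ ^ 2 = 0 → z₁ = 0 ∧ z₂ = 0) ∧
    Nonempty (S ≃* POmega K (quadFormMinus 3 K c d))

/-! ### the boxes -/

/-- (1) a normal subgroup `PSp₆(q)` or `Ω₇(q)` fixes a nonsingular point of one of the modules -/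
def BoxSpin : Prop := ∀ (F : Type) [Field F] [Fintype F] (p a : ℕ), p.Prime → 4 ≤ p ^ a → Nat.card F = p ^ a →
  ∀ (R : Subgroup (T8 F)) (S : Subgroup R), S.Normal → Sp6 p a S → ∃ α : MulAut (T8 F), FixV (im α R)

/-- (2) residual class, own characteristic -/
def BoxOwn : Prop := ∀ (F : Type) [Field F] [Fintype F] (p a : ℕ), p.Prime → 4 ≤ p ^ a → Nat.card F = p ^ a →
  ∀ (R : Subgroup (T8 F)) (S : Subgroup R) (P : Subgroup (GL I8 F)), Rs R S P → IsLieTypeChar p (H915.LD.Soc P) →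
    Num (p ^ a) (Nat.card R) → Sp6 p a S ∨ Om8 (p ^ a) S

/-- (3) residual class, cross characteristic -/
def BoxCross : Prop := ∀ (F : Type) [Field F] [Fintype F] (p a r b s k t : ℕ), Nat.card F = p ^ a → Nb p a r b s k t →
  ∀ (R : Subgroup (T8 F)) (S : Subgroup R) (P : Subgroup (GL I8 F)), Rs R S P → ¬ IsLieTypeChar p (H915.LD.Soc P) →
    IsKnownSimple' (H915.LD.Soc P) →
    ¬ p ^ (6 * a + 1) ∣ Nat.card R ∧
    (s ^ k ∣ Nat.card R → r ∣ Nat.card R → p ^ a = 5 ∧ Nat.card R ∣ 87360) ∧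
    ¬ ((p ^ a) ^ 3 ∣ Nat.card R ∧ (p ^ a) ^ 2 + 1 ∣ 2 * Nat.card R)

/-- (4) triality: a totally singular 4-space is a point of another module (all `q`) -/
def BoxTW : Prop := ∀ (F : Type) [Field F] [Fintype F] (W : Submodule F (I8 → F)), finrank F W = 4 →
  (∀ w ∈ W, quadFormPlus 4 F w = 0) →
    ∃ (α : MulAut (T8 F)) (u : I8 → F), u ≠ 0 ∧ quadFormPlus 4 F u = 0 ∧ im α (St W) = pt u

/-- (5) quadratic fields and subfields are not transitive -/
def BoxNT : Prop := ∀ (F : Type) [Field F] [Fintype F] (H : Subgroup (GL I8 F)), H ≤ isometryGroup F (quadFormPlus 4 F) →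
  (ActsIrreducibly (matrixSet H) → ∀ K : Subalgebra F (Matrix I8 I8 F), IsFieldSubalgebra 2 K →
    IsAdjointClosedFor (polar (quadFormPlus 4 F)) K → H ≤ subalgebraNormalizer K →
      (∃ (J : Module.End F (I8 → F)) (c d : F), Fld J c d ∧ H ≤ NJ J c) ∨
        (3 ≤ Nat.card F → ∀ v, quadFormPlus 4 F v ≠ 0 → ¬ Tr H v)) ∧
  (Sub2 H → (∀ v, quadFormPlus 4 F v ≠ 0 → ¬ Tr H v) ∧ ¬ TrP H)

/-- (6) the geometric classes for a group which is transitive on an orbit of nonsingular points -/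
def BoxGB : Prop := ∀ (F : Type) [Field F] [Fintype F] (p a r b s k t : ℕ), Nat.card F = p ^ a → Nb p a r b s k t →
  ∀ (v : I8 → F) (Y : Subgroup (T8 F)), quadFormPlus 4 F v ≠ 0 → Pd (pt v) Y →
    SR r Y ∨ InOrthogonalResidualClass (pre (quadFormPlus 4 F) Y)

/-- (7a) the geometric classes for a group of order divisible by `r ^ b` and `t` -/
def BoxG34 : Prop := ∀ (F : Type) [Field F] [Fintype F] (p a r b s k t : ℕ), Nat.card F = p ^ a → Nb p a r b s k t →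
  ∀ R : Subgroup (T8 F), r ^ b ∣ Nat.card R → t ∣ Nat.card R →
    SR r R ∨ Sub2 (pre (quadFormPlus 4 F) R) ∨ InOrthogonalResidualClass (pre (quadFormPlus 4 F) R)

/-- (7) the geometric classes for a group which is transitive on the anisotropic planes -/
def BoxGP : Prop := ∀ (F : Type) [Field F] [Fintype F] (p a r b s k t : ℕ), Nat.card F = p ^ a → Nb p a r b s k t →
  ∀ (U : Submodule F (I8 → F)) (X : Subgroup (T8 F)), finrank F U = 2 → An U → Pd X (St U) →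
    (SR r X ∨ InOrthogonalResidualClass (pre (quadFormPlus 4 F) X)) ∧ Num (p ^ a) (Nat.card X)

/-- (8) `r` divides the order of both factors -/
def BoxA : Prop := ∀ (F : Type) [Field F] [Fintype F] (p a r b s k t : ℕ), Nat.card F = p ^ a → Nb p a r b s k t →
  ∀ X Y : Subgroup (T8 F), X ≠ ⊤ → Y ≠ ⊤ → Pd X Y → r ∣ Nat.card X

/-- (9) the factor which contains the Sylow `s`-subgroup -/
def BoxG6 : Prop := ∀ (F : Type) [Field F] [Fintype F] (p a r b s k t : ℕ), Nat.card F = p ^ a → Nb p a r b s k t →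
  ∀ X Y : Subgroup (T8 F), X ≠ ⊤ → Y ≠ ⊤ → Pd X Y → r ∣ Nat.card X → s ^ k ∣ Nat.card X → SR r X

/-- (10) `Ω⁻₈(q₀)` is a subfield subgroup in one of the modules -/
def BoxMin : Prop := ∀ (F : Type) [Field F] [Fintype F] (p a r b s k t : ℕ), Nat.card F = p ^ a → Nb p a r b s k t →
  ∀ (R : Subgroup (T8 F)) (S : Subgroup R) (P : Subgroup (GL I8 F)), Rs R S P → Om8 (p ^ a) S →
    SR r R ∨ ∃ σ, Mn R (S.map R.subtype) σ

/-- (11) `Ω₇(q)` is not primitive on planes and 3-spaces of the spin module -/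
def BoxKU : Prop := ∀ (F : Type) [Field F] [Fintype F], 4 ≤ Nat.card F →
  ∀ (v : I8 → F) (α : MulAut (T8 F)) (U : Submodule F (I8 → F)), quadFormPlus 4 F v ≠ 0 → ¬ Nt α → 2 ≤ finrank F U →
    finrank F U ≤ 3 → (∃ y ∈ U, quadFormPlus 4 F y ≠ 0) →
    ∃ D : Submodule F (I8 → F), pt v ⊓ (St U).comap α.toMonoidHom ≤ St D ∧ ¬ pt v ≤ St D ∧
      ¬ pt v ⊓ St D ≤ (St U).comap α.toMonoidHom ∧
      ∀ M M' : Gam (plusQ 4 F), ph F M' = α * ph F M * α⁻¹ → M.1 v ∈ Submodule.span F {v} → (∀ u ∈ U, M'.1 u ∈ U) →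
        ∀ d ∈ D, M.1 d ∈ D

/-- (12) `Ω⁻₈(q₀)` is not primitive on the nonsingular points and the anisotropic planes of the spin module -/
def BoxM1 : Prop := ∀ (F : Type) [Field F] [Fintype F] (σ : MulAut (T8 F)) (U : Submodule F (I8 → F))
  (X : Subgroup (T8 F)), Sf σ → ¬ Nt σ → (finrank F U = 1 ∨ finrank F U = 2) → An U → (∀ x ∈ X, σ x = x) → Pd X (St U) →
    ∃ (α : MulAut (T8 F)) (D : Submodule F (I8 → F)), D ≠ ⊥ ∧ finrank F D ≤ 4 ∧
      X ⊓ St U ≤ (St D).comap α.toMonoidHom ∧ ¬ X ⊓ (St D).comap α.toMonoidHom ≤ St U ∧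
      ∀ M : Gam (plusQ 4 F), ph F M * σ = σ * ph F M → (∀ u ∈ U, M.1 u ∈ U) →
        ∀ x ∈ (St D).comap α.toMonoidHom, ph F M x ∈ (St D).comap α.toMonoidHom

/-- (13) the stabiliser of a nonsingular point (all `q`) -/
def BoxExt : Prop := ∀ (F : Type) [Field F] [Fintype F] (v : I8 → F), quadFormPlus 4 F v ≠ 0 →
  IsSimpleGroup (pt v) ∧ O7 (Nat.card F) (Nat.card (pt v)) ∧
    ∀ γ : MulAut (pt v), ∃ β : MulAut (T8 F), ∀ x : pt v, β x = γ x

/-- (14) `q = 2` -/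
def Box2 : Prop := Bnd (f8q 2) R2

/-- (15) `q = 3` -/
def Box3 : Prop := Bnd (f8q 3) R3

end Cfsg.Agent.SM.O8
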