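import Cfsg.Agent.SM.O8.TW
import Cfsg.Agent.H708.Rg.RedTri

/-!
# SM, `S = PΩ⁺₈(q)`: stabilisers, semisimilarities, the cosets of triality (helper71)
-/

set_option autoImplicit false
set_option linter.unusedSectionVars false

namespace Cfsg.Agent.SM.O8

open Module QuadraticMap Cfsg Cfsg.Geo Cfsg.Agent.LieClassical.OrthCore Cfsg.Agent.LieClassical.OrthTrans
open Cfsg.Agent.H951 (fx cm Inv mem_fx)
open Cfsg.Agent.H884.El (pre lin PP mem_pre pre_le lin_one)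
open Cfsg.Agent.H708.O8 (I8 T8 RB)
open Cfsg.Agent.H823.O8S (SW tp mk8 gl8 mk8_eq mk8_eq_one exists_lift le_tp mem_SW lin_mul_apply lin_inv_apply lin_apply_inv)
open Cfsg.Agent.H198.Carriers (plusQ good_plusQ neutral_plusQ plusQ_eq)
open Cfsg.Agent.H198.OrthFrame (Phi Phi_mk Phi_eq_one_iff)
open Cfsg.Agent.H198.Classes (gamO kappa_refl)
open Cfsg.Agent.H198.TriInn (TriData exists_triality)
open Cfsg.Agent.ClassicalGeometry.OrthSemi
open Cfsg.Agent.ClassicalGeometry.OrthAut1 (P)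
open Cfsg.Agent.LieClassical.QuadForms (plusForm)
open Cfsg.Agent.AutOrth.Main (oe pe oe_apply pe_mk)
open scoped MatrixGroups Matrix

variable {F : Type} [Field F] [Fintype F]

/-- `Ω⁺₈(q)` -/
abbrev Om (F : Type) [Field F] [Fintype F] : Type := Omega F (quadFormPlus 4 F)

/-- the linear map of an element of `Ω` -/
abbrev ln (y : Om F) : Module.End F (I8 → F) := lin (gl8 F y)

theorem good8 : Good (plusQ 4 F) := good_plusQ (by norm_num)

theorem ln_mul (x y : Om F) (v : I8 → F) : ln (x * y) v = ln x (ln y v) := by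
  unfold ln
  rw [map_mul, lin_mul_apply]

theorem ln_one (v : I8 → F) : ln (1 : Om F) v = v := by
  unfold ln
  rw [map_one, lin_one]
  rfl

theorem ln_inv_apply (x : Om F) (v : I8 → F) : ln x⁻¹ (ln x v) = v := by rw [← ln_mul, inv_mul_cancel, ln_one]

theorem ln_apply_inv (x : Om F) (v : I8 → F) : ln x (ln x⁻¹ v) = v := by rw [← ln_mul, mul_inv_cancel, ln_one]

theorem ln_injective (x : Om F) : Function.Injective (ln x) := Function.LeftInverse.injective (ln_inv_apply x)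

theorem Q_ln (x : Om F) (v : I8 → F) : quadFormPlus 4 F (ln x v) = quadFormPlus 4 F v :=
  H823.O8S.iso_of_omega (g := gl8 F x) ⟨x, x.2, rfl⟩ v

theorem gl8_injective : Function.Injective (gl8 F) :=
  (isometryGroup F (quadFormPlus 4 F)).subtype_injective.comp (Omega F (quadFormPlus 4 F)).subtype_injective

theorem om_ext {x y : Om F} (h : ∀ v, ln x v = ln y v) : x = y :=
  gl8_injective (Units.ext (Matrix.toLin'.injective (LinearMap.ext h)))

theorem mk8_surjective : Function.Surjective (mk8 F) := QuotientGroup.mk'_surjective _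

theorem gl_mem_pre {R : Subgroup (T8 F)} {y : Om F} : gl8 F y ∈ pre (quadFormPlus 4 F) R ↔ mk8 F y ∈ R := mem_pre

theorem mem_SW_of {W : Submodule F (I8 → F)} {g : GL I8 F} (h : ∀ w ∈ W, lin g w ∈ W) : g ∈ SW W := by
  refine Submodule.eq_of_le_of_finrank_eq (Submodule.map_le_iff_le_comap.2 h) ?_
  exact (Submodule.equivMapOfInjective _ (Function.LeftInverse.injective (lin_inv_apply g)) W).finrank_eq.symm

theorem mem_of_SW {W : Submodule F (I8 → F)} {g : GL I8 F} (h : g ∈ SW W) {w : I8 → F} (hw : w ∈ W) : lin g w ∈ W :=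
  (mem_SW.1 h).le ⟨w, hw, rfl⟩

theorem mem_St {W : Submodule F (I8 → F)} {y : Om F} : mk8 F y ∈ St W ↔ ∀ w ∈ W, ln y w ∈ W := by
  constructor
  · rintro ⟨x, hx, e⟩ w hw
    obtain ⟨c, hc⟩ := mk8_eq (y := y) (y' := x) e.symm
    unfold ln
    rw [hc]
    exact W.smul_mem _ (mem_of_SW hx hw)
  · exact fun h => ⟨y, mem_SW_of h, rfl⟩

theorem mem_pt {v : I8 → F} {y : Om F} : mk8 F y ∈ pt v ↔ ∃ c : F, ln y v = c • v := by
  rw [mem_St]
  constructor
  · intro h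
    obtain ⟨c, hc⟩ := Submodule.mem_span_singleton.1 (h v (Submodule.mem_span_singleton_self v))
    exact ⟨c, hc.symm⟩
  · rintro ⟨c, hc⟩ w hw
    obtain ⟨a, rfl⟩ := Submodule.mem_span_singleton.1 hw
    rw [map_smul, hc]
    exact Submodule.smul_mem _ _ (Submodule.smul_mem _ _ (Submodule.mem_span_singleton_self v))

theorem Q_smul (c : F) (v : I8 → F) : quadFormPlus 4 F (c • v) = c * c * quadFormPlus 4 F v :=
  (plusQ 4 F).map_smul c v

theorem mem_pt' {v : I8 → F} (hv : quadFormPlus 4 F v ≠ 0) {y : Om F} : mk8 F y ∈ pt v ↔ ln y v = v ∨ ln y v = -v := by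
  rw [mem_pt]
  constructor
  · rintro ⟨c, hc⟩
    have h1 := Q_ln y v
    rw [hc, Q_smul] at h1
    have h2 : c * c = 1 := mul_right_cancel₀ hv (by rw [h1, one_mul])
    rcases mul_self_eq_one_iff.1 h2 with rfl | rfl
    · left; rw [hc, one_smul]
    · right; rw [hc, neg_one_smul]
  · rintro (h | h)
    · exact ⟨1, by rw [h, one_smul]⟩
    · exact ⟨-1, by rw [h, neg_one_smul]⟩

theorem pt_smul {c : F} (hc : c ≠ 0) (v : I8 → F) : pt (c • v) = pt v := by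
  unfold pt
  rw [Submodule.span_singleton_smul_eq (IsUnit.mk0 c hc)]

/-! ### semisimilarities -/

theorem ph_mk (M : Gam (plusQ 4 F)) {y y' : Om F} (h : ∀ v, ln y' (M.1 v) = M.1 (ln y v)) : ph F M (mk8 F y) = mk8 F y' :=
  Phi_mk good8 M h

theorem exists_ph (M : Gam (plusQ 4 F)) (y : Om F) :
    ∃ y' : Om F, ph F M (mk8 F y) = mk8 F y' ∧ ∀ v, ln y' (M.1 v) = M.1 (ln y v) := by
  obtain ⟨y', h⟩ := H198.OrthFrame.exists_conj good8 M y
  exact ⟨y', ph_mk M h, h⟩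

theorem ph_eq_one {M : Gam (plusQ 4 F)} : ph F M = 1 ↔ ∃ a : F, a ≠ 0 ∧ ∀ v, M.1 v = a • v := Phi_eq_one_iff good8 M

/-- an element of `Ω` as a semisimilarity -/
def og (F : Type) [Field F] [Fintype F] : Om F →* Gam (plusQ 4 F) :=
  (H198.OrthFrame.simGam (plusQ 4 F)).comp (H198.OrthFrame.omSim (plusQ 4 F))

theorem og_apply (y : Om F) (v : I8 → F) : (og F y).1 v = ln y v := rfl

theorem ph_og (y : Om F) : ph F (og F y) = MulAut.conj (mk8 F y) := H198.OrthFrame.S_omSim good8 y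

theorem Nt.one : Nt (1 : MulAut (T8 F)) := one_mem _
theorem Nt.mul {α β : MulAut (T8 F)} (h : Nt α) (k : Nt β) : Nt (α * β) := mul_mem h k
theorem Nt.inv {α : MulAut (T8 F)} (h : Nt α) : Nt α⁻¹ := inv_mem h
theorem nt_ph (M : Gam (plusQ 4 F)) : Nt (ph F M) := ⟨M, rfl⟩

theorem nt_conj (g : T8 F) : Nt (MulAut.conj g) := by
  obtain ⟨y, rfl⟩ := mk8_surjective g
  exact ⟨og F y, ph_og y⟩

theorem gam_add (M : Gam (plusQ 4 F)) (u v : I8 → F) : M.1 (u + v) = M.1 u + M.1 v := add_of_mem M.2 u v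

theorem gam_smul (M : Gam (plusQ 4 F)) (a : F) (v : I8 → F) : ∃ b : F, M.1 (a • v) = b • M.1 v := by
  obtain ⟨σ, c, h⟩ := M.2
  exact ⟨σ a, h.smul a v⟩

theorem gam_zero (M : Gam (plusQ 4 F)) : M.1 0 = 0 := by
  obtain ⟨σ, c, h⟩ := M.2
  exact h.map_zero

theorem gam_eq_zero {M : Gam (plusQ 4 F)} {v : I8 → F} : M.1 v = 0 ↔ v = 0 :=
  ⟨fun h => M.1.injective (by rw [h, gam_zero]), fun h => by rw [h, gam_zero]⟩

theorem Q_gam {M : Gam (plusQ 4 F)} {v : I8 → F} : quadFormPlus 4 F (M.1 v) = 0 ↔ quadFormPlus 4 F v = 0 := by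
  obtain ⟨σ, c, h⟩ := M.2
  have h1 : quadFormPlus 4 F (M.1 v) = c * σ (quadFormPlus 4 F v) := h.form v
  rw [h1, mul_eq_zero, map_eq_zero_iff _ σ.injective]
  exact ⟨fun k => k.resolve_left h.ne, Or.inr⟩

theorem polar_gam {M : Gam (plusQ 4 F)} {u v : I8 → F} :
    polar (quadFormPlus 4 F) (M.1 u) (M.1 v) = 0 ↔ polar (quadFormPlus 4 F) u v = 0 := by
  obtain ⟨σ, c, h⟩ := M.2
  have h1 : polar (quadFormPlus 4 F) (M.1 u) (M.1 v) = c * σ (polar (quadFormPlus 4 F) u v) := h.polar u v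
  rw [h1, mul_eq_zero, map_eq_zero_iff _ σ.injective]
  exact ⟨fun k => k.resolve_left h.ne, Or.inr⟩

theorem gam_inv_apply (M : Gam (plusQ 4 F)) (v : I8 → F) : M⁻¹.1 (M.1 v) = v := inv_apply M.1 v

theorem gam_apply_inv (M : Gam (plusQ 4 F)) (v : I8 → F) : M.1 (M⁻¹.1 v) = v := apply_inv M.1 v

/-- the image of a subspace -/
def gm (M : Gam (plusQ 4 F)) (U : Submodule F (I8 → F)) : Submodule F (I8 → F) where
  carrier := {v | M⁻¹.1 v ∈ U}
  add_mem' := fun {a b} ha hb => by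
    change M⁻¹.1 (a + b) ∈ U
    rw [gam_add]
    exact add_mem ha hb
  zero_mem' := by
    change M⁻¹.1 0 ∈ U
    rw [gam_zero]
    exact zero_mem _
  smul_mem' := fun a v hv => by
    change M⁻¹.1 (a • v) ∈ U
    obtain ⟨b, hb⟩ := gam_smul M⁻¹ a v
    rw [hb]
    exact U.smul_mem _ hv

theorem mem_gm {M : Gam (plusQ 4 F)} {U : Submodule F (I8 → F)} {v : I8 → F} : v ∈ gm M U ↔ M⁻¹.1 v ∈ U := Iff.rfl

theorem apply_mem_gm {M : Gam (plusQ 4 F)} {U : Submodule F (I8 → F)} {v : I8 → F} : M.1 v ∈ gm M U ↔ v ∈ U := by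
  rw [mem_gm, gam_inv_apply]

theorem finrank_le_of_gam (M : Gam (plusQ 4 F)) {U W : Submodule F (I8 → F)} (h : ∀ x ∈ U, M.1 x ∈ W) :
    finrank F U ≤ finrank F W := by
  have h1 : Nat.card U ≤ Nat.card W :=
    Nat.card_le_card_of_injective (fun x : U => (⟨M.1 x, h x x.2⟩ : W)) fun x y e =>
      Subtype.ext (M.1.injective (congrArg Subtype.val e))
  rw [Module.natCard_eq_pow_finrank (K := F) (V := U), Module.natCard_eq_pow_finrank (K := F) (V := W)] at h1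
  exact (Nat.pow_le_pow_iff_right Finite.one_lt_card).1 h1

theorem finrank_gm (M : Gam (plusQ 4 F)) (U : Submodule F (I8 → F)) : finrank F (gm M U) = finrank F U :=
  le_antisymm (finrank_le_of_gam M⁻¹ fun _ hx => hx) (finrank_le_of_gam M fun _ hx => apply_mem_gm.2 hx)

theorem gm_span (M : Gam (plusQ 4 F)) (v : I8 → F) : gm M (Submodule.span F {v}) = Submodule.span F {M.1 v} := by
  refine le_antisymm (fun w hw => ?_) ((Submodule.span_singleton_le_iff_mem _ _).2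
    (apply_mem_gm.2 (Submodule.mem_span_singleton_self v)))
  obtain ⟨a, ha⟩ := Submodule.mem_span_singleton.1 (mem_gm.1 hw)
  obtain ⟨b, hb⟩ := gam_smul M a v
  rw [ha, gam_apply_inv] at hb
  rw [hb]
  exact Submodule.smul_mem _ _ (Submodule.mem_span_singleton_self _)

theorem gm_eq_of {M : Gam (plusQ 4 F)} {U : Submodule F (I8 → F)} (h : ∀ u ∈ U, M.1 u ∈ U) : gm M U = U := by
  refine (Submodule.eq_of_le_of_finrank_eq (fun u hu => ?_) (finrank_gm M U).symm).symm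
  have h1 : gm M⁻¹ U = U :=
    (Submodule.eq_of_le_of_finrank_eq (fun w hw => by rw [mem_gm, inv_inv]; exact h w hw) (finrank_gm M⁻¹ U).symm).symm
  have h2 : M⁻¹.1 u ∈ gm M⁻¹ U := apply_mem_gm.2 hu
  rwa [h1] at h2

theorem ph_mem_St {M : Gam (plusQ 4 F)} {U : Submodule F (I8 → F)} {x : T8 F} : ph F M x ∈ St (gm M U) ↔ x ∈ St U := by
  obtain ⟨y, rfl⟩ := mk8_surjective x
  obtain ⟨y', h1, h2⟩ := exists_ph M y
  rw [h1, mem_St, mem_St]
  constructor
  · intro h w hw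
    have h3 := h _ (apply_mem_gm.2 hw)
    rwa [h2, apply_mem_gm] at h3
  · intro h w hw
    rw [← gam_apply_inv M w, h2, apply_mem_gm]
    exact h _ hw

theorem mem_im {α : MulAut (T8 F)} {R : Subgroup (T8 F)} {x : T8 F} : α x ∈ im α R ↔ x ∈ R :=
  Subgroup.mem_map_iff_mem (f := α.toMonoidHom) α.injective

theorem mem_im' {α : MulAut (T8 F)} {R : Subgroup (T8 F)} {x : T8 F} : x ∈ im α R ↔ α⁻¹ x ∈ R := by
  rw [← mem_im (α := α) (x := α⁻¹ x), MulAut.apply_inv_self]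

theorem im_im (α β : MulAut (T8 F)) (R : Subgroup (T8 F)) : im β (im α R) = im (β * α) R := H823.O8R.map_map' α β

theorem im_inv_im (α : MulAut (T8 F)) (R : Subgroup (T8 F)) : im α⁻¹ (im α R) = R := by rw [im_im, inv_mul_cancel, im_one]

theorem im_im_inv (α : MulAut (T8 F)) (R : Subgroup (T8 F)) : im α (im α⁻¹ R) = R := by rw [im_im, mul_inv_cancel, im_one]

theorem card_im (α : MulAut (T8 F)) (R : Subgroup (T8 F)) : Nat.card (im α R) = Nat.card R := H823.O8R.card_map α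

theorem comap_eq_im (α : MulAut (T8 F)) (R : Subgroup (T8 F)) : R.comap α.toMonoidHom = im α⁻¹ R :=
  Subgroup.ext fun x => by rw [mem_im', inv_inv]; rfl

theorem im_St (M : Gam (plusQ 4 F)) (U : Submodule F (I8 → F)) : im (ph F M) (St U) = St (gm M U) := by
  ext x
  obtain ⟨x, rfl⟩ := (ph F M).surjective x
  rw [mem_im, ph_mem_St]

theorem im_pt (M : Gam (plusQ 4 F)) (v : I8 → F) : im (ph F M) (pt v) = pt (M.1 v) := by
  rw [im_St, gm_span]

theorem ph_St {M : Gam (plusQ 4 F)} {U : Submodule F (I8 → F)} (h : ∀ u ∈ U, M.1 u ∈ U) {x : T8 F} (hx : x ∈ St U) :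
    ph F M x ∈ St U := by
  have h1 := (ph_mem_St (M := M)).2 hx
  rwa [gm_eq_of h] at h1

/-! ### the space `Fx` -/

theorem mem_Fx {r : ℕ} {R : Subgroup (T8 F)} {v : I8 → F} :
    v ∈ Fx r R ↔ ∀ y : Om F, mk8 F y ∈ R → y ^ r = 1 → ln y v = v := by
  unfold Fx
  rw [Submodule.mem_iInf]
  constructor
  · intro h y hy hr
    exact mem_fx.1 (h ⟨gl8 F y, gl_mem_pre.2 hy, by rw [← map_pow, hr, map_one]⟩)
  · rintro h ⟨g, hg, hr⟩
    obtain ⟨y, rfl, hy⟩ := exists_lift hg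
    exact mem_fx.2 (h y hy (gl8_injective (by rw [map_pow, hr, map_one])))

theorem Fx_anti {r : ℕ} {R R' : Subgroup (T8 F)} (h : R ≤ R') : Fx r R' ≤ Fx r R :=
  fun _ hv => mem_Fx.2 fun y hy hr => mem_Fx.1 hv y (h hy) hr

theorem ln_pow_conj {M : Gam (plusQ 4 F)} {y y' : Om F} (h : ∀ v, ln y' (M.1 v) = M.1 (ln y v)) (n : ℕ) (v : I8 → F) :
    ln (y' ^ n) (M.1 v) = M.1 (ln (y ^ n) v) := by
  induction n with
  | zero => rw [pow_zero, pow_zero, ln_one, ln_one]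
  | succ n ih => rw [pow_succ', pow_succ', ln_mul, ln_mul, ih, h]

theorem Fx_im (r : ℕ) (M : Gam (plusQ 4 F)) (R : Subgroup (T8 F)) : Fx r (im (ph F M) R) = gm M (Fx r R) := by
  have key : ∀ (M : Gam (plusQ 4 F)) (R : Subgroup (T8 F)) (v : I8 → F), v ∈ Fx r (im (ph F M) R) → M⁻¹.1 v ∈ Fx r R := by
    intro M R v hv
    refine mem_Fx.2 fun y hy hr => ?_
    obtain ⟨y', h1, h2⟩ := exists_ph M y
    have h3 : y' ^ r = 1 := om_ext fun w => by
      rw [← gam_apply_inv M w, ln_pow_conj h2, hr, ln_one, ln_one]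
    have h4 := mem_Fx.1 hv y' (by rw [← h1]; exact mem_im.2 hy) h3
    apply M.1.injective
    rw [← h2, gam_apply_inv, h4]
  refine le_antisymm (fun v hv => key M R v hv) fun v hv => ?_
  have h5 := key M⁻¹ (im (ph F M) R) (M⁻¹.1 v) (by rw [map_inv, im_inv_im]; exact hv)
  rwa [inv_inv, gam_apply_inv] at h5

theorem gm_eq_bot {M : Gam (plusQ 4 F)} {U : Submodule F (I8 → F)} : gm M U = ⊥ ↔ U = ⊥ := by
  rw [← Submodule.finrank_eq_zero, finrank_gm, Submodule.finrank_eq_zero]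

/-- `Fx r R` is invariant under the semisimilarities which normalise `R` -/
theorem Fx_inv {r : ℕ} {M : Gam (plusQ 4 F)} {R : Subgroup (T8 F)} (h : ∀ x ∈ R, ph F M x ∈ R) {v : I8 → F}
    (hv : v ∈ Fx r R) : M.1 v ∈ Fx r R := by
  have h1 : im (ph F M) R = R :=
    Subgroup.eq_of_le_of_card_ge (Subgroup.map_le_iff_le_comap.2 h) (card_im _ _).ge
  rw [← h1, Fx_im, apply_mem_gm]
  exact hv

theorem le_St_Fx (r : ℕ) (R : Subgroup (T8 F)) : R ≤ St (Fx r R) := fun x hx => by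
  obtain ⟨y, rfl⟩ := mk8_surjective x
  refine mem_St.2 fun w hw => Fx_inv (M := og F y) (fun z hz => ?_) hw
  rw [ph_og]
  exact mul_mem (mul_mem hx hz) (inv_mem hx)

theorem lift_gen {Q : QuadraticForm F (I8 → F)} (hQ : Q = plusForm 4 F) (hG : Good Q) {r : ℕ} (hr : Odd r)
    {z : POmega F ⇑Q} (hz : z ^ r = 1) : ∃ y : Omega F ⇑Q, (QuotientGroup.mk y : POmega F ⇑Q) = z ∧ y ^ r = 1 := by
  obtain ⟨y, h1, h2⟩ := H708.Rg.exists_lift hQ hG hr (z := pe hG z) (by rw [← map_pow, hz, map_one])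
  refine ⟨(oe hG).symm y, (pe hG).injective ?_, by rw [← map_pow, h2, map_one]⟩
  rw [pe_mk, MulEquiv.apply_symm_apply, h1]

/-- lifts of elements of odd order -/
theorem lift_odd {r : ℕ} (hr : Odd r) {z : T8 F} (hz : z ^ r = 1) : ∃ y : Om F, mk8 F y = z ∧ y ^ r = 1 :=
  lift_gen (plusQ_eq 4 F) good8 hr hz

theorem exists_elt {r : ℕ} (hp : r.Prime) (hr : Odd r) {R : Subgroup (T8 F)} (hd : r ∣ Nat.card R) :
    ∃ y : Om F, mk8 F y ∈ R ∧ y ^ r = 1 ∧ mk8 F y ≠ 1 := by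
  have := Fact.mk hp
  obtain ⟨x, hx⟩ := exists_prime_orderOf_dvd_card' r hd
  have h1 : orderOf (x : T8 F) = r := by rw [Subgroup.orderOf_coe, hx]
  obtain ⟨y, h2, h3⟩ := lift_odd hr (z := (x : T8 F)) (by rw [← h1]; exact pow_orderOf_eq_one _)
  refine ⟨y, h2 ▸ x.2, h3, fun h => ?_⟩
  rw [← h2, h, orderOf_one] at h1
  exact hp.one_lt.ne h1

theorem nt_gen {Q : QuadraticForm F (I8 → F)} (hQ : Q = plusForm 4 F) (hG : Good Q) {r : ℕ} (hr : PP (Nat.card F) 4 r)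
    {β : MulAut (POmega F ⇑Q)} {y y' : Omega F ⇑Q} (h : β (QuotientGroup.mk y) = QuotientGroup.mk y') (hy : y ^ r = 1)
    (hy' : y' ^ r = 1) (h1 : y ≠ 1) {v v' : I8 → F} (hv : v ≠ 0) (hv' : v' ≠ 0)
    (e : lin ((y : isometryGroup F ⇑Q) : GL I8 F) v = v) (e' : lin ((y' : isometryGroup F ⇑Q) : GL I8 F) v' = v') :
    β ∈ (Phi hG).range := by
  by_contra hβ
  have h2 : MulAut.congr (pe hG) β ∉ (Psi Q).range := by
    rintro ⟨M, hM⟩
    refine hβ ⟨M, ?_⟩
    ext x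
    rw [H198.OrthFrame.Phi_apply, hM]
    change (pe hG).symm (pe hG (β ((pe hG).symm (pe hG x)))) = _
    rw [MulEquiv.symm_apply_apply, MulEquiv.symm_apply_apply]
  have h3 : ((oe hG y' : ↥(E Q)) : P Q) = MulAut.congr (pe hG) β ((oe hG y : ↥(E Q)) : P Q) := by
    rw [← pe_mk, ← pe_mk, ← h]
    change _ = pe hG (β ((pe hG).symm (pe hG _)))
    rw [MulEquiv.symm_apply_apply]
  have h4 : (oe hG y : (I8 → F) ≃ₗ[F] (I8 → F)) v = v := by rw [H708.Rg.oe_lin]; exact e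
  have h5 : (oe hG y' : (I8 → F) ≃ₗ[F] (I8 → F)) v' = v' := by rw [H708.Rg.oe_lin]; exact e'
  subst hQ
  exact hv' (H708.Rg.aut_no_fix hG hr (g := oe hG y) (by rw [← map_pow, hy, map_one])
    (fun k => h1 ((oe hG).injective (by rw [k, map_one]))) ⟨v, hv, h4⟩ h2 h3 (by rw [← map_pow, hy', map_one]) v' h5)

/-- **an element of order `r₄` has fixed vectors in at most one of the three modules** -/
theorem nt_of_fix {r : ℕ} (hr : PP (Nat.card F) 4 r) {β : MulAut (T8 F)} {y y' : Om F} (h : β (mk8 F y) = mk8 F y')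
    (hy : y ^ r = 1) (hy' : y' ^ r = 1) (h1 : y ≠ 1) {v v' : I8 → F} (hv : v ≠ 0) (hv' : v' ≠ 0) (e : ln y v = v)
    (e' : ln y' v' = v') : Nt β :=
  nt_gen (plusQ_eq 4 F) good8 hr h hy hy' h1 hv hv' e e'

theorem nt_of_fx {r : ℕ} (hr : PP (Nat.card F) 4 r) {R : Subgroup (T8 F)} (hd : r ∣ Nat.card R) {β : MulAut (T8 F)}
    (h : Fx r R ≠ ⊥) (h' : Fx r (im β R) ≠ ⊥) : Nt β := by
  have hodd := hr.odd (by norm_num)
  obtain ⟨y, hy, hyr, hy1⟩ := exists_elt hr.prime hodd hd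
  obtain ⟨y', h1, h2⟩ := lift_odd hodd (z := β (mk8 F y)) (by rw [← map_pow, ← map_pow, hyr, map_one, map_one])
  obtain ⟨v, hv, hv0⟩ := (Submodule.ne_bot_iff _).1 h
  obtain ⟨v', hv', hv0'⟩ := (Submodule.ne_bot_iff _).1 h'
  exact nt_of_fix hr h1.symm hyr h2 (fun k => hy1 (by rw [k, map_one])) hv0 hv0' (mem_Fx.1 hv y hy hyr)
    (mem_Fx.1 hv' y' (by rw [h1]; exact mem_im.2 hy) h2)

/-! ### the three cosets -/

/-- the sign of a semisimilarity -/
noncomputable abbrev kp (F : Type) [Field F] [Fintype F] : Gam (plusQ 4 F) →* ℤˣ := H198.Classes.kappa (neutral_plusQ 4 F)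

theorem exists_tri : ∃ ρ : MulAut (T8 F), ρ ^ 3 = 1 ∧ ¬ Nt ρ ∧
    (∀ M, kp F M = 1 → ∃ M₁, kp F M₁ = 1 ∧ ρ * ph F M * ρ⁻¹ = ph F M₁) ∧
    (∀ α : MulAut (T8 F), ∃ (i : ℕ) (M : Gam (plusQ 4 F)), i < 3 ∧ α = ρ ^ i * ph F M) ∧
    ∃ κ, kp F κ = -1 ∧ κ * κ = 1 ∧ ph F κ * ρ * ph F κ = ρ⁻¹ := by
  obtain ⟨ρ, h⟩ := exists_triality (plusQ_eq 4 F) good8 (neutral_plusQ 4 F)
  obtain ⟨κ, k1, -, k2, k3⟩ := h.inv
  refine ⟨ρ, h.cube, h.not_mem, fun M hM => ?_, h.cases, κ, k1, k2, k3⟩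
  obtain ⟨M₁, h1, -, h2⟩ := h.conj M hM
  exact ⟨M₁, h1, h2⟩

theorem index_gen {Q : QuadraticForm F (I8 → F)} (hQ : Q = plusForm 4 F) (hG : Good Q) : (Phi hG).range.index = 3 := by
  subst hQ
  have h1 : (Phi hG).range = (Psi (plusForm 4 F)).range.map (MulAut.congr (pe hG).symm).toMonoidHom :=
    MonoidHom.range_comp _ _
  rw [h1, Subgroup.index_map_of_bijective (MulAut.congr (pe hG).symm).bijective]
  exact H198.TriAut.index_three

theorem index_ph : (ph F).range.index = 3 := index_gen (plusQ_eq 4 F) good8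

/-- the class-preserving semisimilarities induce a normal subgroup of the automorphism group -/
theorem conj_kp (α : MulAut (T8 F)) {M : Gam (plusQ 4 F)} (hM : kp F M = 1) :
    ∃ M', kp F M' = 1 ∧ α * ph F M * α⁻¹ = ph F M' := by
  obtain ⟨ρ, -, -, hc, hd, -⟩ := exists_tri (F := F)
  obtain ⟨i, N, -, rfl⟩ := hd α
  have h2 : ∀ (i : ℕ) {M : Gam (plusQ 4 F)}, kp F M = 1 → ∃ M', kp F M' = 1 ∧ ρ ^ i * ph F M * (ρ ^ i)⁻¹ = ph F M' := by
    intro i
    induction i with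
    | zero => exact fun {M} hM => ⟨M, hM, by rw [pow_zero, one_mul, inv_one, mul_one]⟩
    | succ i ih =>
      intro M hM
      obtain ⟨M₁, h1, h2⟩ := ih hM
      obtain ⟨M₂, h3, h5⟩ := hc M₁ h1
      refine ⟨M₂, h3, ?_⟩
      rw [← h5, ← h2, pow_succ']
      group
  obtain ⟨M', h3, h4⟩ := h2 i (M := N * M * N⁻¹) (by rw [map_mul, map_mul, hM, map_inv, mul_one, mul_inv_cancel])
  refine ⟨M', h3, ?_⟩
  rw [← h4, map_mul, map_mul, map_inv]
  group

/-- a class-exchanging semisimilarity is not a semisimilarity of the other modules -/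
theorem not_nt_conj {α : MulAut (T8 F)} (hα : ¬ Nt α) {M : Gam (plusQ 4 F)} (hM : kp F M = -1) :
    ¬ Nt (α * ph F M * α⁻¹) := by
  intro h
  obtain ⟨ρ, h3, hn, -, hd, κ, k1, k2, k3'⟩ := exists_tri (F := F)
  obtain ⟨i, N, hi, rfl⟩ := hd α
  have k2' : ph F κ * ph F κ = 1 := by rw [← map_mul, k2, map_one]
  obtain ⟨M', -, h4⟩ := conj_kp (ρ ^ i) (M := N * M * N⁻¹ * κ) (by
    rw [map_mul, map_mul, map_mul, hM, map_inv, k1, mul_neg, mul_neg, neg_mul, mul_one, mul_one, neg_neg, mul_inv_cancel])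
  have h5 : Nt (ρ ^ i * ph F κ * (ρ ^ i)⁻¹) := by
    have h6 : ρ ^ i * ph F κ * (ρ ^ i)⁻¹ = (ρ ^ i * ph F N * ph F M * (ρ ^ i * ph F N)⁻¹)⁻¹ * ph F M' := by
      rw [← h4, map_mul, map_mul, map_mul, map_inv]
      group
    rw [h6]
    exact (Nt.inv h).mul (nt_ph _)
  have h7 : ph F κ * ρ⁻¹ = ρ * ph F κ := by
    rw [← k3', ← mul_assoc, ← mul_assoc, k2', one_mul]
  have h8 : ρ ^ 2 = ρ⁻¹ := eq_inv_of_mul_eq_one_left (by rw [← pow_succ]; exact h3)
  interval_cases i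
  · exact hα (by rw [pow_zero, one_mul]; exact nt_ph _)
  · rw [pow_one, mul_assoc, h7, ← mul_assoc, ← pow_two, h8] at h5
    have h9 := (h5.mul (nt_ph κ).inv).inv
    rw [mul_inv_cancel_right, inv_inv] at h9
    exact hn h9
  · have h10 : ph F κ * ρ = ρ⁻¹ * ph F κ := by
      rw [← k3', mul_assoc, k2', mul_one]
    rw [h8, inv_inv, mul_assoc, h10, ← mul_assoc, ← pow_two, inv_pow, h8, inv_inv] at h5
    have h9 := h5.mul (nt_ph κ).inv
    rw [mul_inv_cancel_right] at h9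
    exact hn h9

/-- there are only three cosets -/
theorem three_cosets {α β γ : MulAut (T8 F)} (hα : ¬ Nt α) (hβ : ¬ Nt β) (hγ : ¬ Nt γ) (h : ¬ Nt (α * β⁻¹)) :
    Nt (α * γ⁻¹) ∨ Nt (β * γ⁻¹) := by
  by_contra hc
  push Not at hc
  have h1 : Nat.card (MulAut (T8 F) ⧸ (ph F).range) = 3 := index_ph
  have : Finite (MulAut (T8 F) ⧸ (ph F).range) := Nat.finite_of_card_ne_zero (by omega)
  have key : ∀ {a b : MulAut (T8 F)}, ¬ Nt (a * b⁻¹) →
      (QuotientGroup.mk a⁻¹ : MulAut (T8 F) ⧸ (ph F).range) ≠ QuotientGroup.mk b⁻¹ := fun {a b} k e => by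
    have h2 := QuotientGroup.eq.1 e
    rw [inv_inv] at h2
    exact k h2
  have k1 : ∀ {a : MulAut (T8 F)}, ¬ Nt a → ¬ Nt (a * 1⁻¹) := fun {a} k => by rwa [inv_one, mul_one]
  have h3 : Function.Injective (![QuotientGroup.mk 1⁻¹, QuotientGroup.mk α⁻¹, QuotientGroup.mk β⁻¹, QuotientGroup.mk γ⁻¹] :
      Fin 4 → MulAut (T8 F) ⧸ (ph F).range) := by
    intro i j e
    have e1 := key (k1 hα)
    have e2 := key (k1 hβ)
    have e3 := key (k1 hγ)
    have e4 := key h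
    have e5 := key hc.1
    have e6 := key hc.2
    fin_cases i <;> fin_cases j <;> first | rfl | exact absurd e ‹_› | exact absurd e.symm ‹_›
  have h4 := Nat.card_le_card_of_injective _ h3
  rw [h1, Nat.card_eq_fintype_card, Fintype.card_fin] at h4
  omega

/-- the reflection in `v` -/
def rf (v : I8 → F) (hv : quadFormPlus 4 F v ≠ 0) : Gam (plusQ 4 F) :=
  gamO _ ⟨refl (plusQ 4 F) v hv, refl_mem_O hv⟩

theorem rf_apply {v : I8 → F} (hv : quadFormPlus 4 F v ≠ 0) (x : I8 → F) :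
    (rf v hv).1 x = x - ((quadFormPlus 4 F v)⁻¹ * polar (quadFormPlus 4 F) v x) • v := refl_apply (Q := plusQ 4 F) hv x

theorem kp_rf {v : I8 → F} (hv : quadFormPlus 4 F v ≠ 0) : kp F (rf v hv) = -1 :=
  kappa_refl (Q := plusQ 4 F) (neutral_plusQ 4 F) hv

theorem polar_ln (y : Om F) (u v : I8 → F) : polar (quadFormPlus 4 F) (ln y u) (ln y v) = polar (quadFormPlus 4 F) u v :=
  H823.O8S.polar_iso' (Q_ln y) u v

theorem ln_rf {v : I8 → F} (hv : quadFormPlus 4 F v ≠ 0) {y : Om F} (hy : mk8 F y ∈ pt v) (x : I8 → F) :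
    ln y ((rf v hv).1 x) = (rf v hv).1 (ln y x) := by
  rw [rf_apply, rf_apply, map_sub, map_smul, ← polar_ln y v x]
  rcases (mem_pt' hv).1 hy with h | h
  · rw [h]
  · have h1 : polar (quadFormPlus 4 F) (-v) (ln y x) = -polar (quadFormPlus 4 F) v (ln y x) :=
      polar_neg_left (plusQ 4 F) v _
    rw [h, h1, mul_neg, neg_smul, smul_neg, neg_neg]

/-- the reflection in `v` centralises the stabiliser of `⟨v⟩` -/
theorem rf_fix {v : I8 → F} (hv : quadFormPlus 4 F v ≠ 0) {x : T8 F} (hx : x ∈ pt v) : ph F (rf v hv) x = x := by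
  obtain ⟨y, rfl⟩ := mk8_surjective x
  exact ph_mk _ (ln_rf hv hx)

/-- the two other modules are exchanged by the reflection in `v` -/
theorem coset_rf {v : I8 → F} (hv : quadFormPlus 4 F v ≠ 0) {α τ : MulAut (T8 F)} (hα : ¬ Nt α) (hτ : ¬ Nt τ) :
    Nt (α * τ⁻¹) ∨ Nt (α * ph F (rf v hv) * τ⁻¹) := by
  refine three_cosets hα (fun h => hα ?_) hτ fun h => not_nt_conj hα (kp_rf hv) ?_
  · have h1 := h.mul (nt_ph (rf v hv)).inv
    rwa [mul_inv_cancel_right] at h1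
  · have h1 := h.inv
    rwa [mul_inv_rev, inv_inv] at h1

/-- a group of automorphisms without semisimilarities, which contains an involution -/
theorem eq_of_no_nt {C : Subgroup (MulAut (T8 F))} (hC : ∀ β ∈ C, Nt β → β = 1) {σ : MulAut (T8 F)} (hσ : σ ∈ C)
    (h1 : σ ≠ 1) (h2 : σ * σ = 1) {β : MulAut (T8 F)} (hβ : β ∈ C) : β = 1 ∨ β = σ := by
  by_contra hc
  push Not at hc
  have n1 : ¬ Nt σ := fun h => h1 (hC σ hσ h)
  have n2 : ¬ Nt β := fun h => hc.1 (hC β hβ h)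
  have n3 : ¬ Nt (σ * β) := fun h => hc.2 (by
    have h3 := hC _ (mul_mem hσ hβ) h
    rw [← one_mul β, ← h2, mul_assoc, h3, mul_one])
  have n4 : ¬ Nt (σ * β⁻¹) := fun h => hc.2 (mul_inv_eq_one.1 (hC _ (mul_mem hσ (inv_mem hβ)) h)).symm
  rcases three_cosets n1 n2 n3 n4 with h | h
  · have h3 := mul_inv_eq_one.1 (hC _ (mul_mem hσ (inv_mem (mul_mem hσ hβ))) h)
    exact hc.1 (mul_eq_left.1 h3.symm)
  · have h3 := mul_inv_eq_one.1 (hC _ (mul_mem hβ (inv_mem (mul_mem hσ hβ))) h)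
    exact h1 (mul_eq_right.1 h3.symm)

end Cfsg.Agent.SM.O8
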