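import Cfsg.Agent.SM.Fac
import Cfsg.Agent.SM.Ex78.Base

/-!
# SM: the factorisation `Fac` seen in a model `G` of the socle `S` (helper71)

`X`, `Y` are the images of `T` and `S ⊓ B` in `G`; `U`, `V` the images of `H` and `B` in `Aut G`.
-/

set_option autoImplicit false
set_option linter.unusedSectionVars false

namespace Cfsg.Agent.SM.O8

open Subgroup
open Cfsg.Agent.SM.Ex78 (Pd)

/-- invariant under a group of automorphisms -/
def Iv {G : Type} [Group G] (U : Subgroup (MulAut G)) (D : Subgroup G) : Prop := ∀ β ∈ U, ∀ x ∈ D, β x ∈ D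

/-- the configuration in the model -/
structure Cf {G : Type} [Group G] (X Y : Subgroup G) (U V : Subgroup (MulAut G)) : Prop where
  simple : IsSimpleGroup X
  nab : ¬ IsMulCommutative X
  neX : X ≠ ⊤
  neY : Y ≠ ⊤
  pd : Pd X Y
  nb : X ⊓ Y ≠ ⊥
  uX : Iv U X
  vY : Iv V Y
  inU : ∀ x ∈ X, MulAut.conj x ∈ U
  inV : ∀ g, MulAut.conj g ∈ V ↔ g ∈ Y
  cen : ∀ g, (∀ x ∈ X, g * x = x * g) → g = 1
  cenU : ∀ β ∈ U ⊔ V, (∀ x ∈ X, β x = x) → β = 1
  nrmU : ∀ β ∈ U ⊔ V, (∀ x, x ∈ X ↔ β x ∈ X) → β ∈ U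
  minU : ∀ E : Subgroup G, E ≠ ⊥ → (∀ e ∈ E, MulAut.conj e ∈ U) → (∀ x ∈ X, ∀ e ∈ E, x * e * x⁻¹ ∈ E) → X ≤ E
  maxU : ∀ D : Subgroup G, D ≠ ⊤ → Iv U D → ∀ d ∈ D, MulAut.conj d ∈ U
  maxV : ∀ D : Subgroup G, D ≠ ⊤ → Iv V D → D ≤ Y
  prim : ∀ K : Subgroup G, X ⊓ Y ≤ K → K ≤ X → Iv (U ⊓ V) K → K = X ⊓ Y ∨ K = X
  decU : ∀ β ∈ U, ∃ γ ∈ U ⊓ V, ∃ x ∈ X, β = γ * MulAut.conj x
  decV : ∀ β ∈ V, ∃ γ ∈ U ⊓ V, ∃ y ∈ Y, β = γ * MulAut.conj y

section fac

variable {Γ G : Type} [Group Γ] [Group G] {M S H T B : Subgroup Γ}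

/-- the action of `M` on the model -/
def act (h : AS M S) (φ : S ≃* G) : M →* MulAut G := (MulAut.congr φ).toMonoidHom.comp h.aut

theorem act_apply (h : AS M S) (φ : S ≃* G) (m : M) (s : S) :
    act h φ m (φ s) = φ ⟨m * s * m⁻¹, h.conj m m.2 s s.2⟩ := by
  change φ (h.aut m (φ.symm (φ s))) = _
  rw [MulEquiv.symm_apply_apply]
  congr 1

theorem act_injective (h : AS M S) (φ : S ≃* G) : Function.Injective (act h φ) :=
  (MulAut.congr φ).injective.comp h.aut_injective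

theorem act_conj (h : AS M S) (φ : S ≃* G) (s : S) : act h φ ⟨s, h.le s.2⟩ = MulAut.conj (φ s) := by
  ext g
  obtain ⟨t, rfl⟩ := φ.surjective g
  rw [act_apply, MulAut.conj_apply, ← map_inv, ← map_mul, ← map_mul]
  congr 1

/-- the image of a subgroup of `Γ` in the model -/
def dn (φ : S ≃* G) (A : Subgroup Γ) : Subgroup G := (A.subgroupOf S).map φ.toMonoidHom

/-- the image of a subgroup of `Γ` in the automorphism group of the model -/
def da (h : AS M S) (φ : S ≃* G) (A : Subgroup Γ) : Subgroup (MulAut G) := (A.subgroupOf M).map (act h φ)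

/-- the preimage of a subgroup of the model -/
def up (φ : S ≃* G) (D : Subgroup G) : Subgroup Γ := (D.comap φ.toMonoidHom).map S.subtype

theorem mem_dn {φ : S ≃* G} {A : Subgroup Γ} {s : S} : φ s ∈ dn φ A ↔ (s : Γ) ∈ A := by
  constructor
  · rintro ⟨t, ht, e⟩
    have : t = s := φ.injective e
    rw [← this]
    exact ht
  · exact fun h => ⟨s, h, rfl⟩

theorem mem_da {h : AS M S} {φ : S ≃* G} {A : Subgroup Γ} {m : M} : act h φ m ∈ da h φ A ↔ (m : Γ) ∈ A := by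
  constructor
  · rintro ⟨t, ht, e⟩
    have : t = m := act_injective h φ e
    rw [← this]
    exact ht
  · exact fun k => ⟨m, k, rfl⟩

theorem mem_up {φ : S ≃* G} {D : Subgroup G} {s : S} : (s : Γ) ∈ up φ D ↔ φ s ∈ D := by
  constructor
  · rintro ⟨t, ht, e⟩
    have : t = s := Subtype.ext e
    rw [← this]
    exact ht
  · exact fun h => ⟨s, h, rfl⟩

theorem up_le {φ : S ≃* G} {D : Subgroup G} : up φ D ≤ S := by
  rintro _ ⟨t, -, rfl⟩
  exact t.2

theorem da_sup {h : AS M S} {φ : S ≃* G} {A C : Subgroup Γ} {β : MulAut G} (hβ : β ∈ da h φ A ⊔ da h φ C) :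
    ∃ m : M, act h φ m = β := by
  have : da h φ A ⊔ da h φ C ≤ (act h φ).range := sup_le (map_le_range _ _) (map_le_range _ _)
  exact this hβ

/-- the isomorphism `T ≃ X` -/
noncomputable def dnEquiv (φ : S ≃* G) (hT : T ≤ S) : T ≃* dn φ T :=
  (subgroupOfEquivOfLe hT).symm.trans (φ.subgroupMap (T.subgroupOf S))

theorem card_dn (φ : S ≃* G) (hT : T ≤ S) : Nat.card (dn φ T) = Nat.card T :=
  (Nat.card_congr (dnEquiv φ hT).toEquiv).symm

/-- an invariant proper subgroup of the model lies in the maximal subgroup -/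
theorem up_le_of {A : Subgroup Γ} (h : AS M S) (hA : A ⋖ M) (φ : S ≃* G) {D : Subgroup G} (hD : D ≠ ⊤)
    (hI : Iv (da h φ A) D) : up φ D ≤ A := by
  have hc : ∀ g ∈ A, ∀ x ∈ up φ D, g * x * g⁻¹ ∈ up φ D := by
    intro g hg x hx
    have hxS := up_le hx
    have h1 := hI _ ((mem_da (h := h) (φ := φ) (m := ⟨g, hA.le hg⟩)).2 hg) _ ((mem_up (s := ⟨x, hxS⟩)).1 hx)
    rw [act_apply] at h1
    exact (mem_up (s := ⟨_, h.conj g (hA.le hg) x hxS⟩)).2 h1
  rcases le_or_mul_of_covBy hA (up_le.trans h.le) hc with h1 | h1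
  · exact h1
  · by_cases h0 : up φ D = ⊥
    · rw [h0]; exact bot_le
    · exfalso
      have h2 : S ≤ up φ D := by
        refine h.le_of_conj (up_le.trans h.le) (fun g hg x hx => ?_) h0
        obtain ⟨a, ha, y, hy, rfl⟩ := h1 g (h.le hg)
        have : a * y * x * (a * y)⁻¹ = a * (y * x * y⁻¹) * a⁻¹ := by group
        rw [this]
        exact hc a ha _ (mul_mem (mul_mem hy hx) (inv_mem hy))
      refine hD (eq_top_iff.2 fun g _ => ?_)
      obtain ⟨s, rfl⟩ := φ.surjective g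
      exact mem_up.1 (h2 s.2)

theorem _root_.Cfsg.Agent.SM.Fac.cf (f : Fac M S H T B) (φ : S ≃* G) :
    Cf (dn φ T) (dn φ B) (da f.asM φ H) (da f.asM φ B) where
  simple := by
    have := f.asH.simple
    exact (dnEquiv φ f.le).symm.isSimpleGroup
  nab := fun h => f.asH.nab ⟨⟨fun a b => (dnEquiv φ f.le).injective (by rw [map_mul, map_mul, h.1.1])⟩⟩
  neX := fun h => f.ne (le_antisymm f.le fun s hs => (mem_dn (φ := φ) (s := ⟨s, hs⟩)).1 (by rw [h]; trivial))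
  neY := fun h => f.nB fun s hs => (mem_dn (φ := φ) (s := ⟨s, hs⟩)).1 (by rw [h]; trivial)
  pd := fun g => by
    obtain ⟨s, rfl⟩ := φ.surjective g
    obtain ⟨t, ht, b, hb, e⟩ := f.fac s s.2
    have hbS : b ∈ S := by
      have : b = t⁻¹ * s := by rw [e]; group
      rw [this]
      exact mul_mem (inv_mem (f.le ht)) s.2
    refine ⟨φ ⟨t, f.le ht⟩, mem_dn.2 ht, φ ⟨b, hbS⟩, mem_dn.2 hb, ?_⟩
    rw [← map_mul]
    congr 1
    exact Subtype.ext e
  nb := fun h => f.nb (eq_bot_iff.2 fun t ht => by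
    have h1 : φ ⟨t, f.le ht.1⟩ ∈ dn φ T ⊓ dn φ B := ⟨mem_dn.2 ht.1, mem_dn.2 ht.2⟩
    rw [h, mem_bot, map_eq_one_iff _ φ.injective] at h1
    exact congrArg Subtype.val h1)
  uX := by
    rintro _ ⟨m, hm, rfl⟩ _ ⟨s, hs, rfl⟩
    change act f.asM φ m (φ s) ∈ _
    rw [act_apply]
    exact mem_dn.2 (f.asH.conj m hm s hs)
  vY := by
    rintro _ ⟨m, hm, rfl⟩ _ ⟨s, hs, rfl⟩
    change act f.asM φ m (φ s) ∈ _
    rw [act_apply]
    exact mem_dn.2 (mul_mem (mul_mem hm hs) (inv_mem hm))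
  inU := by
    rintro _ ⟨s, hs, rfl⟩
    change MulAut.conj (φ s) ∈ _
    rw [← act_conj f.asM]
    exact mem_da.2 (f.asH.le hs)
  inV := fun g => by
    obtain ⟨s, rfl⟩ := φ.surjective g
    rw [← act_conj f.asM, mem_da, mem_dn]
  cen := fun g hg => by
    obtain ⟨s, rfl⟩ := φ.surjective g
    have h1 : (s : Γ) = 1 := f.cen (f.asM.le s.2) fun t ht => by
      have h2 := hg (φ ⟨t, f.le ht⟩) (mem_dn.2 ht)
      rw [← map_mul, ← map_mul] at h2
      exact congrArg Subtype.val (φ.injective h2)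
    rw [show s = 1 from Subtype.ext h1, map_one]
  cenU := fun β hβ hx => by
    obtain ⟨m, rfl⟩ := da_sup hβ
    have h1 : (m : Γ) = 1 := f.cen m.2 fun t ht => by
      have h2 := hx (φ ⟨t, f.le ht⟩) (mem_dn.2 ht)
      rw [act_apply] at h2
      exact mul_inv_eq_iff_eq_mul.1 (congrArg Subtype.val (φ.injective h2))
    rw [show m = 1 from Subtype.ext h1, map_one]
  nrmU := fun β hβ hx => by
    obtain ⟨m, rfl⟩ := da_sup hβ
    refine mem_da.2 (f.mem_H m.2 (mem_normalizer_iff.2 fun t => ⟨fun ht => ?_, fun ht => ?_⟩))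
    · have h2 := (hx (φ ⟨t, f.le ht⟩)).1 (mem_dn.2 ht)
      rw [act_apply] at h2
      exact mem_dn.1 h2
    · have htS : t ∈ S := by
        have h3 := f.asM.conj _ (inv_mem m.2) _ (f.le ht)
        rwa [show (m : Γ)⁻¹ * (m * t * (m : Γ)⁻¹) * (m : Γ)⁻¹⁻¹ = t by group] at h3
      have h2 := (hx (φ ⟨t, htS⟩)).2 (by rw [act_apply]; exact mem_dn.2 ht)
      exact mem_dn.1 h2
  minU := fun E h0 hE hc => by
    have h1 : T ≤ up φ E := by
      refine f.asH.le_of_conj (fun e he => ?_) (fun t ht e he => ?_) (fun h => h0 (eq_bot_iff.2 fun e he => ?_))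
      · have heS := up_le he
        have h2 := hE _ ((mem_up (s := ⟨e, heS⟩)).1 he)
        rw [← act_conj f.asM] at h2
        exact mem_da.1 h2
      · have heS := up_le he
        have h2 := hc _ ((mem_dn (s := ⟨t, f.le ht⟩)).2 ht) _ ((mem_up (s := ⟨e, heS⟩)).1 he)
        rw [← map_inv, ← map_mul, ← map_mul] at h2
        exact mem_up.2 h2
      · obtain ⟨s, rfl⟩ := φ.surjective e
        have h2 := mem_up.2 he
        rw [h, mem_bot] at h2
        rw [show s = 1 from Subtype.ext h2, map_one]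
        exact one_mem _
    rintro _ ⟨s, hs, rfl⟩
    exact mem_up.1 (h1 hs)
  maxU := fun D hD hI d hd => by
    obtain ⟨s, rfl⟩ := φ.surjective d
    rw [← act_conj f.asM]
    exact mem_da.2 (up_le_of f.asM f.hm φ hD hI (mem_up.2 hd))
  maxV := fun D hD hI d hd => by
    obtain ⟨s, rfl⟩ := φ.surjective d
    exact mem_dn.2 (up_le_of f.asM f.bm φ hD hI (mem_up.2 hd))
  prim := fun K h1 h2 hI => by
    have k1 : T ⊓ B ≤ up φ K := fun t ht =>
      (mem_up (s := ⟨t, f.le ht.1⟩)).2 (h1 ⟨mem_dn.2 ht.1, mem_dn.2 ht.2⟩)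
    have k2 : up φ K ≤ T := fun t ht =>
      (mem_dn (s := ⟨t, up_le ht⟩)).1 (h2 ((mem_up (s := ⟨t, up_le ht⟩)).1 ht))
    have k3 : ∀ g ∈ H ⊓ B, ∀ x ∈ up φ K, g * x * g⁻¹ ∈ up φ K := by
      intro g hg x hx
      have hxS := up_le hx
      have hgM := f.hm.le hg.1
      have h3 := hI (act f.asM φ ⟨g, hgM⟩) ⟨mem_da.2 hg.1, mem_da.2 hg.2⟩ _ ((mem_up (s := ⟨x, hxS⟩)).1 hx)
      rw [act_apply] at h3
      exact (mem_up (s := ⟨_, f.asM.conj g hgM x hxS⟩)).2 h3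
    rcases f.prim k1 k2 k3 with h | h
    · left
      refine le_antisymm (fun g hg => ?_) h1
      obtain ⟨s, rfl⟩ := φ.surjective g
      have h4 := mem_up.2 hg
      rw [h] at h4
      exact ⟨mem_dn.2 h4.1, mem_dn.2 h4.2⟩
    · right
      refine le_antisymm h2 ?_
      rintro _ ⟨s, hs, rfl⟩
      exact mem_up.1 (by rw [h]; exact hs)
  decU := by
    rintro _ ⟨m, hm, rfl⟩
    obtain ⟨a, ha, t, ht, e⟩ := f.facT m hm
    refine ⟨act f.asM φ ⟨a, f.hm.le ha.1⟩, ⟨mem_da.2 ha.1, mem_da.2 ha.2⟩, φ ⟨t, f.le ht⟩, mem_dn.2 ht, ?_⟩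
    rw [← act_conj f.asM, ← map_mul]
    congr 1
    exact Subtype.ext e
  decV := by
    rintro _ ⟨m, hm, rfl⟩
    obtain ⟨a, ha, s, hs, e⟩ := f.facH m m.2
    have hsB : s ∈ B := by
      have : s = a⁻¹ * m := by rw [e]; group
      rw [this]
      exact mul_mem (inv_mem ha.2) hm
    refine ⟨act f.asM φ ⟨a, f.hm.le ha.1⟩, ⟨mem_da.2 ha.1, mem_da.2 ha.2⟩, φ ⟨s, hs⟩, mem_dn.2 hsB, ?_⟩
    rw [← act_conj f.asM, ← map_mul]
    congr 1
    exact Subtype.ext e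

end fac

namespace Cf

variable {G : Type} [Group G] {X Y : Subgroup G} {U V : Subgroup (MulAut G)}

theorem not_le (c : Cf X Y U V) : ¬ X ≤ Y := fun h => c.neY (eq_top_iff.2 fun g _ => by
  obtain ⟨x, hx, y, hy, rfl⟩ := c.pd g
  exact mul_mem (h hx) hy)

theorem ne_bot (c : Cf X Y U V) : X ≠ ⊥ := fun h => c.not_le (by rw [h]; exact bot_le)

theorem inA (c : Cf X Y U V) {a : G} (ha : a ∈ X ⊓ Y) : MulAut.conj a ∈ U ⊓ V := ⟨c.inU a ha.1, (c.inV a).2 ha.2⟩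

theorem ivA (c : Cf X Y U V) : Iv (U ⊓ V) (X ⊓ Y) := fun β hβ x hx => ⟨c.uX β hβ.1 x hx.1, c.vY β hβ.2 x hx.2⟩

/-- a non-trivial normal subgroup of `X` -/
theorem eq_of_conj (c : Cf X Y U V) {C : Subgroup G} (h1 : C ≤ X) (h0 : C ≠ ⊥) (h : ∀ x ∈ X, ∀ e ∈ C, x * e * x⁻¹ ∈ C) :
    C = X := le_antisymm h1 (c.minU C h0 (fun e he => c.inU e (h1 he)) h)

/-- `N_X(C) = A` for an invariant subgroup `1 ≠ C ≤ A` -/
theorem nrm (c : Cf X Y U V) {C : Subgroup G} (h1 : C ≤ X ⊓ Y) (h0 : C ≠ ⊥) (hI : Iv (U ⊓ V) C) {x : G} (hx : x ∈ X)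
    (hn : x ∈ normalizer (C : Set G)) : x ∈ Y := by
  have k1 : X ⊓ Y ≤ X ⊓ normalizer (C : Set G) := fun a ha => ⟨ha.1, mem_normalizer_iff.2 fun e =>
    ⟨fun he => hI _ (c.inA ha) e he, fun he => by
      have h2 := hI _ (c.inA (inv_mem ha)) _ he
      rwa [MulAut.conj_apply, show a⁻¹ * (a * e * a⁻¹) * a⁻¹⁻¹ = e by group] at h2⟩⟩
  have k2 : Iv (U ⊓ V) (X ⊓ normalizer (C : Set G)) := fun β hβ g hg => ⟨c.uX β hβ.1 g hg.1, mem_normalizer_iff.2 fun e => by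
    obtain ⟨e, rfl⟩ := β.surjective e
    have h3 : ∀ z, z ∈ C ↔ β z ∈ C := fun z => ⟨hI β hβ z, fun hz => by
      have h4 := hI β⁻¹ (inv_mem hβ) _ hz
      rwa [MulAut.inv_apply_self] at h4⟩
    rw [← map_inv, ← map_mul, ← map_mul]
    exact (h3 e).symm.trans ((mem_normalizer_iff.1 hg.2 e).trans (h3 _))⟩
  rcases c.prim _ k1 inf_le_left k2 with h | h
  · exact (h.le ⟨hx, hn⟩).2
  · exfalso
    have h5 := c.eq_of_conj (h1.trans inf_le_left) h0 fun g hg e he => (mem_normalizer_iff.1 (h.ge hg).2 e).1 he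
    exact c.not_le (h5.ge.trans (h1.trans inf_le_right))

/-- transport along an automorphism -/
theorem map (c : Cf X Y U V) (α : MulAut G) : Cf (X.map α.toMonoidHom) (Y.map α.toMonoidHom)
    (U.map (MulAut.conj α).toMonoidHom) (V.map (MulAut.conj α).toMonoidHom) := by
  have m1 : ∀ {A : Subgroup G} {g : G}, α g ∈ A.map α.toMonoidHom ↔ g ∈ A := fun {A g} =>
    mem_map_iff_mem (f := α.toMonoidHom) α.injective
  have m2 : ∀ {A : Subgroup (MulAut G)} {β : MulAut G}, α * β * α⁻¹ ∈ A.map (MulAut.conj α).toMonoidHom ↔ β ∈ A :=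
    fun {A β} => mem_map_iff_mem (f := (MulAut.conj α).toMonoidHom) (MulAut.conj α).injective
  have m3 : ∀ (β : MulAut G) (g : G), (α * β * α⁻¹) (α g) = α (β g) := fun β g => by
    rw [MulAut.mul_apply, MulAut.mul_apply, MulAut.inv_apply_self]
  have m4 : ∀ g : G, MulAut.conj (α g) = α * MulAut.conj g * α⁻¹ := fun g => by
    ext x
    obtain ⟨x, rfl⟩ := α.surjective x
    rw [m3, MulAut.conj_apply, MulAut.conj_apply, map_mul, map_mul, map_inv]
  have m5 : ∀ β : MulAut G, ∃ β', β = α * β' * α⁻¹ := fun β => ⟨α⁻¹ * β * α, by group⟩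
  have m6 : ∀ {A : Subgroup G}, A.map α.toMonoidHom = ⊤ → A = ⊤ := fun {A} h => eq_top_iff.2 fun g _ => m1.1 (by rw [h]; trivial)
  have m7 : ∀ {A : Subgroup (MulAut G)} {D : Subgroup G}, Iv (A.map (MulAut.conj α).toMonoidHom) D →
      Iv A (D.comap α.toMonoidHom) := fun {A D} h β hβ x hx => by
    have h1 := h _ (m2.2 hβ) _ hx
    change α (β x) ∈ D
    rw [← m3]
    exact h1
  have m8 : ∀ {D : Subgroup G}, D.comap α.toMonoidHom = ⊤ → D = ⊤ := fun {D} h => eq_top_iff.2 fun g _ => by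
    obtain ⟨g, rfl⟩ := α.surjective g
    have : g ∈ D.comap α.toMonoidHom := by rw [h]; trivial
    exact this
  have m9 : ∀ {A : Subgroup (MulAut G)} {D : Subgroup G}, Iv A D →
      Iv (A.map (MulAut.conj α).toMonoidHom) (D.map α.toMonoidHom) := by
    rintro A D h _ ⟨β, hβ, rfl⟩ _ ⟨x, hx, rfl⟩
    exact (m3 β x).symm ▸ m1.2 (h β hβ x hx)
  have ms : ∀ {β : MulAut G}, α * β * α⁻¹ ∈ U.map (MulAut.conj α).toMonoidHom ⊔ V.map (MulAut.conj α).toMonoidHom →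
      β ∈ U ⊔ V := fun h => m2.1 (by rwa [Subgroup.map_sup])
  refine ⟨?_, fun h => c.nab ?_, fun h => c.neX (m6 h), fun h => c.neY (m6 h), c.pd.map _ α.surjective, fun h => c.nb ?_,
    m9 c.uX, m9 c.vY, ?_, fun g => ?_, fun g hg => ?_, fun β hβ hx => ?_, fun β hβ hx => ?_, fun E h0 hE hc => ?_,
    fun D hD hI d hd => ?_, fun D hD hI d hd => ?_, fun K h1 h2 hI => ?_, ?_, ?_⟩
  · have := c.simple
    exact (α.subgroupMap X).symm.isSimpleGroup
  · exact ⟨⟨fun a b => (α.subgroupMap X).injective (by rw [map_mul, map_mul]; exact h.1.1 _ _)⟩⟩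
  · refine eq_bot_iff.2 fun g hg => ?_
    have h1 : α g ∈ X.map α.toMonoidHom ⊓ Y.map α.toMonoidHom := ⟨m1.2 hg.1, m1.2 hg.2⟩
    rw [h, mem_bot, map_eq_one_iff _ α.injective] at h1
    exact h1
  · rintro _ ⟨x, hx, rfl⟩
    exact (m4 x).symm ▸ m2.2 (c.inU x hx)
  · obtain ⟨g, rfl⟩ := α.surjective g
    rw [m4, m2, m1, c.inV]
  · obtain ⟨g, rfl⟩ := α.surjective g
    rw [c.cen g fun x hx => α.injective (by rw [map_mul, map_mul]; exact hg _ (m1.2 hx)), map_one]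
  · obtain ⟨β, rfl⟩ := m5 β
    rw [c.cenU β (ms hβ) fun x hx' => α.injective ((m3 β x).symm.trans (hx _ (m1.2 hx'))), mul_one, mul_inv_cancel]
  · obtain ⟨β, rfl⟩ := m5 β
    exact m2.2 (c.nrmU β (ms hβ) fun x => m1.symm.trans ((hx _).trans (by rw [m3]; exact m1)))
  · have h1 : X ≤ E.comap α.toMonoidHom := by
      refine c.minU _ (fun h => h0 (eq_bot_iff.2 fun e he => ?_)) (fun e he => m2.1 ((m4 e) ▸ hE _ he)) fun x hx e he => ?_
      · obtain ⟨e, rfl⟩ := α.surjective e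
        have h2 : e ∈ E.comap α.toMonoidHom := he
        rw [h, mem_bot] at h2
        rw [h2, map_one]
        exact one_mem _
      · have h2 := hc _ (m1.2 hx) _ he
        change α (x * e * x⁻¹) ∈ E
        rw [map_mul, map_mul, map_inv]
        exact h2
    exact map_le_iff_le_comap.2 h1
  · obtain ⟨d, rfl⟩ := α.surjective d
    exact (m4 d).symm ▸ m2.2 (c.maxU _ (fun h => hD (m8 h)) (m7 hI) d hd)
  · obtain ⟨d, rfl⟩ := α.surjective d
    exact m1.2 (c.maxV _ (fun h => hD (m8 h)) (m7 hI) hd)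
  · have k3 : Iv (U ⊓ V) (K.comap α.toMonoidHom) := fun β hβ x hx => by
      have h3 := hI (α * β * α⁻¹) ⟨m2.2 hβ.1, m2.2 hβ.2⟩ _ hx
      change α (β x) ∈ K
      rw [← m3]
      exact h3
    rcases c.prim (K.comap α.toMonoidHom) (fun a ha => h1 ⟨m1.2 ha.1, m1.2 ha.2⟩) (fun a ha => m1.1 (h2 ha)) k3 with h | h
    · left
      refine le_antisymm (fun g hg => ?_) h1
      obtain ⟨g, rfl⟩ := α.surjective g
      have h4 := h.le hg
      exact ⟨m1.2 h4.1, m1.2 h4.2⟩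
    · right
      exact le_antisymm h2 (map_le_iff_le_comap.2 h.ge)
  · rintro _ ⟨β, hβ, rfl⟩
    obtain ⟨γ, hγ, x, hx, rfl⟩ := c.decU β hβ
    refine ⟨α * γ * α⁻¹, ⟨m2.2 hγ.1, m2.2 hγ.2⟩, α x, m1.2 hx, ?_⟩
    rw [m4]
    change α * (γ * MulAut.conj x) * α⁻¹ = _
    group
  · rintro _ ⟨β, hβ, rfl⟩
    obtain ⟨γ, hγ, x, hx, rfl⟩ := c.decV β hβ
    refine ⟨α * γ * α⁻¹, ⟨m2.2 hγ.1, m2.2 hγ.2⟩, α x, m1.2 hx, ?_⟩
    rw [m4]
    change α * (γ * MulAut.conj x) * α⁻¹ = _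
    group

end Cf

end Cfsg.Agent.SM.O8
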