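import Cfsg.Agent.SM.O8.ExtA
import Cfsg.Agent.H198.SympGamma
import Cfsg.Agent.ClassicalGeometry.OrthDickson
import Cfsg.Agent.ClassicalGeometry.SympBasic
import Cfsg.Agent.S0270

/-!
# SM (S3570), `PΩ⁺₈(q)`, box `Ext`: the stabiliser of a nonsingular vector for even `q` (helper40)
-/

set_option autoImplicit false
set_option linter.unusedSectionVars false

namespace Cfsg.Agent.SM.O8.Ext

open Cfsg QuadraticMap Matrix Cfsg.Agent.H886.O8R Cfsg.Agent.H198.Carriers Cfsg.Agent.H198.OrthFrame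
open Cfsg.Agent.ClassicalGeometry.OrthSemi Cfsg.Agent.LieClassical.OrthTrans Cfsg.Agent.LieClassical.OrthFinite
open Cfsg.Agent.ClassicalGeometry

variable {F : Type} [Field F] [Fintype F]

theorem polar_c8 (u u' : J6 → F) (a b a' b' : F) :
    polar (quadFormPlus 4 F) (c8 F (u, a, b)) (c8 F (u', a', b')) =
      a * b' + a' * b + polar (quadFormPlus 3 F) u u' := by
  unfold polar
  rw [← map_add, Prod.mk_add_mk, Prod.mk_add_mk, Q_c8, Q_c8, Q_c8]
  ring

theorem polar6 (h2 : (2 : F) = 0) (u u' : J6 → F) : polar (quadFormPlus 3 F) u u' = sympForm 3 F u u' := by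
  rw [SympBasic.sympForm_eq_sum]
  unfold polar quadFormPlus
  rw [← Finset.sum_sub_distrib, ← Finset.sum_sub_distrib]
  refine Finset.sum_congr rfl fun i _ => ?_
  simp only [Pi.add_apply]
  linear_combination (u (.inl i) * u' (.inr i)) * h2

theorem polar_om (x : Omega F (quadFormPlus 4 F)) (y y' : J8 → F) :
    polar (quadFormPlus 4 F) (om F x y) (om F x y') = polar (quadFormPlus 4 F) y y' := by
  unfold polar
  rw [← map_add, Q_om, Q_om, Q_om]

theorem v0_two (h2 : (2 : F) = 0) : v0 F = c8 F (0, 1, 1) := by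
  rw [v0, show (-1 : F) = 1 by linear_combination -h2]

/-- the action on `v₀^⊥ / v₀` -/
noncomputable def thL (x : Omega F (quadFormPlus 4 F)) : (J6 → F) →ₗ[F] (J6 → F) :=
  (LinearMap.fst F _ _).comp (((c8 F).symm.toLinearMap.comp (om F x).toLinearMap).comp
    ((c8 F).toLinearMap.comp (LinearMap.inl F _ _)))

theorem om_c8 (h2 : (2 : F) = 0) (x : Xw (v0 F)) (u : J6 → F) (a : F) :
    ∃ b, om F x (c8 F (u, a, a)) = c8 F (thL x.1 u, b, b) := by
  have hx : om F x (c8 F (0, 1, 1)) = c8 F (0, 1, 1) := by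
    rw [← v0_two h2]
    exact x.2
  obtain ⟨⟨u', b, b'⟩, h⟩ := (c8 F).surjective (om F x (c8 F (u, 0, 0)))
  have h1 : thL x.1 u = u' := by
    show ((c8 F).symm (om F x (c8 F (u, 0, 0)))).1 = u'
    rw [← h, LinearEquiv.symm_apply_apply]
  have h3 := polar_om x.1 (c8 F (u, 0, 0)) (c8 F (0, 1, 1))
  rw [hx, ← h, polar_c8, polar_c8, polar6 h2, polar6 h2] at h3
  have h4 : ∀ w : J6 → F, sympForm 3 F w 0 = 0 := fun w => by simp [sympForm]
  rw [h4, h4] at h3
  have h5 : b' = b := by linear_combination h3 - b * h2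
  refine ⟨b + a, ?_⟩
  have e : c8 F (u, a, a) = c8 F (u, 0, 0) + a • c8 F (0, 1, 1) := by
    rw [← map_smul, ← map_add]
    simp
  rw [e, map_add, map_smul, hx, ← h, h1, h5, ← map_smul, ← map_add]
  simp

theorem thL_mul (h2 : (2 : F) = 0) (x y : Xw (v0 F)) (u : J6 → F) : thL (x * y).1 u = thL x.1 (thL y.1 u) := by
  obtain ⟨b, hb⟩ := om_c8 h2 y u 0
  obtain ⟨b', hb'⟩ := om_c8 h2 x (thL y.1 u) b
  obtain ⟨b'', hb''⟩ := om_c8 h2 (x * y) u 0
  rw [Subgroup.coe_mul, map_mul, LinearEquiv.mul_apply, hb, hb'] at hb''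
  exact (congrArg Prod.fst ((c8 F).injective hb'')).symm

theorem thL_symp (h2 : (2 : F) = 0) (x : Xw (v0 F)) (u u' : J6 → F) :
    sympForm 3 F (thL x.1 u) (thL x.1 u') = sympForm 3 F u u' := by
  obtain ⟨b, hb⟩ := om_c8 h2 x u 0
  obtain ⟨b', hb'⟩ := om_c8 h2 x u' 0
  have h := polar_om x.1 (c8 F (u, 0, 0)) (c8 F (u', 0, 0))
  rw [hb, hb', polar_c8, polar_c8, polar6 h2, polar6 h2] at h
  linear_combination h - b * b' * h2

/-- the homomorphism to `Sp₆` -/
noncomputable def th (h2 : (2 : F) = 0) : Xw (v0 F) →* Matrix.symplecticGroup (Fin 3) F :=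
  MonoidHom.mk' (fun x => ⟨LinearMap.toMatrix' (thL x.1), SympBasic.mem_symplecticGroup_iff.2 fun u u' => by
    rw [LinearMap.toMatrix'_mulVec, LinearMap.toMatrix'_mulVec, thL_symp h2]⟩) fun x y => by
      apply Subtype.ext
      show LinearMap.toMatrix' (thL (x * y).1) = LinearMap.toMatrix' (thL x.1) * LinearMap.toMatrix' (thL y.1)
      rw [← LinearMap.toMatrix'_mul]
      exact congrArg _ (LinearMap.ext (thL_mul h2 x y))

theorem th_apply (h2 : (2 : F) = 0) (x : Xw (v0 F)) (u : J6 → F) :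
    (th h2 x : Matrix J6 J6 F) *ᵥ u = thL x.1 u := LinearMap.toMatrix'_mulVec _ _

theorem th_inj (h2 : (2 : F) = 0) : Function.Injective (th h2) := by
  rw [injective_iff_map_eq_one]
  intro x hx
  have h0 : ∀ u, thL x.1 u = u := fun u => by
    rw [← th_apply h2, hx]
    exact one_mulVec u
  have hv : om F x (c8 F (0, 1, 1)) = c8 F (0, 1, 1) := by
    rw [← v0_two h2]
    exact x.2
  have h1 : ∀ u, om F x (c8 F (u, 0, 0)) = c8 F (u, 0, 0) := fun u => by
    obtain ⟨b, hb⟩ := om_c8 h2 x u 0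
    have h3 := Q_om x.1 (c8 F (u, 0, 0))
    rw [hb, h0, Q_c8, Q_c8] at h3
    have h4 : b = 0 := mul_self_eq_zero.1 (by linear_combination h3)
    rw [hb, h0, h4]
  obtain ⟨⟨u', a', b'⟩, h⟩ := (c8 F).surjective (om F x (c8 F (0, 1, 0)))
  have z0 : ∀ w : J6 → F, sympForm 3 F 0 w = 0 := fun w => by simp [sympForm]
  have h3 : u' = 0 := SympBasic.eq_zero_of_forall_sympForm_right fun w => by
    have h4 := polar_om x.1 (c8 F (0, 1, 0)) (c8 F (w, 0, 0))
    rw [h1, ← h, polar_c8, polar_c8, polar6 h2, polar6 h2, z0] at h4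
    linear_combination h4
  subst h3
  have h4 : a' + b' = 1 := by
    have h5 := polar_om x.1 (c8 F (0, 1, 0)) (c8 F (0, 1, 1))
    rw [hv, ← h, polar_c8, polar_c8] at h5
    linear_combination h5
  have h5 : a' * b' = 0 := by
    have h6 := Q_om x.1 (c8 F (0, 1, 0))
    rw [← h, Q_c8, Q_c8] at h6
    linear_combination h6
  have h6 : ∀ u a b, om F x (c8 F (u, a, b)) = c8 F (u, b + (a - b) * a', b + (a - b) * b') := fun u a b => by
    have e : c8 F (u, a, b) = c8 F (u, 0, 0) + b • c8 F (0, 1, 1) + (a - b) • c8 F (0, 1, 0) := by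
      rw [← map_smul, ← map_smul, ← map_add, ← map_add]
      simp
    rw [e, map_add, map_add, map_smul, map_smul, h1, hv, ← h, ← map_smul, ← map_smul, ← map_add, ← map_add]
    simp
  rcases mul_eq_zero.1 h5 with h7 | h7
  · exfalso
    have hb : b' = 1 := by linear_combination h4 - h7
    have hQ : plusQ 4 F (v0 F) ≠ 0 := Q_v0_ne
    refine OrthDickson.refl_notMem_commutator (plusQ 4 F) (H198.Classes.polarBilin_nondegenerate (hG8 F).nondeg)
      (Or.inr (by decide)) (v0 F) hQ ?_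
    have e : Reflection.reflIso (plusQ 4 F) (v0 F) hQ = x.1.1 := OrthCharTwo.act_ext fun y => by
      obtain ⟨⟨u, a, b⟩, rfl⟩ := (c8 F).surjective y
      rw [OrthCharTwo.act_refl]
      refine Eq.trans ?_ (h6 u a b).symm
      have h8 : plusQ 4 F (v0 F) = -1 := Q_v0
      have h9 : polar (plusQ 4 F) (v0 F) (c8 F (u, a, b)) = b - a := by
        refine (polar_c8 0 u 1 (-1) a b).trans ?_
        rw [polar6 h2, z0]
        ring
      rw [h8, h9, v0, ← map_smul, ← map_sub, h7, hb]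
      congr 1
      refine Prod.ext (by simp) (Prod.ext ?_ ?_) <;> simp
    rw [e]
    exact x.1.2
  · have ha : a' = 1 := by linear_combination h4 - h7
    refine Subtype.ext (om_ext fun y => ?_)
    obtain ⟨⟨u, a, b⟩, rfl⟩ := (c8 F).surjective y
    rw [h6, h7, ha]
    simp

/-- **even characteristic** -/
theorem ex_even (h2 : (2 : F) = 0) : Ex (v0 F) := by
  have hg : Nat.gcd 2 (Fintype.card F - 1) = 1 := by
    have h1 : ringChar F = 2 := CharP.ringChar_of_prime_eq_zero Nat.prime_two (by exact_mod_cast h2)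
    have h3 := FiniteField.even_card_of_char_two h1
    have h4 := Fintype.one_lt_card (α := F)
    exact Nat.coprime_two_left.2 ⟨Fintype.card F / 2 - 1, by omega⟩
  have h3 : Nat.card (PSp 3 F) ≤ Nat.card (Xw (v0 F)) := by
    have h4 := card_Xw (Q_v0_ne (F := F))
    rw [hg, one_mul] at h4
    rw [h4]
    exact Nat.le_mul_of_pos_left _ Nat.card_pos
  have h4 : Nat.card (Matrix.symplecticGroup (Fin 3) F) = Nat.card (PSp 3 F) := by
    rw [Subgroup.card_eq_card_quotient_mul_card_subgroup (Subgroup.center (Matrix.symplecticGroup (Fin 3) F)),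
      S0246.result (F := F) rfl 3 (by norm_num), hg, mul_one]
  have h5 := Nat.card_le_card_of_injective _ (th_inj h2)
  have b1 : Function.Bijective (th h2) := (th_inj h2).bijective_of_nat_card_le (by omega)
  have b2 : Function.Bijective (QuotientGroup.mk' (Subgroup.center (Matrix.symplecticGroup (Fin 3) F))) :=
    (QuotientGroup.mk'_surjective _).bijective_of_nat_card_le h4.le
  let e1 := MulEquiv.ofBijective _ b1
  let e2 : Matrix.symplecticGroup (Fin 3) F ≃* PSp 3 F := MulEquiv.ofBijective _ b2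
  have hs : IsSimpleGroup (PSp 3 F) := S0270.result 3 (by norm_num) (by norm_num)
  refine ⟨(e1.trans e2).isSimpleGroup, by omega, fun γ => ?_⟩
  obtain ⟨A, σ, ⟨c, hc⟩, hA⟩ := H198.SympGamma.exists_pair (F := F) (m := 3) (by norm_num) (Or.inl le_rfl)
    (MulAut.congr (e1.trans e2) γ)
  obtain ⟨l, hl⟩ := OrthDickson.exists_sq_of_two h2 (c : F)
  have hl0 : l ≠ 0 := fun h => c.ne_zero (by rw [← hl, h, mul_zero])
  obtain ⟨x, hx⟩ := b1.2 ⟨l⁻¹ • (A : Matrix J6 J6 F), SympBasic.mem_symplecticGroup_iff.2 fun u u' => by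
    rw [smul_mulVec, smul_mulVec, SympBasic.sympForm_smul_left, SympBasic.sympForm_smul_right, hc, ← hl]
    field_simp⟩
  have hx' : ∀ u, thL x.1 u = l⁻¹ • ((A : Matrix J6 J6 F) *ᵥ u) := fun u => by
    rw [← th_apply h2, hx]
    exact smul_mulVec _ _ _
  have hM : IsSS (plusQ 4 F) σ 1 (perm x.1.1.1 σ) := isSS_perm one_ne_zero fun v => by
    rw [one_mul, coe_plusQ, mem_isometryGroup_iff.1 x.1.1.2]
    simp [quadFormPlus]
  let M : Gam (plusQ 4 F) := ⟨_, σ, 1, hM⟩
  have hM1 : ∀ u a b, M.1 (c8 F (u, a, b)) = om F x (c8 F (fun i => σ (u i), σ a, σ b)) := fun u a b => by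
    rw [← map_c8]
    rfl
  have hM2 : M.1 (v0 F) = v0 F := by
    rw [v0, hM1]
    simp only [Pi.zero_apply, map_zero, map_one, map_neg]
    exact x.2
  refine ⟨M, fun s y => ?_⟩
  obtain ⟨s', hs'⟩ := exists_conj (hG8 F) M s.1
  have hs1 : ∀ v, om F s' (M.1 v) = M.1 (om F s v) := hs'
  have hs2 : s' ∈ Xw (v0 F) := by
    have h6 := hs1 (v0 F)
    rw [mem_Xw.1 s.2, hM2] at h6
    exact h6
  have h6 := hA (th h2 s) (th h2 ⟨s', hs2⟩) (H198.SemiMat.eq_conj fun u => by
    obtain ⟨b1, e1⟩ := om_c8 h2 s u 0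
    obtain ⟨b2, e2⟩ := om_c8 h2 x (fun i => σ (thL s.1 u i)) (σ b1)
    obtain ⟨b3, e3⟩ := om_c8 h2 x (fun i => σ (u i)) (σ 0)
    obtain ⟨b4, e4⟩ := om_c8 h2 ⟨s', hs2⟩ (thL x.1 fun i => σ (u i)) b3
    have h7 := hs1 (c8 F (u, 0, 0))
    rw [e1, hM1, hM1, e2, e3, e4] at h7
    have h8 := congrArg Prod.fst ((c8 F).injective h7)
    simp only [hx', map_smul] at h8
    rw [th_apply, th_apply]
    exact smul_right_injective _ (inv_ne_zero hl0) h8)
  have h7 : γ s = ⟨s', hs2⟩ := by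
    have h8 : MulAut.congr (e1.trans e2) γ (e2 (e1 s)) = e2 (e1 ⟨s', hs2⟩) := h6
    have h9 : e2 (e1 (γ s)) = e2 (e1 ⟨s', hs2⟩) := by simpa using h8
    exact e1.injective (e2.injective h9)
  rw [h7]
  exact hs1 y

theorem ex_v0 (F : Type) [Field F] [Fintype F] : Ex (v0 F) := by
  by_cases h2 : (2 : F) = 0
  · exact ex_even h2
  · exact ex_odd h2

end Cfsg.Agent.SM.O8.Ext
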