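import Cfsg.Agent.SM.O8.Defs
import Cfsg.Agent.SM.O8.ExtB
import Cfsg.Agent.H886.O8R.OrdV
import Cfsg.Agent.S0790

/-!
# SM (S3570), `PΩ⁺₈(q)`, box `Ext`: the stabiliser of a nonsingular point (helper40)
-/

set_option autoImplicit false
set_option linter.unusedSectionVars false

namespace Cfsg.Agent.SM.O8

namespace Ext

open Cfsg Matrix Cfsg.Agent.H886.O8R Cfsg.Agent.H198.Carriers Cfsg.Agent.H198.OrthFrame
open Cfsg.Agent.ClassicalGeometry.OrthSemi
open Cfsg.Agent.H708.O8 (I8 T8)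
open Cfsg.Agent.H823.O8S (SW tp mem_SW)
open Cfsg.Agent.H884.El (lin)

variable {F : Type} [Field F] [Fintype F]

theorem exists_neg (F : Type) [Field F] [Fintype F] :
    ∃ z : Omega F (quadFormPlus 4 F), mkT F z = 1 ∧ ∀ v, om F z v = -v := by
  obtain ⟨g, hg, h⟩ := S0790.exists_of_even (F := F) 4 (by decide)
  have h1 : ∀ v, om F ⟨g, hg⟩ v = -v := fun v => by
    rw [om_apply]
    exact (congrArg (fun A => Matrix.mulVec A v) h).trans (by simp only [neg_mulVec, one_mulVec])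
  refine ⟨⟨g, hg⟩, (QuotientGroup.eq_one_iff _).2 (Subgroup.mem_center_iff.2 fun x => om_ext fun v => ?_), h1⟩
  rw [map_mul, map_mul, LinearEquiv.mul_apply, LinearEquiv.mul_apply, h1, h1, map_neg]

theorem mk_mem_St {W : Submodule F (I8 → F)} {s : Omega F (quadFormPlus 4 F)}
    (h : W.map (om F s).toLinearMap = W) : mkT F s ∈ St W := ⟨s, h, rfl⟩

theorem exists_of_mem_St {W : Submodule F (I8 → F)} {x : T8 F} (h : x ∈ St W) :
    ∃ s, mkT F s = x ∧ W.map (om F s).toLinearMap = W := by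
  obtain ⟨s, hs, rfl⟩ := h
  exact ⟨s, rfl, hs⟩

/-- the elements of the stabiliser of a nonsingular point -/
theorem mem_pt {v : I8 → F} (hv : quadFormPlus 4 F v ≠ 0) {x : T8 F} : x ∈ pt v ↔ ∃ s, om F s v = v ∧ mkT F s = x := by
  constructor
  · intro h
    obtain ⟨s, rfl, hs⟩ := exists_of_mem_St h
    have h2 : om F s v ∈ Submodule.span F {v} := by
      rw [← hs]
      exact Submodule.mem_map_of_mem (Submodule.mem_span_singleton_self v)
    obtain ⟨c, hc⟩ := Submodule.mem_span_singleton.1 h2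
    have h3 := Q_om s v
    rw [← hc, ← coe_QF, QuadraticMap.map_smul, smul_eq_mul, coe_QF] at h3
    have h4 : c * c = 1 := mul_right_cancel₀ hv (by rw [h3, one_mul])
    rcases mul_self_eq_one_iff.1 h4 with h5 | h5
    · exact ⟨s, by rw [← hc, h5, one_smul], rfl⟩
    · obtain ⟨z, hz, hz'⟩ := exists_neg F
      refine ⟨z * s, ?_, by rw [map_mul, hz, one_mul]⟩
      rw [map_mul, LinearEquiv.mul_apply, hz', ← hc, h5, neg_smul, one_smul, neg_neg]
  · rintro ⟨s, hs, rfl⟩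
    refine mk_mem_St ?_
    rw [Submodule.map_span, Set.image_singleton]
    exact congrArg (fun w => Submodule.span F {w}) hs

/-- the projection of the stabiliser of the vector -/
noncomputable def piT {v : I8 → F} (hv : quadFormPlus 4 F v ≠ 0) : Xw v →* pt v :=
  ((mkT F).comp (Xw v).subtype).codRestrict _ fun s => (mem_pt hv).2 ⟨s, s.2, rfl⟩

theorem piT_bij {v : I8 → F} (hv : quadFormPlus 4 F v ≠ 0) : Function.Bijective (piT hv) := by
  constructor
  · rw [injective_iff_map_eq_one]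
    intro s hs
    have h1 : mkT F s = 1 := congrArg Subtype.val hs
    rcases cen8 hv ((QuotientGroup.eq_one_iff _).1 h1) with h | h
    · exact Subtype.ext h
    · have h2 : -v = v := (h v).symm.trans s.2
      have h3 : (2 : F) = 0 := by
        by_contra h3
        have h4 : (2 : F) • v = 0 := by rw [two_smul, ← sub_neg_eq_add, h2, sub_self]
        rw [(smul_eq_zero.1 h4).resolve_left h3] at hv
        exact hv (by simp [quadFormPlus])
      refine Subtype.ext (om_ext fun w => (h w).trans ?_)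
      rw [OneMemClass.coe_one, map_one, neg_eq_iff_add_eq_zero, LinearEquiv.coe_one, id, ← two_smul F, h3, zero_smul]
  · rintro ⟨x, hx⟩
    obtain ⟨s, hs, rfl⟩ := (mem_pt hv).1 hx
    exact ⟨⟨s, hs⟩, rfl⟩

theorem ph_mk (M : Gam (plusQ 4 F)) {s s' : Omega F (quadFormPlus 4 F)} (h : ∀ y, om F s' (M.1 y) = M.1 (om F s y)) :
    ph F M (mkT F s) = mkT F s' := Phi_mk (hG8 F) M h

theorem exists_cj (M : Gam (plusQ 4 F)) (s : Omega F (quadFormPlus 4 F)) :
    ∃ s' : Omega F (quadFormPlus 4 F), ∀ y, om F s' (M.1 y) = M.1 (om F s y) := exists_conj (hG8 F) M s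

/-- the conclusion of the box -/
def Gd (K : Subgroup (T8 F)) : Prop := IsSimpleGroup K ∧ O7 (Nat.card F) (Nat.card K) ∧
  ∀ γ : MulAut K, ∃ β : MulAut (T8 F), ∀ x : K, β x = γ x

theorem gd_of {v : I8 → F} (hv : quadFormPlus 4 F v ≠ 0) (h : Ex v) : Gd (pt v) := by
  obtain ⟨h1, h2, h3⟩ := h
  let e := MulEquiv.ofBijective _ (piT_bij hv)
  refine ⟨e.symm.isSimpleGroup, ?_, fun γ => ?_⟩
  · rw [O7, ← Nat.card_congr e.toEquiv, h2, Nat.card_eq_fintype_card (α := F)]
    exact card_psp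
  · obtain ⟨M, hM⟩ := h3 (MulAut.congr e.symm γ)
    refine ⟨ph F M, fun x => ?_⟩
    obtain ⟨s, rfl⟩ := e.surjective x
    have h4 : γ (e s) = e (MulAut.congr e.symm γ s) := by simp
    rw [h4]
    exact ph_mk M (hM s)

theorem Gd.map {K : Subgroup (T8 F)} (h : Gd K) (α : MulAut (T8 F)) : Gd (im α K) := by
  obtain ⟨h1, h2, h3⟩ := h
  let e : K ≃* im α K := MulEquiv.subgroupMap α K
  refine ⟨e.symm.isSimpleGroup, by rwa [← Nat.card_congr e.toEquiv], fun γ => ?_⟩
  obtain ⟨β, hβ⟩ := h3 (MulAut.congr e.symm γ)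
  refine ⟨α * β * α⁻¹, fun x => ?_⟩
  obtain ⟨s, rfl⟩ := e.surjective x
  have h4 : γ (e s) = e (MulAut.congr e.symm γ s) := by simp
  rw [h4]
  show α (β (α.symm (α s))) = α _
  rw [MulEquiv.symm_apply_apply, hβ]

theorem ph_mem_pt (M : Gam (plusQ 4 F)) {v w : I8 → F} (hv : quadFormPlus 4 F v ≠ 0) (hw : quadFormPlus 4 F w ≠ 0)
    (h : M.1 v = w) {x : T8 F} (hx : x ∈ pt v) : ph F M x ∈ pt w := by
  obtain ⟨s, hs, rfl⟩ := (mem_pt hv).1 hx
  obtain ⟨s', hs'⟩ := exists_cj M s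
  exact (mem_pt hw).2 ⟨s', by rw [← h, hs', hs], (ph_mk M hs').symm⟩

theorem im_pt (M : Gam (plusQ 4 F)) {v w : I8 → F} (hv : quadFormPlus 4 F v ≠ 0) (hw : quadFormPlus 4 F w ≠ 0)
    (h : M.1 v = w) : im (ph F M) (pt v) = pt w := by
  apply le_antisymm
  · rintro _ ⟨x, hx, rfl⟩
    exact ph_mem_pt M hv hw h hx
  · intro x hx
    refine ⟨ph F M⁻¹ x, ph_mem_pt M⁻¹ hw hv (by rw [← h]; exact inv_apply _ _) hx, ?_⟩
    rw [map_inv]
    exact MulAut.apply_inv_self _ _ _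

/-- the semisimilarities are transitive on the nonsingular vectors -/
theorem exists_gam {v w : I8 → F} (hv : quadFormPlus 4 F v ≠ 0) (hw : quadFormPlus 4 F w ≠ 0) :
    ∃ M : Gam (plusQ 4 F), M.1 v = w := by
  obtain ⟨k, hk, -⟩ := exists_std_plusQ (hG8 F) (Units.mk0 (quadFormPlus 4 F w / quadFormPlus 4 F v) (div_ne_zero hw hv))
  have h1 : quadFormPlus 4 F ((simGam _ k).1 v) = quadFormPlus 4 F w := by
    have h2 := H198.ClassesPlus.mu_spec (hG8 F) k v
    rw [hk, coe_plusQ, Units.val_mk0, div_mul_cancel₀ _ hv] at h2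
    exact h2
  obtain ⟨x, hx⟩ := exists_map (v := w) (h1.symm ▸ hw) h1.symm
  exact ⟨simGam _ (omSim (plusQ 4 F) x) * simGam _ k, hx⟩

end Ext

/-- **the stabiliser of a nonsingular point** -/
theorem boxExt : BoxExt := fun F _ _ v hv => by
  obtain ⟨M, hM⟩ := Ext.exists_gam Ext.Q_v0_ne hv
  have h := (Ext.gd_of Ext.Q_v0_ne (Ext.ex_v0 F)).map (ph F M)
  rw [Ext.im_pt M Ext.Q_v0_ne hv hM] at h
  exact h

end Cfsg.Agent.SM.O8
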