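import Cfsg.Agent.SM.O8.Base
import Cfsg.Agent.SM.O8.Cf
import Cfsg.Agent.SM.O8.Ext
import Cfsg.Agent.H587.KB8.Geo

/-!
# SM, `S = PΩ⁺₈(q)`: the canonical subspace `Fx` of a factor (helper39)

* `St_ne_top`, `canX`, `canY`.
-/

set_option autoImplicit false
set_option linter.unusedSectionVars false

namespace Cfsg.Agent.SM.O8

open Module QuadraticMap Cfsg Cfsg.Geo Cfsg.Agent.LieClassical.OrthCore Cfsg.Agent.LieClassical.OrthTrans
open Cfsg.Agent.H951 (fx cm mem_fx)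
open Cfsg.Agent.H884.El (lin PP Iso)
open Cfsg.Agent.H708.O8 (I8 T8)
open Cfsg.Agent.H823.O8S (mk8 gl8 mk8_eq_one)
open Cfsg.Agent.H198.Carriers (plusQ plusQ_eq)
open Cfsg.Agent.H955 (perp res IsPlus mem_perp mem_perp' nondeg_res_iff finrank_add_perp)
open Cfsg.Agent.ClassicalGeometry.OrthSemi (Gam)
open Cfsg.Agent.AutOrth.Main (oe)

variable {F : Type} [Field F] [Fintype F]

namespace Can

theorem dim8 : finrank F (I8 → F) = 8 := by
  rw [Module.finrank_fintype_fun_eq_card, Fintype.card_sum, Fintype.card_fin]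

theorem exE {g : (I8 → F) ≃ₗ[F] (I8 → F)} (hg : g ∈ E (plusQ 4 F)) : ∃ y : Om F, ∀ v, ln y v = g v :=
  ⟨(oe good8).symm ⟨g, hg⟩, fun v =>
    (H708.Rg.oe_lin good8 ((oe good8).symm ⟨g, hg⟩) v).symm.trans (by rw [MulEquiv.apply_symm_apply])⟩

theorem exists_val_one {V : Type} [AddCommGroup V] [Module F V] {Q : QuadraticForm F V} (hG : Good Q) {u : V} (hu : u ≠ 0)
    (c : F) : ∃ b, Q b = c ∧ polar Q u b = 1 := by
  obtain ⟨x, y, hxy⟩ := hG.exists_hyp
  obtain ⟨e, f, h, hef⟩ := exists_hyp_decomp hG.nondeg hxy hu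
  obtain ⟨z, w, hzw, h1, h2, h3, h4⟩ := hG.exists_hyp2 h
  refine ⟨f + (z + c • w), ?_, ?_⟩
  · rw [Q_add, Q_add, QuadraticMap.map_smul, polar_add_right, polar_smul_right, polar_smul_right, h.right, hzw.left,
      hzw.right, hzw.pair, h3, h4]
    simp
  · rw [hef]
    simp only [polar_add_left, polar_smul_left, polar_add_right, polar_smul_right, h.pair, h.polar_right, h1, h2, h3, h4]
    simp

theorem ln_pow (y : Om F) (n : ℕ) : ln (y ^ n) = ln y ^ n := by
  induction n with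
  | zero => exact LinearMap.ext fun v => by rw [pow_zero, pow_zero, ln_one]; rfl
  | succ n ih => exact LinearMap.ext fun v => by rw [pow_succ, pow_succ, ln_mul, ih]; rfl

/-- the fixed space of an element of order `r₄` -/
theorem fx_four {r : ℕ} (hr : PP (Nat.card F) 4 r) {y : Om F} (hy : y ^ r = 1) (h1 : y ≠ 1) (h0 : fx (ln y) ≠ ⊥) :
    finrank F (fx (ln y)) = 4 ∧ Nondeg (res (plusQ 4 F) (fx (ln y))) ∧ ¬ IsPlus (res (plusQ 4 F) (fx (ln y))) := by
  have := Fact.mk hr.prime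
  have h : Iso (plusQ 4 F) (ln y) r := Iso.mk' hr (by norm_num)
    (by rw [← ln_pow, hy]; exact LinearMap.ext ln_one) (Q_ln y)
  have h2 : 4 ∣ finrank F (cm (ln y)) := h.dvd_cm hr
  have h3 : finrank F (fx (ln y)) + finrank F (cm (ln y)) = 8 := h.finrank_add.trans dim8
  have h4 : finrank F (cm (ln y)) ≠ 0 := fun e => H884.El.cm_ne_bot
    (fun k => h1 (om_ext fun v => by rw [k, ln_one]; rfl)) (Submodule.finrank_eq_zero.1 e)
  have h5 : finrank F (fx (ln y)) ≠ 0 := fun e => h0 (Submodule.finrank_eq_zero.1 e)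
  have h6 : finrank F (cm (ln y)) = 4 * 1 := by omega
  refine ⟨by omega, H954.TSing.nondeg_fx good8.nondeg h.iso h.ne0 h.pow, ?_⟩
  rw [H954.TSing.isPlus_fx_iff h.two_lt good8.nondeg (by rw [dim8]; decide) h.iso h.ne0 h.pow (H884.El.ord_eq hr)
    (by decide) h6]
  have h7 : IsPlus (plusQ 4 F) := by
    rw [plusQ_eq]
    exact H955.isPlus_plus 4
  exact fun k => absurd (k.1 h7) (by decide)

theorem Fx_le {r : ℕ} {R : Subgroup (T8 F)} {y : Om F} (h : mk8 F y ∈ R) (hy : y ^ r = 1) : Fx r R ≤ fx (ln y) :=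
  fun _ hv => mem_fx.2 (mem_Fx.1 hv y h hy)

theorem Fx_ne_top {r : ℕ} (hr : PP (Nat.card F) 4 r) {R : Subgroup (T8 F)} (hd : r ∣ Nat.card R) : Fx r R ≠ ⊤ := fun e => by
  obtain ⟨y, hy, h1, h2⟩ := exists_elt hr.prime (hr.odd (by norm_num)) hd
  have h3 : y = 1 := om_ext fun v => by
    rw [ln_one]
    exact mem_fx.1 (Fx_le hy h1 (e ▸ Submodule.mem_top))
  exact h2 (by rw [h3, map_one])

theorem exists_gam {r : ℕ} (hr : PP (Nat.card F) 4 r) {R : Subgroup (T8 F)} (hd : r ∣ Nat.card R) (hs : Fx r R ≠ ⊥)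
    {β : MulAut (T8 F)} (hβ : ∀ x ∈ R, β x ∈ R) : ∃ M : Gam (plusQ 4 F), ph F M = β ∧ ∀ u ∈ Fx r R, M.1 u ∈ Fx r R := by
  have h1 : im β R = R := Subgroup.eq_of_le_of_card_ge (Subgroup.map_le_iff_le_comap.2 hβ) (card_im _ _).ge
  obtain ⟨M, rfl⟩ := nt_of_fx hr hd hs (β := β) (by rwa [h1])
  exact ⟨M, rfl, fun u hu => Fx_inv hβ hu⟩

theorem iv_St {r : ℕ} (hr : PP (Nat.card F) 4 r) {R : Subgroup (T8 F)} (hd : r ∣ Nat.card R) (hs : Fx r R ≠ ⊥)
    {U : Subgroup (MulAut (T8 F))} (h : Iv U R) : Iv U (St (Fx r R)) := fun β hβ x hx => by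
  obtain ⟨M, rfl, hM⟩ := exists_gam hr hd hs (h β hβ)
  exact ph_St hM hx

/-- the elements which fix `W` pointwise -/
def Pw (W : Submodule F (I8 → F)) : Subgroup (Om F) where
  carrier := {y | ∀ w ∈ W, ln y w = w}
  one_mem' := fun w _ => ln_one w
  mul_mem' := fun {a b} ha hb w hw => by rw [ln_mul, hb w hw, ha w hw]
  inv_mem' := fun {a} ha w hw => by
    conv_lhs => rw [← ha w hw]
    exact ln_inv_apply a w

/-- the Siegel transformations at `u` -/
def Sg {u : I8 → F} (hu : plusQ 4 F u = 0) : Subgroup (Om F) where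
  carrier := {y | ∃ w, polar (plusQ 4 F) u w = 0 ∧ ∀ v, ln y v = siegelLin (plusQ 4 F) u w v}
  one_mem' := ⟨0, polar_zero_right _ _, fun v => by rw [ln_one, siegelLin_apply]; simp⟩
  mul_mem' := by
    rintro a b ⟨w, hw, ha⟩ ⟨w', hw', hb⟩
    exact ⟨w + w', by rw [polar_add_right, hw, hw', add_zero], fun v => by rw [ln_mul, hb, ha, siegelLin_comp hu hw hw']⟩
  inv_mem' := by
    rintro a ⟨w, hw, ha⟩
    have hw' : polar (plusQ 4 F) u (-w) = 0 := by rw [polar_neg_right, hw, neg_zero]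
    refine ⟨-w, hw', fun v => ln_injective a ?_⟩
    rw [ln_apply_inv, ha, siegelLin_comp hu hw hw', add_neg_cancel, siegelLin_apply]
    simp

variable {X Y : Subgroup (T8 F)} {U V : Subgroup (MulAut (T8 F))}

theorem fixes {r : ℕ} (hr : PP (Nat.card F) 4 r) (c : Cf X Y U V) (hd : r ∣ Nat.card X) {x : T8 F} (hx : x ∈ X) :
    ∃ y : Om F, mk8 F y = x ∧ ∀ w ∈ Fx r X, ln y w = w := by
  obtain ⟨y, hy, h1, h2⟩ := exists_elt hr.prime (hr.odd (by norm_num)) hd
  have h3 : X ⊓ (Pw (Fx r X)).map (mk8 F) = X := by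
    refine c.eq_of_conj inf_le_left (fun e => h2 ?_) ?_
    · have h4 : mk8 F y ∈ X ⊓ (Pw (Fx r X)).map (mk8 F) := ⟨hy, y, fun w hw => mem_Fx.1 hw y hy h1, rfl⟩
      rwa [e, Subgroup.mem_bot] at h4
    · rintro g hg _ ⟨he, z, hz, rfl⟩
      refine ⟨X.mul_mem (X.mul_mem hg he) (X.inv_mem hg), ?_⟩
      obtain ⟨g, rfl⟩ := mk8_surjective g
      refine ⟨g * z * g⁻¹, fun w hw => ?_, by rw [map_mul, map_mul, map_inv]⟩
      have h4 : ln g⁻¹ w ∈ Fx r X := mem_St.1 (le_St_Fx r X (by rw [map_inv]; exact inv_mem hg)) w hw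
      rw [ln_mul, ln_mul, hz _ h4, ln_apply_inv]
  obtain ⟨z, hz, e⟩ := (h3.ge hx).2
  exact ⟨z, e, hz⟩

/-- the canonical subspace of `X` is not totally singular -/
theorem not_ts (c : Cf X Y U V) {W : Submodule F (I8 → F)} (h0 : W ≠ ⊥) (hU : ∀ d ∈ St W, MulAut.conj d ∈ U)
    (hf : ∀ x ∈ X, ∃ y : Om F, mk8 F y = x ∧ ∀ w ∈ W, ln y w = w) : ∃ a ∈ W, plusQ 4 F a ≠ 0 := by
  by_contra hc
  push Not at hc
  obtain ⟨u, huW, hu0⟩ := (Submodule.ne_bot_iff W).1 h0
  have hu := hc u huW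
  have h1 : X ≤ (Sg hu).map (mk8 F) := by
    refine c.minU _ (fun e => ?_) ?_ ?_
    · obtain ⟨u', h⟩ := exists_hyp good8.nondeg hu hu0
      obtain ⟨w, hw0, -, h2, h3⟩ := good8.perp u u' h
      obtain ⟨y, hy⟩ := exE (siegel_mem_E hu h2)
      have h4 : mk8 F y ∈ (Sg hu).map (mk8 F) := ⟨y, ⟨w, h2, hy⟩, rfl⟩
      rw [e, Subgroup.mem_bot] at h4
      obtain ⟨t, ht⟩ := mk8_eq_one h4
      have h5 : t • u = u := by
        rw [← ht u]
        refine (hy u).trans ?_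
        rw [siegel_apply, h.polar_left, polar_comm _ w u, h2]
        simp
      have h6 : t = 1 := smul_left_injective F hu0 (h5.trans (one_smul F u).symm)
      have h7 := (hy u').symm.trans (ht u')
      have h8 := congrArg (polar (plusQ 4 F) u') h7
      rw [siegel_apply, h.pair, polar_comm _ w u', h3, h6] at h7 h8
      simp only [polar_sub_right, polar_add_right, polar_smul_right, h.polar_right, h.pair', h3, smul_eq_mul] at h8
      have h9 : plusQ 4 F w = 0 := by linear_combination -h8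
      rw [h9] at h7
      exact hw0 (by simpa using h7)
    · rintro _ ⟨y, ⟨w, hw, hy⟩, rfl⟩
      refine hU _ (mem_St.2 fun x hx => ?_)
      have h2 := Q_add (Q := plusQ 4 F) u x
      rw [hc _ (W.add_mem huW hx), hu, hc x hx, zero_add, zero_add] at h2
      rw [hy, siegelLin_apply, ← h2, zero_smul, add_zero]
      exact W.sub_mem (W.sub_mem hx (W.smul_mem _ huW)) (W.smul_mem _ huW)
    · rintro x hx _ ⟨y, ⟨w, hw, hy⟩, rfl⟩
      obtain ⟨g, rfl, hg⟩ := hf x hx
      have h2 : ∀ a b, polar (plusQ 4 F) (ln g a) (ln g b) = polar (plusQ 4 F) a b := polar_ln g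
      have h3 : plusQ 4 F (ln g w) = plusQ 4 F w := Q_ln g w
      have h4 := hg u huW
      refine ⟨g * y * g⁻¹, ⟨ln g w, by rw [← h4, h2, hw], fun v => ?_⟩, by rw [map_mul, map_mul, map_inv]⟩
      have h5 : polar (plusQ 4 F) u (ln g⁻¹ v) = polar (plusQ 4 F) u v := by rw [← h2, h4, ln_apply_inv]
      have h6 : polar (plusQ 4 F) w (ln g⁻¹ v) = polar (plusQ 4 F) (ln g w) v := by rw [← h2, ln_apply_inv]
      rw [ln_mul, ln_mul, hy, siegelLin_apply, siegelLin_apply, h5, h6, h3]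
      simp only [map_add, map_sub, map_smul, h4, ln_apply_inv]
  refine c.nab ⟨⟨fun a b => Subtype.ext ?_⟩⟩
  obtain ⟨y, ⟨w, hw, hy⟩, e⟩ := h1 a.2
  obtain ⟨y', ⟨w', hw', hy'⟩, e'⟩ := h1 b.2
  change (a : T8 F) * b = b * a
  rw [← e, ← e', ← map_mul, ← map_mul]
  refine congrArg _ (om_ext fun v => ?_)
  rw [ln_mul, ln_mul, hy, hy', hy, hy', siegelLin_comp hu hw hw', siegelLin_comp hu hw' hw, add_comm]

theorem prop (c : Cf X Y U V) {W : Submodule F (I8 → F)}
    (hf : ∀ x ∈ X, ∃ y : Om F, mk8 F y = x ∧ ∀ w ∈ W, ln y w = w) {a b : I8 → F} (ha : a ∈ W) (hb : b ∈ W)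
    (ha0 : plusQ 4 F a ≠ 0) (hb0 : plusQ 4 F b ≠ 0) (hs : IsSquare (plusQ 4 F a * plusQ 4 F b)) : ∃ t : F, b = t • a := by
  obtain ⟨s, hs⟩ := hs
  have h1 : plusQ 4 F ((s / plusQ 4 F a) • a) = plusQ 4 F b := by
    rw [QuadraticMap.map_smul, smul_eq_mul]
    field_simp
    linear_combination -hs
  suffices key : ∀ a ∈ W, plusQ 4 F a = plusQ 4 F b → ∃ t : F, b = t • a by
    obtain ⟨t, ht⟩ := key _ (W.smul_mem _ ha) h1
    exact ⟨t * (s / plusQ 4 F a), by rw [mul_smul, ← ht]⟩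
  intro a ha h2
  have ha0 : plusQ 4 F a ≠ 0 := h2 ▸ hb0
  obtain ⟨z, hz⟩ := exE (good8.refl_mul_refl_mem ha0 hb0 h2)
  have h3 : mk8 F z = 1 := c.cen _ fun x hx => by
    obtain ⟨g, rfl, hg⟩ := hf x hx
    have h4 : ∀ (d : I8 → F) (hd : plusQ 4 F d ≠ 0), d ∈ W → ∀ v,
        refl (plusQ 4 F) d hd (ln g v) = ln g (refl (plusQ 4 F) d hd v) := fun d hd hW v => by
      have h5 : polar (plusQ 4 F) (ln g d) (ln g v) = polar (plusQ 4 F) d v := polar_ln g d v
      rw [hg d hW] at h5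
      rw [refl_apply, refl_apply, map_sub, map_smul, hg d hW, h5]
    rw [← map_mul, ← map_mul]
    refine congrArg _ (om_ext fun v => ?_)
    rw [ln_mul, ln_mul, hz, hz, LinearEquiv.mul_apply, LinearEquiv.mul_apply, h4 a ha0 ha, h4 b hb0 hb]
  obtain ⟨e, he⟩ := mk8_eq_one h3
  obtain ⟨v, hv0, hv⟩ := exists_perp_ne (Q := plusQ 4 F) ![a, b] (by rw [dim8]; norm_num)
  have h4 : polar (plusQ 4 F) a v = 0 := hv 0
  have h5 : polar (plusQ 4 F) b v = 0 := hv 1
  have h6 : e = 1 := smul_left_injective F hv0 (by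
    have h7 := (hz v).symm.trans (he v)
    rw [LinearEquiv.mul_apply, refl_apply ha0, h4, mul_zero, zero_smul, sub_zero, refl_apply, h5, mul_zero, zero_smul,
      sub_zero] at h7
    exact h7.symm.trans (one_smul F v).symm)
  obtain ⟨x, hx⟩ := good8.nondeg.exists_polar_eq (x := b) (fun k => hb0 (by rw [k, QuadraticMap.map_zero])) (plusQ 4 F b)
  have h7 := (hz (refl (plusQ 4 F) a ha0 x)).symm.trans (he _)
  rw [LinearEquiv.mul_apply, h6, one_smul, ← LinearEquiv.mul_apply (refl (plusQ 4 F) a ha0), refl_mul_self,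
    LinearEquiv.coe_one, id, refl_apply, refl_apply, hx, inv_mul_cancel₀ hb0, one_smul] at h7
  exact ⟨_, sub_right_injective h7⟩

theorem sq_of {x y : F} (hx : ¬ IsSquare x) (hy : ¬ IsSquare y) : IsSquare (x * y) := by
  classical
  have h0 : ∀ {z : F}, ¬ IsSquare z → z ≠ 0 := fun h e => h (e ▸ IsSquare.zero)
  rw [← quadraticChar_one_iff_isSquare (mul_ne_zero (h0 hx) (h0 hy)), map_mul,
    quadraticChar_neg_one_iff_not_isSquare.2 hx, quadraticChar_neg_one_iff_not_isSquare.2 hy]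
  norm_num

open Polynomial in
theorem line (h4 : 4 ≤ Nat.card F) {W : Submodule F (I8 → F)}
    (h : ∀ a ∈ W, ∀ b ∈ W, plusQ 4 F a ≠ 0 → plusQ 4 F b ≠ 0 → IsSquare (plusQ 4 F a * plusQ 4 F b) → ∃ t : F, b = t • a)
    {a : I8 → F} (ha : a ∈ W) (ha0 : plusQ 4 F a ≠ 0) : W = Submodule.span F {a} := by
  classical
  refine le_antisymm (fun d hd => by_contra fun hda => ?_) ((Submodule.span_singleton_le_iff_mem _ _).2 ha)
  have hm : ∀ t : F, d + t • a ∈ W := fun t => W.add_mem hd (W.smul_mem t ha)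
  have h1 : ∀ t : F, plusQ 4 F (d + t • a) ≠ 0 → ¬ IsSquare (plusQ 4 F a * plusQ 4 F (d + t • a)) := fun t ht hs => by
    obtain ⟨s, e⟩ := h a ha _ (hm t) ha0 ht hs
    exact hda (Submodule.mem_span_singleton.2 ⟨s - t, by rw [sub_smul, ← e, add_sub_cancel_right]⟩)
  have h2 : (Finset.univ.filter fun t : F => ¬ plusQ 4 F (d + t • a) = 0).card ≤ 1 := by
    refine Finset.card_le_one.2 fun t ht t' ht' => ?_
    rw [Finset.mem_filter] at ht ht'
    obtain ⟨k, hk⟩ := sq_of (h1 t ht.2) (h1 t' ht'.2)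
    obtain ⟨s, e⟩ := h _ (hm t) _ (hm t') ht.2 ht'.2 ⟨k / plusQ 4 F a, by
      field_simp
      linear_combination hk⟩
    by_cases hs : s = 1
    · rw [hs, one_smul, add_right_inj] at e
      exact smul_left_injective F (fun k : a = 0 => ha0 (by rw [k, QuadraticMap.map_zero])) e.symm
    · refine absurd (Submodule.mem_span_singleton.2 ⟨(1 - s)⁻¹ * (s * t - t'), ?_⟩) hda
      have h3 : (s * t - t') • a = (1 - s) • d := by
        have h5 : (s * t - t') • a = (1 - s) • d - ((d + t' • a) - s • (d + t • a)) := by module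
        rw [h5, ← e, sub_self, sub_zero]
      rw [mul_smul, h3, smul_smul, inv_mul_cancel₀ (sub_ne_zero.2 (Ne.symm hs)), one_smul]
  let p : F[X] := C (plusQ 4 F a) * X ^ 2 + C (polar (plusQ 4 F) d a) * X + C (plusQ 4 F d)
  have h3 : p.natDegree = 2 := natDegree_quadratic ha0
  have h5 : p ≠ 0 := fun e => by
    rw [e, natDegree_zero] at h3
    omega
  have h6 : (Finset.univ.filter fun t : F => plusQ 4 F (d + t • a) = 0).card ≤ 2 := by
    refine le_trans (Finset.card_le_card (t := p.roots.toFinset) fun t ht => ?_)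
      ((Multiset.toFinset_card_le _).trans (h3 ▸ card_roots' p))
    rw [Finset.mem_filter, Q_add, QuadraticMap.map_smul, polar_smul_right] at ht
    rw [Multiset.mem_toFinset, mem_roots h5, IsRoot.def]
    simp only [p, eval_add, eval_mul, eval_C, eval_pow, eval_X]
    have h7 := ht.2
    simp only [smul_eq_mul] at h7
    linear_combination h7
  have h7 := Finset.card_filter_add_card_filter_not (s := Finset.univ) fun t : F => plusQ 4 F (d + t • a) = 0
  rw [Finset.card_univ, ← Nat.card_eq_fintype_card] at h7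
  omega

end Can

open Can

theorem St_ne_top {W : Submodule F (I8 → F)} (h0 : W ≠ ⊥) (h1 : W ≠ ⊤) : St W ≠ ⊤ := fun e => by
  obtain ⟨w, hw, hw0⟩ := (Submodule.ne_bot_iff W).1 h0
  have h2 : perp (plusQ 4 F) W = ⊥ := (Submodule.eq_bot_iff _).2 fun u hu => by_contra fun hu0 => by
    obtain ⟨b, hb, h3⟩ := exists_val_one good8 hu0 (plusQ 4 F w)
    have hb0 : b ≠ 0 := by
      rintro rfl
      rw [polar_zero_right] at h3
      exact zero_ne_one h3
    obtain ⟨g, hg, h4⟩ := good8.trans_norm hw0 hb0 hb.symm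
    obtain ⟨y, hy⟩ := exE hg
    have h5 : ln y w ∈ W := mem_St.1 (e ▸ Subgroup.mem_top _) w hw
    rw [hy, h4] at h5
    rw [mem_perp'.1 hu b h5] at h3
    exact zero_ne_one h3
  have h3 := finrank_add_perp (good8 (F := F)).nondeg W
  rw [h2, finrank_bot, add_zero] at h3
  exact h1 (Submodule.eq_top_of_finrank_eq h3)

variable {X Y : Subgroup (T8 F)} {U V : Subgroup (MulAut (T8 F))} {r : ℕ}

/-- **the simple factor with a canonical subspace is the stabiliser of a non-singular point** -/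
theorem canX (h4 : 4 ≤ Nat.card F) (hr : PP (Nat.card F) 4 r) (c : Cf X Y U V) (hd : r ∣ Nat.card X) (hs : Fx r X ≠ ⊥) :
    ∃ v, quadFormPlus 4 F v ≠ 0 ∧ X = pt v ∧
      ∀ β ∈ U, ∃ M : Gam (plusQ 4 F), ph F M = β ∧ M.1 v ∈ Submodule.span F {v} := by
  have hU := c.maxU _ (St_ne_top hs (Fx_ne_top hr hd)) (iv_St hr hd hs c.uX)
  have hf := fun x hx => fixes hr c hd (x := x) hx
  obtain ⟨a, ha, ha0⟩ := not_ts c hs hU hf
  have hW := line h4 (fun a ha b hb => prop c hf ha hb) ha ha0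
  refine ⟨a, ha0, ?_, fun β hβ => ?_⟩
  · have h1 : X ≤ pt a := by
      have h2 := le_St_Fx r X
      rwa [hW] at h2
    rw [hW] at hU
    have := (boxExt F a ha0).1
    have h2 : (X.subgroupOf (pt a)).Normal := ⟨fun x hx g => c.uX _ (hU g g.2) _ hx⟩
    rcases h2.eq_bot_or_eq_top with h3 | h3
    · refine absurd (eq_bot_iff.2 fun x hx => ?_) c.ne_bot
      have h5 : (⟨x, h1 hx⟩ : pt a) ∈ X.subgroupOf (pt a) := hx
      rw [h3, Subgroup.mem_bot] at h5
      exact congrArg Subtype.val h5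
    · exact le_antisymm h1 (Subgroup.subgroupOf_eq_top.1 h3)
  · obtain ⟨M, h1, h2⟩ := exists_gam hr hd hs (c.uX β hβ)
    exact ⟨M, h1, hW ▸ h2 a ha⟩

/-- **the point stabiliser with a canonical subspace is the stabiliser of that subspace** -/
theorem canY (hr : PP (Nat.card F) 4 r) (c : Cf X Y U V) (hd : r ∣ Nat.card Y) (hs : Fx r Y ≠ ⊥) :
    Y = St (Fx r Y) ∧ finrank F (Fx r Y) ≤ 3 ∧ (2 ≤ finrank F (Fx r Y) → ∃ y ∈ Fx r Y, quadFormPlus 4 F y ≠ 0) ∧
      ∀ β ∈ V, ∃ M : Gam (plusQ 4 F), ph F M = β ∧ ∀ u ∈ Fx r Y, M.1 u ∈ Fx r Y := by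
  have := Fact.mk hr.prime
  have hodd := hr.odd (by norm_num)
  have h1 : St (Fx r Y) ≤ Y := c.maxV _ (St_ne_top hs (Fx_ne_top hr hd)) (iv_St hr hd hs c.vY)
  obtain ⟨y, hy, h2, h3⟩ := exists_elt hr.prime hodd hd
  have h4 := Fx_le hy h2
  obtain ⟨h5, h6, h7⟩ := fx_four hr h2 (fun e => h3 (by rw [e, map_one])) fun e => hs (eq_bot_iff.2 (e ▸ h4))
  refine ⟨le_antisymm (le_St_Fx r Y) h1, ?_, fun h8 => ?_, fun β hβ => exists_gam hr hd hs (c.vY β hβ)⟩
  · by_contra h8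
    have h9 : Fx r Y = fx (ln y) := Submodule.eq_of_le_of_finrank_le h4 (by omega)
    have h10 : H955.cc (Nat.card F) r = 4 := by
      rw [H955.cc, hr.ord, if_pos (by decide)]
    obtain ⟨T, hT, hTr, h11, h12⟩ := H955.exists_comS_eq (r := r) (by have := hr.lt (by norm_num); omega)
      (hr.not_dvd (by norm_num)) h6 (s := 1) (by rw [h5, h10]) (iff_of_false h7 (by rw [hr.ord]; decide))
    obtain ⟨z, hz⟩ := exE (H587.KB8.mem_E_of_odd good8 hT hodd hTr)
    have h13 : ln z = (T : Module.End F (I8 → F)) := LinearMap.ext hz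
    have h14 : z ^ r = 1 := om_ext fun v => by
      have h15 : ∀ n : ℕ, ln (z ^ n) v = (T ^ n) v := fun n => by
        induction n with
        | zero => rw [pow_zero, pow_zero, ln_one]; rfl
        | succ n ih => rw [pow_succ', pow_succ', ln_mul, ih, hz]; rfl
      rw [h15, hTr, ln_one]
      rfl
    have h15 : mk8 F z ∈ Y := h1 (mem_St.2 fun w hw => by
      have h16 : T w - w ∈ Fx r Y := by
        rw [h9, ← h11]
        exact H955.mem_comS.2 ⟨w, rfl⟩
      rw [hz, ← sub_add_cancel (T w) w]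
      exact add_mem h16 hw)
    refine hs ((Submodule.eq_bot_iff _).2 fun w hw => nondeg_res_iff.1 h6 w (h4 hw) ?_)
    have h16 : w ∈ H955.fixS T := H955.mem_fixS.2 ((hz w).symm.trans (mem_Fx.1 hw z h15 h14))
    rw [h12] at h16
    exact mem_perp'.1 h16
  · by_contra h9
    push Not at h9
    have h10 : 2 * finrank F (Fx r Y) + 2 ≤ finrank F (fx (ln y)) :=
      H954.TSing.ts_lt_half h6 h4 h9 (h5 ▸ by decide : Even (finrank F (fx (ln y)))) h7
    omega

end Cfsg.Agent.SM.O8
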