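import Cfsg.Agent.SM.O8.Md
import Cfsg.Agent.SM.O8.Base
import Cfsg.Agent.SM.O8.Ext
import Cfsg.Agent.S0293
import Cfsg.Agent.ClassicalGeometry.SymmNormalForm
import Cfsg.Agent.UGT.U2.Rec.Congr

/-!
# SM, `S = PΩ⁺₈(q)`: the count for `T = Ω₇(q)` and `B` a point stabiliser of another module, all `q` (helper71)
-/

set_option autoImplicit false
set_option linter.unusedSectionVars false

namespace Cfsg.Agent.SM.O8

open Module QuadraticMap Cfsg Cfsg.Geo Cfsg.Agent.LieClassical.OrthCore Cfsg.Agent.LieClassical.OrthTrans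
open Subgroup Equiv MulAction
open Cfsg.Agent.H708.O8 (I8 T8)
open Cfsg.Agent.H823.O8S (mk8 gl8)
open Cfsg.Agent.H198.Carriers (plusQ)
open Cfsg.Agent.ClassicalGeometry.OrthSemi (Gam)
open Cfsg.Agent.AutOrth.Main (oe)
open Cfsg.Agent.SM.Ex78 (Pd)

variable {F : Type} [Field F] [Fintype F]

theorem exists_ln {g : (I8 → F) ≃ₗ[F] (I8 → F)} (hg : g ∈ E (plusQ 4 F)) : ∃ y : Om F, ∀ v, ln y v = g v :=
  ⟨(oe good8).symm ⟨g, hg⟩, fun v => by
    have h := H708.Rg.oe_lin good8 ((oe good8).symm ⟨g, hg⟩) v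
    rw [MulEquiv.apply_symm_apply] at h
    exact h.symm⟩

/-- `Ω` is transitive on the nonzero vectors of given norm -/
theorem exists_ln_map {v w : I8 → F} (hv : v ≠ 0) (hw : w ≠ 0) (h : quadFormPlus 4 F v = quadFormPlus 4 F w) :
    ∃ y : Om F, ln y v = w := by
  obtain ⟨g, hg, e⟩ := (good8 (F := F)).trans_norm hv hw h
  obtain ⟨y, hy⟩ := exists_ln hg
  exact ⟨y, (hy v).trans e⟩

theorem ne_zero_of_Q {v : I8 → F} (hv : quadFormPlus 4 F v ≠ 0) : v ≠ 0 := fun h => hv (by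
  rw [h]
  exact (plusQ 4 F).map_zero)

theorem conj_pt (y : Om F) (v : I8 → F) : im (MulAut.conj (mk8 F y)) (pt v) = pt (ln y v) := by
  rw [← ph_og, im_pt, og_apply]

/-- vectors of given norm, orthogonal or not orthogonal to a given vector -/
theorem exists_norm {w : I8 → F} (hw : w ≠ 0) (c e : F) :
    ∃ v, quadFormPlus 4 F v = c ∧ polar (quadFormPlus 4 F) w v = e := by
  obtain ⟨x₀, y₀, h₀⟩ := (good8 (F := F)).exists_hyp
  obtain ⟨x, y, h, e1⟩ := exists_hyp_decomp (good8 (F := F)).nondeg h₀ hw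
  obtain ⟨z, t, h', h1, h2, h3, h4⟩ := (good8 (F := F)).exists_hyp2 h
  refine ⟨e • y + (z + c • t), ?_, ?_⟩
  · change plusQ 4 F _ = c
    rw [Q_add, Q_add, QuadraticMap.map_smul, QuadraticMap.map_smul, h.right, h'.left, h'.right, polar_smul_left,
      polar_add_right, polar_smul_right, polar_smul_right, h3, h4, h'.pair]
    simp
  · change polar (plusQ 4 F) w _ = e
    rw [e1]
    simp only [polar_add_left, polar_add_right, polar_smul_left, polar_smul_right, h1, h2, h3, h4, h.pair, h.polar_right]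
    simp

/-- the stabiliser of a subspace is not transitive on the points of the type of `v` -/
theorem not_pd {v v' : I8 → F} (hv : quadFormPlus 4 F v ≠ 0) {W : Submodule F (I8 → F)} (hW : W ≠ ⊥)
    (h1 : quadFormPlus 4 F v' = quadFormPlus 4 F v) (h2 : ∀ w ∈ W, polar (quadFormPlus 4 F) w v' = 0) :
    ¬ Pd (pt v) (St W) := fun h => by
  obtain ⟨w, hw, hw0⟩ := (Submodule.ne_bot_iff _).1 hW
  obtain ⟨v'', h3, h4⟩ := exists_norm hw0 (quadFormPlus 4 F v) 1
  have key : ∀ u, quadFormPlus 4 F u = quadFormPlus 4 F v → ∃ y : Om F, mk8 F y ∈ St W ∧ ∃ c : F, c ≠ 0 ∧ u = c • ln y v := by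
    intro u hu
    obtain ⟨g, hg⟩ := exists_ln_map (ne_zero_of_Q hv) (ne_zero_of_Q (hu ▸ hv)) hu.symm
    obtain ⟨y, hy, x, hx, e⟩ := h.symm (mk8 F g)
    obtain ⟨y, rfl⟩ := mk8_surjective y
    have h5 : mk8 F (y⁻¹ * g) ∈ pt v := by rwa [map_mul, map_inv, e, inv_mul_cancel_left]
    obtain ⟨c, hc⟩ := mem_pt.1 h5
    rw [ln_mul, hg] at hc
    have h6 : u = c • ln y v := by rw [← map_smul, ← hc, ln_apply_inv]
    exact ⟨y, hy, c, fun k => ne_zero_of_Q (hu ▸ hv) (by rw [h6, k, zero_smul]), h6⟩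
  obtain ⟨y, hy, c, hc, e⟩ := key v' h1
  obtain ⟨y', hy', c', hc', e'⟩ := key v'' h3
  have h5 := h2 _ (mem_St.1 (mul_mem hy (inv_mem hy')) w hw)
  have h6 : polar (quadFormPlus 4 F) w (ln y' v) = 0 := by
    have h7 : ∀ a b : I8 → F, polar (quadFormPlus 4 F) a (c • b) = c * polar (quadFormPlus 4 F) a b :=
      fun a b => polar_smul_right (plusQ 4 F) c a b
    rw [e, h7, mul_eq_zero, or_iff_right hc] at h5
    change polar (quadFormPlus 4 F) (ln (y * y'⁻¹) w) (ln y v) = 0 at h5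
    rw [ln_mul, polar_ln, ← polar_ln y', ln_apply_inv] at h5
    exact h5
  have h7 : polar (quadFormPlus 4 F) w (c' • ln y' v) = c' * polar (quadFormPlus 4 F) w (ln y' v) :=
    polar_smul_right (plusQ 4 F) c' _ _
  rw [e', h7, h6, mul_zero] at h4
  exact zero_ne_one h4

theorem not_pd_pt {v w : I8 → F} (hv : quadFormPlus 4 F v ≠ 0) (hw : w ≠ 0) : ¬ Pd (pt v) (pt w) := by
  obtain ⟨v', h1, h2⟩ := exists_norm hw (quadFormPlus 4 F v) 0
  refine not_pd hv (by rwa [Ne, Submodule.span_singleton_eq_bot]) h1 fun u hu => ?_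
  obtain ⟨a, rfl⟩ := Submodule.mem_span_singleton.1 hu
  exact (polar_smul_left (plusQ 4 F) a w v').trans (by rw [show polar (plusQ 4 F) w v' = 0 from h2, smul_zero])

/-- the index of the stabiliser of a nonsingular point -/
theorem index_pt {v : I8 → F} (hv : quadFormPlus 4 F v ≠ 0) :
    (pt v).index * Nat.gcd 4 (Nat.card F ^ 4 - 1) = Nat.card F ^ 3 * (Nat.card F ^ 4 - 1) * Nat.gcd 2 (Nat.card F - 1) := by
  have h1 := (boxExt F v hv).2.1
  have h2 := Cfsg.Agent.S0293.result (F := F) (q := Nat.card F) Nat.card_eq_fintype_card.symm 4 le_rfl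
  have h3 := (pt v).card_mul_index
  unfold O7 at h1
  simp only [Finset.prod_range_succ, Finset.prod_range_zero, one_mul] at h2
  norm_num at h2
  have h4 : 0 < Nat.card (pt v) := Nat.card_pos
  refine Nat.eq_of_mul_eq_mul_left h4 ?_
  calc Nat.card (pt v) * ((pt v).index * Nat.gcd 4 (Nat.card F ^ 4 - 1))
      = Nat.gcd 4 (Nat.card F ^ 4 - 1) * (Nat.card (pt v) * (pt v).index) := by ring
    _ = Nat.card F ^ 3 * (Nat.card F ^ 4 - 1) * (Nat.card (pt v) * Nat.gcd 2 (Nat.card F - 1)) := by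
      rw [h3, h1]
      simp only [Nat.card_eq_fintype_card] at h2 ⊢
      rw [h2]
      ring
    _ = _ := by ring

theorem dvd_index_pt {p a : ℕ} (hp : p.Prime) (ha : 1 ≤ a) (hF : Nat.card F = p ^ a) {v : I8 → F}
    (hv : quadFormPlus 4 F v ≠ 0) : p ∣ (pt v).index := by
  have h1 := index_pt hv
  have hq : p ∣ Nat.card F := hF ▸ dvd_pow_self p (by omega)
  have h2 : p ∣ (pt v).index * Nat.gcd 4 (Nat.card F ^ 4 - 1) :=
    h1 ▸ ((hq.trans (dvd_pow_self _ (by norm_num))).mul_right _).mul_right _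
  refine ((Nat.Prime.dvd_mul hp).1 h2).resolve_right fun h => ?_
  have h3 := Nat.dvd_sub (hq.trans (dvd_pow_self _ (by norm_num : 4 ≠ 0))) (h.trans (Nat.gcd_dvd_right _ _))
  rw [Nat.sub_sub_self (Nat.one_le_pow _ _ Nat.card_pos)] at h3
  exact hp.one_lt.ne' (Nat.dvd_one.1 h3)

theorem not_dvd_index_pt {p a : ℕ} (hp : p.Prime) (ha : 1 ≤ a) (hF : Nat.card F = p ^ a) {u : I8 → F} (hu0 : u ≠ 0)
    (hu : quadFormPlus 4 F u = 0) : ¬ p ∣ (pt u).index := fun h => by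
  classical
  have h1 := H886.O8R.card_orbit (⊤ : Subgroup (Om F)) u
  rw [top_inf_eq, Subgroup.card_top, ← (H886.O8R.Xw u).card_mul_index, mul_comm] at h1
  have h2 := Nat.eq_of_mul_eq_mul_left Nat.card_pos h1
  have h3 : (pt u).index ∣ (H886.O8R.Xw u).index := by
    rw [← Subgroup.index_comap_of_surjective _ mk8_surjective]
    exact Subgroup.index_dvd_of_le fun x hx => mem_pt.2 ⟨1, by rw [one_smul]; exact hx⟩
  have h4 : Nat.card {v : I8 → F // ∃ x ∈ (⊤ : Subgroup (Om F)), H886.O8R.om F x u = v} + 1 =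
      Nat.card {v : I8 → F // quadFormPlus 4 F v = 0} := by
    have e : {v : I8 → F | quadFormPlus 4 F v = 0} =
        insert 0 {v : I8 → F | ∃ x ∈ (⊤ : Subgroup (Om F)), H886.O8R.om F x u = v} := by
      ext v
      constructor
      · intro hv
        by_cases h0 : v = 0
        · exact Or.inl h0
        · obtain ⟨y, hy⟩ := exists_ln_map hu0 h0 (hu.trans hv.symm)
          exact Or.inr ⟨y, trivial, hy⟩
      · rintro (rfl | ⟨x, -, rfl⟩)
        · exact (plusQ 4 F).map_zero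
        · exact (Q_ln x u).trans hu
    have e2 : (0 : I8 → F) ∉ {v : I8 → F | ∃ x ∈ (⊤ : Subgroup (Om F)), H886.O8R.om F x u = v} := by
      rintro ⟨x, -, hx⟩
      exact hu0 (ln_injective x (hx.trans (map_zero _).symm))
    change Set.ncard {v : I8 → F | ∃ x ∈ (⊤ : Subgroup (Om F)), H886.O8R.om F x u = v} + 1 =
      Set.ncard {v : I8 → F | quadFormPlus 4 F v = 0}
    rw [e, Set.ncard_insert_of_notMem e2]
  have h5 := LieClassical.QuadCount.card_plus (F := F) 4 0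
  rw [if_pos rfl, ← h4, h2, ← Nat.card_eq_fintype_card] at h5
  obtain ⟨n, hn⟩ := h.trans h3
  have hq : p ∣ Nat.card F := hF ▸ dvd_pow_self p (by omega)
  obtain ⟨m, hm⟩ := hq
  have h6 : (H886.O8R.Xw u).index + 1 + Nat.card F ^ 3 = Nat.card F ^ 7 + Nat.card F ^ 4 :=
    Nat.eq_of_mul_eq_mul_left (Nat.card_pos (α := F)) (by
      calc _ = Nat.card F * ((H886.O8R.Xw u).index + 1) + Nat.card F ^ 4 := by ring
        _ = _ := by rw [h5]; ring)
  have h7 : p ∣ 1 := by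
    have h8 : p ∣ (H886.O8R.Xw u).index + 1 + Nat.card F ^ 3 := by
      rw [h6, hm]
      exact dvd_add (dvd_pow (dvd_mul_right _ _) (by norm_num)) (dvd_pow (dvd_mul_right _ _) (by norm_num))
    have h9 : p ∣ Nat.card F ^ 3 := by
      rw [hm]
      exact dvd_pow (dvd_mul_right _ _) (by norm_num)
    exact (Nat.dvd_add_right ⟨n, hn⟩).1 ((Nat.dvd_add_left h9).1 h8)
  exact hp.one_lt.ne' (Nat.dvd_one.1 h7)

theorem exists_pa (F : Type) [Field F] [Fintype F] : ∃ p a : ℕ, p.Prime ∧ 1 ≤ a ∧ Nat.card F = p ^ a := by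
  obtain ⟨p, hp⟩ := CharP.exists F
  obtain ⟨a, h1, h2⟩ := FiniteField.card F p
  exact ⟨p, a, h1, a.2, by rw [Nat.card_eq_fintype_card, h2]⟩

theorem index_im (α : MulAut (T8 F)) (R : Subgroup (T8 F)) : (im α R).index = R.index :=
  Subgroup.index_map_of_bijective α.bijective R

/-- points with stabilisers of the same index and norms in the same square class are conjugate -/
theorem conj_of_sq {w w' : I8 → F} (hw : w ≠ 0) (hw' : w' ≠ 0) (hi : (pt w).index = (pt w').index)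
    (hs : IsSquare (quadFormPlus 4 F w) ↔ IsSquare (quadFormPlus 4 F w')) : ∃ g, pt w' = im (MulAut.conj g) (pt w) := by
  obtain ⟨p, a, hp, ha, hF⟩ := exists_pa F
  have key : ∃ c : F, c ≠ 0 ∧ quadFormPlus 4 F (c • w) = quadFormPlus 4 F w' := by
    by_cases h : quadFormPlus 4 F w = 0
    · refine ⟨1, one_ne_zero, ?_⟩
      rw [one_smul, h]
      by_contra h'
      exact not_dvd_index_pt hp ha hF hw h (hi ▸ dvd_index_pt hp ha hF (Ne.symm h'))
    · have h' : quadFormPlus 4 F w' ≠ 0 := fun k => not_dvd_index_pt hp ha hF hw' k (hi ▸ dvd_index_pt hp ha hF h)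
      have h1 : IsSquare (quadFormPlus 4 F w * quadFormPlus 4 F w') := by
        by_cases k : IsSquare (quadFormPlus 4 F w)
        · exact k.mul (hs.1 k)
        · exact ClassicalGeometry.SymmNormalForm.isSquare_div_of_not k fun k' => k (hs.2 k')
      obtain ⟨d, hd⟩ := h1
      have hd0 : d ≠ 0 := fun k => mul_ne_zero h h' (by rw [hd, k, mul_zero])
      refine ⟨d / quadFormPlus 4 F w, div_ne_zero hd0 h, ?_⟩
      rw [Q_smul]
      field_simp
      rw [pow_two, ← hd]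
  obtain ⟨c, hc, h⟩ := key
  obtain ⟨y, hy⟩ := exists_ln_map (smul_ne_zero hc hw) hw' h
  exact ⟨mk8 F y, by rw [← pt_smul hc w, conj_pt, hy]⟩

variable {Ω : Type} [Fintype Ω] [DecidableEq Ω] {X H T : Subgroup (Perm Ω)}

/-- **Normalising**: all socles are identified with `T8 F` such that `T` is mapped to `pt v₀` in the same way. -/
theorem md_pt {ι : T →* T8 F} {v₀ : I8 → F} (hv₀ : quadFormPlus 4 F v₀ ≠ 0) (hι : Function.Injective ι) (hK : ι.range = pt v₀)
    {M S : Subgroup (Perm Ω)} (u : Up X H T M S) (φ : S ≃* T8 F) {v : I8 → F} (hv : quadFormPlus 4 F v ≠ 0)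
    (hφ : dn φ T = pt v) (a : Ω) :
    ∃ β : MulAut (T8 F), im β (pt v) = pt v₀ ∧ Md X H ι a M (im β (dn φ (M ⊓ stabilizer (Perm Ω) a))) := by
  obtain ⟨N, hN⟩ := Ext.exists_gam hv hv₀
  have h1 : im (ph F N) (pt v) = pt v₀ := by rw [im_pt, hN]
  obtain ⟨β, h2, h3⟩ := md_of_ext hι hK (boxExt F v₀ hv₀).2.2 u (φ.trans (ph F N)) (by rw [dn_trans, hφ]; exact h1) a
  refine ⟨β * ph F N, by rw [← im_im, h1]; exact h2, ?_⟩
  rw [dn_trans] at h3
  rw [← im_im]
  exact h3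

/-- **The count**: `T = pt v`, `B` the stabiliser of a point of one of the modules. -/
theorem cnt {O : Set (Subgroup (Perm Ω))} (a : Ω)
    (h : ∀ M ∈ O, ∃ S, ∃ _ : Up X H T M S, ∃ φ : S ≃* T8 F, ∃ v, quadFormPlus 4 F v ≠ 0 ∧ dn φ T = pt v ∧
      ∃ (α : MulAut (T8 F)) (w : I8 → F), w ≠ 0 ∧ im α (dn φ (M ⊓ stabilizer (Perm Ω) a)) = pt w) : O.ncard ≤ 2 := by
  rcases O.eq_empty_or_nonempty with rfl | ⟨M₀, h₀⟩
  · simp
  obtain ⟨S₀, u₀, φ₀, v₀, hv₀, e₀, -⟩ := h M₀ h₀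
  have hK := (range_rs u₀ φ₀).trans e₀
  obtain ⟨τ, -, hτ, -⟩ := exists_tri (F := F)
  have h1 := cls_col (X := X) (H := H) (ι := rs u₀ φ₀) (a := a) (O := O) (C := (Set.univ : Set Prop)) Set.finite_univ
    (fun Y c => ∃ w, w ≠ 0 ∧ im τ Y = pt w ∧ (IsSquare (quadFormPlus 4 F w) ↔ c)) (fun M hM => ?_) ?_
  · rwa [Set.ncard_univ, Nat.card_eq_fintype_card, Fintype.card_prop] at h1
  · obtain ⟨S, u, φ, v, hv, e, α, w, hw, hα⟩ := h M hM
    obtain ⟨β, -, h2'⟩ := md_pt hv₀ (rs_injective u₀ φ₀) hK u φ hv e a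
    obtain ⟨Y, h2, h3⟩ : ∃ Y, Md X H (rs u₀ φ₀) a M Y ∧ im (α * β⁻¹) Y = pt w :=
      ⟨_, h2', by rw [im_im, inv_mul_cancel_right, hα]⟩
    have h4 : ¬ Nt (α * β⁻¹) := by
      rintro ⟨N, hN⟩
      obtain ⟨U, V, c⟩ := h2.cf
      have h5 : Y = pt (N⁻¹.1 w) := by rw [← im_pt, ← h3, map_inv, hN, im_inv_im]
      have h6 := c.pd
      rw [hK, h5] at h6
      exact not_pd_pt hv₀ (fun k => hw (gam_eq_zero.1 k)) h6
    rcases coset_rf hv₀ h4 hτ with ⟨N, hN⟩ | ⟨N, hN⟩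
    · refine ⟨Y, h2, _, trivial, N⁻¹.1 w, fun k => hw (gam_eq_zero.1 k), ?_, Iff.rfl⟩
      rw [← im_pt, ← h3, map_inv, hN, im_im]
      congr 1
      group
    · refine ⟨im (ph F (rf v₀ hv₀))⁻¹ Y, h2.comp _ fun t => ?_, _, trivial, N⁻¹.1 w, fun k => hw (gam_eq_zero.1 k), ?_, Iff.rfl⟩
      · rw [MulAut.inv_def, MulEquiv.symm_apply_eq]
        exact (rf_fix hv₀ (hK.le ⟨t, rfl⟩)).symm
      · rw [← im_pt, ← h3, map_inv, hN, im_im, im_im]
        congr 1
        group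
  · rintro Y Y' c hi ⟨w, hw, h2, h3⟩ ⟨w', hw', h4, h5⟩
    obtain ⟨g, hg⟩ := conj_of_sq hw hw' (by rw [← h2, ← h4, index_im, index_im, hi]) (h3.trans h5.symm)
    refine ⟨1, τ⁻¹ g, fun _ => rfl, ?_⟩
    change Y' = im (MulAut.conj (τ⁻¹ g)) (im 1 Y)
    rw [im_one, ← im_inv_im τ Y', h4, hg, ← h2, im_im, im_im]
    congr 1
    ext x
    simp only [MulAut.mul_apply, MulAut.conj_apply, map_mul, map_inv, MulAut.inv_apply_self]

/-- change of the field -/
theorem nonempty_T8 {F' : Type} [Field F'] [Fintype F'] (h : Fintype.card F = Fintype.card F') : Nonempty (T8 F ≃* T8 F') := by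
  have σ : F ≃+* F' := FiniteField.ringEquivOfCardEq h
  refine UGT.U2.Rec.Congr.nonempty_POmega σ fun v => ?_
  simp [quadFormPlus, map_sum, map_mul]

theorem f8q_model {q : ℕ} (hF : Fintype.card F = q) {S : Type} [Group S] (h : f8q q S) : Nonempty (S ≃* T8 F) := by
  obtain ⟨F', _, _, h1, ⟨e⟩⟩ := h
  obtain ⟨e'⟩ := nonempty_T8 (F := F') (F' := F) (h1.trans hF.symm)
  exact ⟨e.trans e'⟩

end Cfsg.Agent.SM.O8
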