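import Cfsg.Agent.H886.O8R.StabV
import Cfsg.Agent.H198.Carriers
import Cfsg.Agent.ClassicalGeometry.OrthSemiForms
import Cfsg.Agent.S0295

/-!
# SM (S3570), `PΩ⁺₈(q)`, box `Ext`: coordinates, and the stabiliser of a nonsingular vector for odd `q` (helper40)
-/

set_option autoImplicit false
set_option linter.unusedSectionVars false

namespace Cfsg.Agent.SM.O8.Ext

open Cfsg QuadraticMap Matrix Cfsg.Agent.H886.O8R Cfsg.Agent.H198.Carriers Cfsg.Agent.H198.OrthFrame
open Cfsg.Agent.ClassicalGeometry.OrthSemi Cfsg.Agent.LieClassical.OrthTrans Cfsg.Agent.LieClassical.OrthFinite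

variable {F : Type} [Field F] [Fintype F]

/-- the index type in dimension six -/
abbrev J6 : Type := Fin 3 ⊕ Fin 3

/-- the index type in dimension seven -/
abbrev J7 : Type := Unit ⊕ (Fin 3 ⊕ Fin 3)

theorem hG8 (F : Type) [Field F] [Fintype F] : Good (plusQ 4 F) := good_plusQ (by norm_num)

/-- the central elements of `Ω` are `1` and `-1` -/
theorem cen {ι : Type} [Fintype ι] [DecidableEq ι] {Q : QuadraticForm F (ι → F)} (hG : Good Q) {w : ι → F}
    (hw : Q w ≠ 0) {z : Omega F ⇑Q} (hz : z ∈ Subgroup.center (Omega F ⇑Q)) :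
    (((z : isometryGroup F ⇑Q) : GL ι F) : Matrix ι ι F) = 1 ∨
      (((z : isometryGroup F ⇑Q) : GL ι F) : Matrix ι ι F) = -1 := by
  have h1 : S hG (omSim Q z) = 1 := by
    rw [S_omSim, (QuotientGroup.eq_one_iff z).2 hz, map_one]
  obtain ⟨a, ha⟩ := (S_eq_one_iff hG _).1 h1
  have ha' : (((z : isometryGroup F ⇑Q) : GL ι F) : Matrix ι ι F) = (a : F) • (1 : Matrix ι ι F) := ha
  have h2 := mem_isometryGroup_iff.1 (z : isometryGroup F ⇑Q).2 w
  rw [ha', smul_mulVec, one_mulVec, QuadraticMap.map_smul, smul_eq_mul] at h2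
  have h3 : (a : F) * a = 1 := mul_right_cancel₀ hw (by rw [h2, one_mul])
  rcases mul_self_eq_one_iff.1 h3 with h | h
  · left
    rw [ha', h, one_smul]
  · right
    rw [ha', h, neg_smul, one_smul]

theorem cen8 {w : J8 → F} (hw : quadFormPlus 4 F w ≠ 0) {z : Omega F (quadFormPlus 4 F)}
    (hz : z ∈ Subgroup.center (Omega F (quadFormPlus 4 F))) : z = 1 ∨ ∀ v, om F z v = -v := by
  rcases cen (hG8 F) hw hz with h | h
  · exact Or.inl (Subtype.ext (Subtype.ext (Units.ext h)))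
  · refine Or.inr fun v => ?_
    rw [om_apply]
    exact (congrArg (fun A => Matrix.mulVec A v) h).trans (by simp only [neg_mulVec, one_mulVec])

theorem om_ext {x y : Omega F (quadFormPlus 4 F)} (h : ∀ v, om F x v = om F y v) : x = y :=
  Subtype.ext (Subtype.ext (Units.ext (Matrix.ext_iff_mulVec.2 h)))

theorem card_cen {w : J8 → F} (hw : quadFormPlus 4 F w ≠ 0) :
    Nat.card (Subgroup.center (Omega F (quadFormPlus 4 F))) ≤ 2 := by
  classical
  have h : Function.Injective fun z : Subgroup.center (Omega F (quadFormPlus 4 F)) => decide (z.1 = 1) := by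
    intro a b hab
    have h1 : a.1 = 1 ↔ b.1 = 1 := by simpa using hab
    apply Subtype.ext
    rcases cen8 hw a.2 with ha | ha
    · rw [ha, h1.1 ha]
    rcases cen8 hw b.2 with hb | hb
    · rw [hb, h1.2 hb]
    exact om_ext fun v => (ha v).trans (hb v).symm
  have := Nat.card_le_card_of_injective _ h
  simpa using this

theorem pos8 : 0 < Fintype.card F ^ 7 - Fintype.card F ^ 3 :=
  Nat.sub_pos_of_lt (Nat.pow_lt_pow_right (Fintype.one_lt_card (α := F)) (by norm_num))

theorem card_Xw {w : J8 → F} (hw : quadFormPlus 4 F w ≠ 0) :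
    Nat.gcd 2 (Fintype.card F - 1) * Nat.card (Xw w) =
      Nat.card (Subgroup.center (Omega F (quadFormPlus 4 F))) * Nat.card (PSp 3 F) := by
  have h1 := card_stab hw
  have h2 := card_rel (F := F) (K := F) rfl
  have h3 : Nat.card (Omega F (quadFormPlus 4 F)) = Nat.card (POmega F (quadFormPlus 4 F)) *
      Nat.card (Subgroup.center (Omega F (quadFormPlus 4 F))) := Subgroup.card_eq_card_quotient_mul_card_subgroup _
  apply Nat.eq_of_mul_eq_mul_left (pos8 (F := F))
  rw [mul_left_comm, h1, h3, ← mul_assoc, h2]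
  ring

theorem card_psp : Nat.card (PSp 3 F) * Nat.gcd 2 (Fintype.card F - 1) = Fintype.card F ^ 9 *
    ((Fintype.card F ^ 2 - 1) * (Fintype.card F ^ 4 - 1) * (Fintype.card F ^ 6 - 1)) := by
  have h1 := H436.psp_eq (F := F) (m := 3) (by norm_num)
  change Nat.gcd 2 (Fintype.card F - 1) * Nat.card (PSp 3 F) =
    Fintype.card F ^ (3 ^ 2) * OrdDiv.prB (Fintype.card F) 3 at h1
  rw [mul_comm, h1]
  simp [OrdDiv.prB, List.range_succ, mul_assoc]

/-- what is proved for the stabiliser of a vector -/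
def Ex (w : J8 → F) : Prop := IsSimpleGroup (Xw w) ∧ Nat.card (Xw w) = Nat.card (PSp 3 F) ∧
  ∀ γ : MulAut (Xw w), ∃ M : Gam (plusQ 4 F), ∀ (s : Xw w) (y : J8 → F), om F (γ s) (M.1 y) = M.1 (om F s y)

/-- coordinates -/
def c8 (F : Type) [Field F] : ((J6 → F) × F × F) ≃ₗ[F] (J8 → F) where
  toFun p := Sum.elim (Fin.cons p.2.1 fun i => p.1 (.inl i)) (Fin.cons p.2.2 fun i => p.1 (.inr i))
  invFun y := (Sum.elim (fun i => y (.inl i.succ)) (fun i => y (.inr i.succ)), y (.inl 0), y (.inr 0))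
  map_add' p q := by
    funext j
    rcases j with j | j <;> refine Fin.cases ?_ (fun i => ?_) j <;> rfl
  map_smul' a p := by
    funext j
    rcases j with j | j <;> refine Fin.cases ?_ (fun i => ?_) j <;> rfl
  left_inv p := by
    refine Prod.ext ?_ rfl
    funext j
    rcases j with j | j <;> rfl
  right_inv y := by
    funext j
    rcases j with j | j <;> refine Fin.cases ?_ (fun i => ?_) j <;> rfl

theorem Q_c8 (u : J6 → F) (a b : F) : quadFormPlus 4 F (c8 F (u, a, b)) = a * b + quadFormPlus 3 F u := by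
  unfold quadFormPlus
  rw [Fin.sum_univ_succ]
  rfl

theorem map_c8 (σ : F ≃+* F) (u : J6 → F) (a b : F) :
    (fun i => σ (c8 F (u, a, b) i)) = c8 F (fun i => σ (u i), σ a, σ b) := by
  funext j
  rcases j with j | j <;> refine Fin.cases ?_ (fun i => ?_) j <;> rfl

/-- the standard nonsingular vector -/
def v0 (F : Type) [Field F] : J8 → F := c8 F (0, 1, -1)

theorem Q_v0 : quadFormPlus 4 F (v0 F) = -1 := by
  rw [v0, Q_c8]
  simp [quadFormPlus]

theorem Q_v0_ne : quadFormPlus 4 F (v0 F) ≠ 0 := by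
  rw [Q_v0]
  exact neg_ne_zero.2 one_ne_zero

/-! ### odd characteristic -/

/-- coordinates in odd characteristic -/
def c7 (h2 : (2 : F) ≠ 0) : ((J7 → F) × F) ≃ₗ[F] ((J6 → F) × F × F) where
  toFun p := (fun i => p.1 (.inr i), p.1 (.inl ()) + p.2, p.1 (.inl ()) - p.2)
  invFun p := (Sum.elim (fun _ => (p.2.1 + p.2.2) / 2) p.1, (p.2.1 - p.2.2) / 2)
  map_add' p q := by
    refine Prod.ext rfl (Prod.ext ?_ ?_) <;> simp <;> ring
  map_smul' a p := by
    refine Prod.ext rfl (Prod.ext ?_ ?_) <;> simp <;> ring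
  left_inv p := by
    refine Prod.ext ?_ ?_
    · funext j
      rcases j with j | j
      · simp
        field_simp
        ring
      · rfl
    · simp
      field_simp
      ring
  right_inv p := by
    refine Prod.ext rfl (Prod.ext ?_ ?_) <;> simp <;> field_simp <;> ring

/-- `V₈ = V₇ ⊕ ⟨v₀⟩` -/
def e8 (h2 : (2 : F) ≠ 0) : ((J7 → F) × F) ≃ₗ[F] (J8 → F) := (c7 h2).trans (c8 F)

theorem Q_e8 (h2 : (2 : F) ≠ 0) (u : J7 → F) (a : F) :
    quadFormPlus 4 F (e8 h2 (u, a)) = quadFormOdd 3 F u - a * a := by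
  refine (Q_c8 (fun i => u (.inr i)) (u (.inl ()) + a) (u (.inl ()) - a)).trans ?_
  unfold quadFormOdd quadFormPlus
  ring

theorem e8_v0 (h2 : (2 : F) ≠ 0) : e8 h2 (0, 1) = v0 F := by
  show c8 F (fun i => (0 : J7 → F) (.inr i), (0 : J7 → F) (.inl ()) + 1, (0 : J7 → F) (.inl ()) - 1) = c8 F (0, 1, -1)
  simp only [Pi.zero_apply, zero_add, zero_sub]
  rfl

/-- the extension of a linear automorphism -/
def exL (h2 : (2 : F) ≠ 0) : ((J7 → F) ≃ₗ[F] (J7 → F)) →* ((J8 → F) ≃ₗ[F] (J8 → F)) :=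
  MonoidHom.mk' (fun g => (e8 h2).symm.trans ((g.prodCongr (LinearEquiv.refl F F)).trans (e8 h2))) fun g k => by
    ext1 y
    obtain ⟨p, rfl⟩ := (e8 h2).surjective y
    simp

theorem exL_apply (h2 : (2 : F) ≠ 0) (g : (J7 → F) ≃ₗ[F] (J7 → F)) (u : J7 → F) (a : F) :
    exL h2 g (e8 h2 (u, a)) = e8 h2 (g u, a) := by
  simp [exL]

/-- the extension of an isometry -/
noncomputable def exO (h2 : (2 : F) ≠ 0) : isometryGroup F (quadFormOdd 3 F) →* isometryGroup F (quadFormPlus 4 F) :=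
  (((glEquiv J8 F).symm.toMonoidHom.comp ((exL h2).comp (glEquiv J7 F).toMonoidHom)).comp
    (isometryGroup F (quadFormOdd 3 F)).subtype).codRestrict _ fun g => mem_isometryGroup_iff.2 fun y => by
      obtain ⟨⟨u, a⟩, rfl⟩ := (e8 h2).surjective y
      rw [← glEquiv_apply]
      show quadFormPlus 4 F (glEquiv J8 F ((glEquiv J8 F).symm (exL h2 (glEquiv J7 F g.1))) _) = _
      rw [MulEquiv.apply_symm_apply, exL_apply, Q_e8, Q_e8, glEquiv_apply, mem_isometryGroup_iff.1 g.2]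

theorem exO_apply (h2 : (2 : F) ≠ 0) (g : isometryGroup F (quadFormOdd 3 F)) (u : J7 → F) (a : F) :
    ((exO h2 g : GL J8 F) : Matrix J8 J8 F) *ᵥ e8 h2 (u, a) = e8 h2 (((g : GL J7 F) : Matrix J7 J7 F) *ᵥ u, a) := by
  rw [← glEquiv_apply]
  show glEquiv J8 F ((glEquiv J8 F).symm (exL h2 (glEquiv J7 F g.1))) _ = _
  rw [MulEquiv.apply_symm_apply, exL_apply, glEquiv_apply]

theorem exO_mem (h2 : (2 : F) ≠ 0) {g : isometryGroup F (quadFormOdd 3 F)} (hg : g ∈ Omega F (quadFormOdd 3 F)) :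
    exO h2 g ∈ Omega F (quadFormPlus 4 F) := by
  have h : (commutator (isometryGroup F (quadFormOdd 3 F))).map (exO h2) ≤
      commutator (isometryGroup F (quadFormPlus 4 F)) := by
    rw [commutator_def, Subgroup.map_commutator]
    exact Subgroup.commutator_mono le_top le_top
  exact h ⟨g, hg, rfl⟩

/-- `Ω₇` in the stabiliser -/
noncomputable def exX (h2 : (2 : F) ≠ 0) : Omega F (quadFormOdd 3 F) →* Xw (v0 F) :=
  (((exO h2).comp (Omega F (quadFormOdd 3 F)).subtype).codRestrict _ fun g => exO_mem h2 g.2).codRestrict _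
    fun g => by
      rw [mem_Xw, om_apply, ← e8_v0 h2]
      exact (exO_apply h2 g.1 0 1).trans (by rw [mulVec_zero])

theorem exX_apply (h2 : (2 : F) ≠ 0) (g : Omega F (quadFormOdd 3 F)) (u : J7 → F) (a : F) :
    om F (exX h2 g) (e8 h2 (u, a)) =
      e8 h2 ((((g : isometryGroup F (quadFormOdd 3 F)) : GL J7 F) : Matrix J7 J7 F) *ᵥ u, a) :=
  exO_apply h2 g.1 u a

theorem exX_inj (h2 : (2 : F) ≠ 0) : Function.Injective (exX h2) := fun g k h => by
  refine Subtype.ext (Subtype.ext (Units.ext (Matrix.ext_iff_mulVec.2 fun u => ?_)))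
  have h1 := exX_apply h2 g u 0
  rw [h, exX_apply] at h1
  exact (congrArg Prod.fst ((e8 h2).injective h1)).symm

/-- the extension of a semisimilarity -/
theorem exists_ext (h2 : (2 : F) ≠ 0) (M : Gam (oddQ 3 F)) : ∃ (N : Gam (plusQ 4 F)) (f : F → F),
    ∀ u a, N.1 (e8 h2 (u, a)) = e8 h2 (M.1 u, f a) := by
  obtain ⟨σ, c, hM⟩ := M.2
  obtain ⟨l, hl⟩ : IsSquare c := by
    have h1 : IsSS (oddQ 3 F) σ 1 (perm 1 σ) := isSS_perm one_ne_zero fun v => by
      rw [Units.val_one, one_mulVec, one_mul]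
      rw [coe_oddQ]
      simp [quadFormOdd]
    have h3 := hM.mul h1.inv
    rw [RingEquiv.symm_trans_self] at h3
    simp only [inv_one, map_one, mul_one] at h3
    exact ClassicalGeometry.OrthSemiCount.isSquare_of_odd h2 (good_oddQ (by norm_num) h2).nondeg
      (by rw [Module.finrank_fintype_fun_eq_card]; decide) h3
  have hl0 : l ≠ 0 := fun h => hM.ne (by rw [hl, h, mul_zero])
  let N : Equiv.Perm (J8 → F) := (e8 h2).toEquiv.symm.trans
    ((Equiv.prodCongr M.1 (σ.toEquiv.trans (Equiv.mulRight₀ l hl0))).trans (e8 h2).toEquiv)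
  have hN : ∀ u a, N (e8 h2 (u, a)) = e8 h2 (M.1 u, σ a * l) := fun u a => by simp [N]
  refine ⟨⟨N, σ, c, hM.ne, fun y y' => ?_, fun t y => ?_, fun y => ?_⟩, fun a => σ a * l, hN⟩
  · obtain ⟨⟨u, a⟩, rfl⟩ := (e8 h2).surjective y
    obtain ⟨⟨u', a'⟩, rfl⟩ := (e8 h2).surjective y'
    rw [← map_add, Prod.mk_add_mk, hN, hN, hN, ← map_add, Prod.mk_add_mk, hM.add, map_add σ, add_mul]
  · obtain ⟨⟨u, a⟩, rfl⟩ := (e8 h2).surjective y
    rw [← map_smul, Prod.smul_mk, hN, hN, ← map_smul, Prod.smul_mk, hM.smul, smul_eq_mul, smul_eq_mul, map_mul σ,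
      mul_assoc]
  · obtain ⟨⟨u, a⟩, rfl⟩ := (e8 h2).surjective y
    have h3 : quadFormOdd 3 F (M.1 u) = c * σ (quadFormOdd 3 F u) := hM.form u
    rw [hN]
    show quadFormPlus 4 F _ = c * σ (quadFormPlus 4 F _)
    rw [Q_e8, Q_e8, h3, map_sub, map_mul, hl]
    ring

theorem odd_card (h2 : (2 : F) ≠ 0) : Odd (Fintype.card F) := by
  rw [Nat.odd_iff, FiniteField.odd_card_of_char_ne_two]
  intro h6
  apply h2
  have h7 := ringChar.spec F 2
  rw [h6] at h7
  exact_mod_cast h7.2 dvd_rfl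

/-- **odd characteristic** -/
theorem ex_odd (h2 : (2 : F) ≠ 0) : Ex (v0 F) := by
  have ho := odd_card h2
  have hg : Nat.gcd 2 (Fintype.card F - 1) = 2 := Nat.gcd_eq_left (by
    obtain ⟨k, hk⟩ := ho
    omega)
  have h1 : Nat.card (POmega F (quadFormOdd 3 F)) = Nat.card (PSp 3 F) := by
    have h3 := H436.oodd_eq (F := F) (m := 3) le_rfl ho
    have h4 := H436.psp_eq (F := F) (m := 3) (by norm_num)
    change 2 * _ = _ at h3
    change Nat.gcd 2 (Fintype.card F - 1) * _ = _ at h4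
    rw [hg] at h4
    exact Nat.eq_of_mul_eq_mul_left two_pos (h3.trans h4.symm)
  have h3 : Nat.card (Xw (v0 F)) ≤ Nat.card (PSp 3 F) := by
    have h4 := card_Xw (Q_v0_ne (F := F))
    rw [hg] at h4
    exact Nat.le_of_mul_le_mul_left (h4.le.trans (Nat.mul_le_mul_right _ (card_cen Q_v0_ne))) two_pos
  have h4 : Nat.card (POmega F (quadFormOdd 3 F)) ≤ Nat.card (Omega F (quadFormOdd 3 F)) :=
    Nat.card_le_card_of_surjective _ (QuotientGroup.mk'_surjective _)
  have h5 : Nat.card (Omega F (quadFormOdd 3 F)) ≤ Nat.card (Xw (v0 F)) := Nat.card_le_card_of_injective _ (exX_inj h2)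
  have b1 : Function.Bijective (exX h2) := (exX_inj h2).bijective_of_nat_card_le (by omega)
  have b2 : Function.Bijective (QuotientGroup.mk' (Subgroup.center (Omega F (quadFormOdd 3 F)))) :=
    (QuotientGroup.mk'_surjective _).bijective_of_nat_card_le (by
      show _ ≤ Nat.card (POmega F (quadFormOdd 3 F))
      omega)
  let e1 := MulEquiv.ofBijective _ b1
  let e2 : Omega F (quadFormOdd 3 F) ≃* POmega F (quadFormOdd 3 F) := MulEquiv.ofBijective _ b2
  have hs := S0295.result ho 3 le_rfl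
  refine ⟨(e1.symm.trans e2).isSimpleGroup, by omega, fun γ => ?_⟩
  obtain ⟨M, hM⟩ := surj_oddQ (F := F) (m := 3) le_rfl h2 (MulAut.congr (e1.symm.trans e2) γ)
  obtain ⟨N, f, hN⟩ := exists_ext h2 M
  refine ⟨N, fun s y => ?_⟩
  obtain ⟨t, rfl⟩ := e1.surjective s
  obtain ⟨t', ht'⟩ := exists_conj (good_oddQ (F := F) (m := 3) (by norm_num) h2) M t
  have h6 := Phi_mk (good_oddQ (F := F) (m := 3) (by norm_num) h2) M ht'
  have h7 : γ (e1 t) = e1 t' := by
    have h8 : MulAut.congr (e1.symm.trans e2) γ (e2 t) = e2 t' := by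
      rw [← hM]
      exact h6
    have h9 : e2 (e1.symm (γ (e1 t))) = e2 t' := by simpa using h8
    rw [← e2.injective h9, MulEquiv.apply_symm_apply]
  obtain ⟨⟨u, a⟩, rfl⟩ := (e8 h2).surjective y
  rw [h7, hN]
  refine (exX_apply h2 t' _ _).trans ?_
  rw [ht']
  exact ((congrArg N.1 (exX_apply h2 t u a)).trans (hN _ _)).symm

end Cfsg.Agent.SM.O8.Ext
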