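import Cfsg.Agent.SM.O8.Defs
import Cfsg.Agent.H823.O8S.Res
import Cfsg.Agent.H708.Rg.TriJ
import Cfsg.Agent.H886.O8R.Kill
import Cfsg.Agent.H955.QM5
import Cfsg.Agent.H922.OddTensorTwo

/-!
# SM (S3570), `PΩ⁺₈(q)`: tools for the geometric classes (helper89)

* `mem_St`, `lift` : stabilisers, lifts of elements of odd order;
* `sr_of`, `sr_small`, `sr_ts`, `sr_iso`, `sr_J` : criteria for `SR`;
* `tens` : tensor products give `SR`.
-/

set_option autoImplicit false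
set_option linter.unusedSectionVars false
set_option maxHeartbeats 200000

namespace Cfsg.Agent.SM.O8.G4

open Module QuadraticMap Cfsg Cfsg.Geo Cfsg.Agent.LieClassical.OrthCore Cfsg.Agent.H955 Cfsg.Agent.H954.TSing
open Cfsg.Agent.LieClassical.OmegaReindex
open Cfsg.Agent.H951 (fx cm Inv)
open Cfsg.Agent.H884.El
open Cfsg.Agent.H708.O8 (I8 T8 RB)
open Cfsg.Agent.H823.O8S (SW tp RW Fld NJ mk8 gl8 mk8_eq mk8_eq_one mem_SW le_tp lin_mul_apply)
open Cfsg.Agent.H823.O8R (FixJ FixP)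
open scoped MatrixGroups Matrix Kronecker

variable {F : Type} [Field F] [Fintype F] {r : ℕ} {R : Subgroup (T8 F)}

theorem sw_of_inv {W : Submodule F (I8 → F)} {g : GL I8 F} (h : Inv (lin g) W) : g ∈ SW W := by
  rw [mem_SW]
  apply Submodule.eq_of_le_of_finrank_eq
  · rintro _ ⟨w, hw, rfl⟩
    exact h w hw
  · exact LinearEquiv.finrank_map_eq (LieClassical.OrthFinite.glEquiv I8 F g) W

theorem inv_of_sw {W : Submodule F (I8 → F)} {g : GL I8 F} (h : g ∈ SW W) : Inv (lin g) W := fun w hw => by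
  have h1 : lin g w ∈ W.map (lin g) := Submodule.mem_map_of_mem hw
  rwa [mem_SW.1 h] at h1

theorem mem_St {W : Submodule F (I8 → F)} {y : Omega F (quadFormPlus 4 F)} : mk8 F y ∈ St W ↔ Inv (lin (gl8 F y)) W := by
  refine ⟨?_, fun h => ⟨y, sw_of_inv h, rfl⟩⟩
  rintro ⟨z, hz, h⟩
  obtain ⟨e, he⟩ := mk8_eq (y := y) (y' := z) h.symm
  intro w hw
  rw [he]
  exact W.smul_mem e (inv_of_sw hz w hw)

theorem gl8_mem {y : Omega F (quadFormPlus 4 F)} : gl8 F y ∈ pre (quadFormPlus 4 F) R ↔ mk8 F y ∈ R := mem_pre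

theorem Q_gl8 (y : Omega F (quadFormPlus 4 F)) (v : I8 → F) :
    quadFormPlus 4 F (lin (gl8 F y) v) = quadFormPlus 4 F v := H886.O8R.Q_om y v

theorem qp (v : I8 → F) : quadPlus 4 F v = quadFormPlus 4 F v := congrFun (coe_quadPlus 4 F) v

theorem exists_ns (F : Type) [Field F] [Fintype F] : ∃ v : I8 → F, quadFormPlus 4 F v = 1 := by
  obtain ⟨a, -, -, -, h, -⟩ := H886.O8R.exists_copy (Q := H886.O8R.QF F) (U := ⊤)
    (nondeg_res_top H886.O8R.nd_QF) (by rw [finrank_top, H886.O8R.finrank_I8']; norm_num) 1 0 0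
  exact ⟨a, by rw [← H886.O8R.coe_QF]; exact h⟩

/-- lifts of elements of odd order -/
theorem lift (hr : Odd r) {x : T8 F} (hx : x ^ r = 1) : ∃ y, mk8 F y = x ∧ gl8 F y ^ r = 1 := by
  obtain ⟨y, rfl⟩ := QuotientGroup.mk'_surjective (Subgroup.center (Omega F (quadFormPlus 4 F))) x
  obtain ⟨e, he⟩ := mk8_eq_one (y := y ^ r) (by rw [map_pow]; exact hx)
  obtain ⟨v, hv⟩ := exists_ns F
  have h1 : e * e = 1 := by
    have h2 := Q_gl8 (y ^ r) v
    rw [he, ← coe_quadPlus, QuadraticMap.map_smul, coe_quadPlus, hv, smul_eq_mul, mul_one] at h2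
    exact h2
  have h2 : gl8 F (y ^ r) * gl8 F (y ^ r) = 1 := by
    apply lin_injective
    rw [lin_one]
    refine LinearMap.ext fun w => ?_
    rw [lin_mul_apply, he, he, smul_smul, h1, one_smul]
    rfl
  obtain ⟨k, rfl⟩ := hr
  refine ⟨y ^ (2 * k + 1 + 1), ?_, ?_⟩
  · rw [map_pow, pow_succ]
    change (mk8 F y) ^ (2 * k + 1) * mk8 F y = mk8 F y
    rw [show (mk8 F y) ^ (2 * k + 1) = 1 from hx, one_mul]
  · rw [map_pow, ← pow_mul, mul_comm, pow_mul, ← map_pow, show 2 * k + 1 + 1 = 2 * (k + 1) by ring, pow_mul, pow_two, h2,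
      one_pow]

/-- the basic criterion -/
theorem sr_of (hr : PP (Nat.card F) 4 r) (α : MulAut (T8 F)) {W : Submodule F (I8 → F)} (h0 : W ≠ ⊥)
    (h3 : finrank F W ≤ 3) (h : ∀ x ∈ R, x ^ r = 1 → α x ∈ St W) : SR r R := by
  refine ⟨α, fun h1 => h0 (eq_bot_iff.2 ?_)⟩
  rw [← h1]
  refine le_iInf fun g => ?_
  obtain ⟨g, hg, hgr⟩ := g
  obtain ⟨y, rfl, x, hx, hxy⟩ := H823.O8S.exists_lift hg
  have h2 : y ^ r = 1 := by
    apply (isometryGroup F (quadFormPlus 4 F)).subtype_injective.comp (Omega F (quadFormPlus 4 F)).subtype_injective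
    change gl8 F (y ^ r) = gl8 F 1
    rw [map_pow, hgr, map_one]
  have h4 : x ^ r = 1 := by
    apply α.injective
    rw [map_pow, map_one, show α x = mk8 F y from hxy, ← map_pow, h2, map_one]
  have h5 := h x hx h4
  rw [show α x = mk8 F y from hxy, mem_St] at h5
  have h6 : Iso (quadPlus 4 F) (lin (gl8 F y)) r := Iso.mk' hr (by norm_num) (by rw [← H251.GeoCard.toLin_pow, hgr]; exact lin_one)
    (by rw [coe_quadPlus]; exact Q_gl8 y)
  exact h6.le_fx hr h5 (Nat.lt_succ_of_le h3)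

theorem mem_of_inv (hr : PP (Nat.card F) 4 r) {W : Submodule F (I8 → F)}
    (h : ∀ g ∈ pre (quadFormPlus 4 F) R, g ^ r = 1 → Inv (lin g) W) : ∀ x ∈ R, x ^ r = 1 → x ∈ St W := by
  intro x hx hxr
  obtain ⟨y, rfl, hy⟩ := lift (hr.odd (by norm_num)) hxr
  exact mem_St.2 (h _ (gl8_mem.2 hx) hy)

theorem sr_small (hr : PP (Nat.card F) 4 r) {W : Submodule F (I8 → F)} (h0 : W ≠ ⊥) (h3 : finrank F W ≤ 3)
    (h : ∀ g ∈ pre (quadFormPlus 4 F) R, g ^ r = 1 → Inv (lin g) W) : SR r R :=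
  sr_of hr 1 h0 h3 (mem_of_inv hr h)

theorem sr_ts (hTW : BoxTW) (hr : PP (Nat.card F) 4 r) {W : Submodule F (I8 → F)} (h0 : W ≠ ⊥)
    (hs : ∀ w ∈ W, quadFormPlus 4 F w = 0) (h : ∀ g ∈ pre (quadFormPlus 4 F) R, g ^ r = 1 → Inv (lin g) W) :
    SR r R := by
  by_cases h3 : finrank F W ≤ 3
  · exact sr_small hr h0 h3 h
  have h1 := two_mul_finrank_le H886.O8R.nd_QF (U := W) (by rw [H886.O8R.coe_QF]; exact hs)
  rw [H886.O8R.finrank_I8'] at h1
  have h2 : 2 * finrank F W ≤ 8 := h1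
  obtain ⟨α, u, hu0, -, hα⟩ := hTW F W (by omega) hs
  refine sr_of hr α (W := Submodule.span F {u}) (by rw [Ne, Submodule.span_singleton_eq_bot]; exact hu0)
    (by rw [finrank_span_singleton hu0]; norm_num) fun x hx hxr => ?_
  change α x ∈ pt u
  rw [← hα]
  exact ⟨x, mem_of_inv hr h x hx hxr, rfl⟩

/-- a subspace on which the polar form vanishes -/
theorem sr_iso (hTW : BoxTW) (hr : PP (Nat.card F) 4 r) {W : Submodule F (I8 → F)} (h3 : 3 ≤ finrank F W)
    (hs : ∀ u ∈ W, ∀ w ∈ W, polar (quadPlus 4 F) u w = 0)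
    (h : ∀ g ∈ pre (quadFormPlus 4 F) R, g ^ r = 1 → Inv (lin g) W) : SR r R := by
  let W0 : Submodule F (I8 → F) :=
    { carrier := {w | w ∈ W ∧ quadPlus 4 F w = 0}
      add_mem' := fun {u w} hu hw => ⟨W.add_mem hu.1 hw.1, by rw [Q_add, hu.2, hw.2, hs u hu.1 w hw.1]; ring⟩
      zero_mem' := ⟨W.zero_mem, map_zero _⟩
      smul_mem' := fun c w hw => ⟨W.smul_mem c hw.1, by rw [QuadraticMap.map_smul, hw.2, smul_zero]⟩ }
  obtain ⟨u, hu0, hu⟩ := exists_singular (res (quadPlus 4 F) W) h3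
  refine sr_ts hTW hr (W := W0) (fun h0 => hu0 (Subtype.ext ?_)) (fun w hw => ?_) fun g hg hgr w hw => ⟨h g hg hgr w hw.1, ?_⟩
  · have h1 : (u : I8 → F) ∈ W0 := ⟨u.2, hu⟩
    rw [h0] at h1
    exact h1
  · rw [← coe_quadPlus]
    exact hw.2
  · obtain ⟨y, rfl, -⟩ := H823.O8S.exists_lift hg
    rw [qp, Q_gl8, ← qp]
    exact hw.2

theorem sr_J {p a : ℕ} (hF : Nat.card F = p ^ a) (hr : PP (Nat.card F) 4 r) {J : Module.End F (I8 → F)} {c d : F}
    (hJ : Fld J c d) (h : ∀ g ∈ pre (quadFormPlus 4 F) R, g ^ r = 1 → g ∈ NJ J c) : SR r R := by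
  have h1 : FixJ (tp (NJ J c)) := by
    refine ⟨J, c, d, hJ, fun g hg => ?_⟩
    obtain ⟨y, rfl, z, hz, hzy⟩ := H823.O8S.exists_lift hg
    obtain ⟨e, he⟩ := mk8_eq (y := y) (y' := z) hzy.symm
    rcases hz with hz | hz
    · refine Or.inl fun v => ?_
      rw [he, he, map_smul]
      exact congrArg _ (hz v)
    · refine Or.inr fun v => ?_
      rw [he, he, map_smul, smul_comm c e, ← smul_sub]
      exact congrArg _ (hz v)
  obtain ⟨α, W, hW, -, hle⟩ := H708.Rg.tri_J hF h1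
  refine sr_of hr α (W := W) (fun h0 => by rw [h0, finrank_bot] at hW; omega) (by omega) fun x hx hxr => ?_
  obtain ⟨y, rfl, hy⟩ := lift (hr.odd (by norm_num)) hxr
  exact le_tp hle ⟨mk8 F y, ⟨y, h _ (gl8_mem.2 hx) hy, rfl⟩, rfl⟩

/-! ### tensor products -/

theorem tens_core (hTW : BoxTW) {p n : ℕ} (hF : Nat.card F = p ^ n) (hr : PP (Nat.card F) 4 r) {U : Type} [AddCommGroup U]
    [Module F U] (hU : finrank F U = 4) (L : (U × U) ≃ₗ[F] (I8 → F)) (β : U →ₗ[F] U →ₗ[F] F) {a b b' c : F}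
    (hpol : ∀ x y : U × U, polar (quadPlus 4 F) (L x) (L y) =
      a * β x.1 y.1 + b * β x.1 y.2 + b' * β x.2 y.1 + c * β x.2 y.2) (hs : b' = b ∨ a = 0)
    (hel : ∀ g ∈ pre (quadFormPlus 4 F) R, g ^ r = 1 → ∃ B : U →ₗ[F] U, ∀ x, lin g (L x) = L (B x.1, B x.2)) :
    SR r R := by
  by_cases hiso : ∃ s t : F, (s ≠ 0 ∨ t ≠ 0) ∧ a * s ^ 2 + (b + b') * s * t + c * t ^ 2 = 0
  · obtain ⟨s, t, hst, h0⟩ := hiso
    let φ : U →ₗ[F] (I8 → F) := L.toLinearMap.comp ((s • LinearMap.id).prod (t • LinearMap.id))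
    have hφ : ∀ u, φ u = L (s • u, t • u) := fun _ => rfl
    have hinj : Function.Injective φ := by
      rw [injective_iff_map_eq_zero]
      intro u hu
      rw [hφ, LinearEquiv.map_eq_zero_iff, Prod.mk_eq_zero, smul_eq_zero, smul_eq_zero] at hu
      rcases hst with h | h
      · exact hu.1.resolve_left h
      · exact hu.2.resolve_left h
    refine sr_iso hTW hr (W := LinearMap.range φ) (by rw [LinearMap.finrank_range_of_inj hinj]; omega) ?_ ?_
    · rintro _ ⟨u, rfl⟩ _ ⟨w, rfl⟩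
      rw [hφ, hφ, hpol]
      simp only [map_smul, LinearMap.smul_apply, smul_eq_mul]
      linear_combination (β u w) * h0
    · rintro g hg hgr _ ⟨u, rfl⟩
      obtain ⟨B, hB⟩ := hel g hg hgr
      exact ⟨B u, by rw [hφ, hφ, hB, map_smul, map_smul]⟩
  push Not at hiso
  have ha : a ≠ 0 := fun h0 => hiso 1 0 (Or.inl one_ne_zero) (by rw [h0]; ring)
  obtain rfl : b' = b := hs.resolve_right ha
  have h2 : (2 : F) ≠ 0 := by
    intro h2
    have hchar : CharP F 2 := CharTwo.of_one_ne_zero_of_two_eq_zero one_ne_zero h2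
    obtain ⟨s, hs⟩ := FiniteField.isSquare_of_char_two (ringChar.eq F 2) (c / a)
    refine hiso s 1 (Or.inr one_ne_zero) ?_
    have h3 : a * (s * s) = c := by rw [← hs]; field_simp
    linear_combination h3 + (b' * s + c) * h2
  let T : U × U →ₗ[F] U × U :=
    ((-b') • LinearMap.fst F U U + (-c) • LinearMap.snd F U U).prod (a • LinearMap.fst F U U + b' • LinearMap.snd F U U)
  have hT : ∀ x : U × U, T x = ((-b') • x.1 + (-c) • x.2, a • x.1 + b' • x.2) := fun _ => rfl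
  let J : Module.End F (I8 → F) := L.toLinearMap.comp (T.comp L.symm.toLinearMap)
  have hJ : ∀ x, J (L x) = L (T x) := fun x => by
    change L (T (L.symm (L x))) = _
    rw [LinearEquiv.symm_apply_apply]
  refine sr_J hF hr (J := J) (c := 0) (d := a * c - b' ^ 2) ⟨?_, fun z hz => ?_, fun v => ?_⟩ fun g hg hgr => ?_
  · refine LinearMap.ext fun v => ?_
    obtain ⟨x, rfl⟩ := L.surjective v
    rw [Module.End.mul_apply, hJ, hJ, zero_smul, zero_sub, LinearMap.neg_apply, LinearMap.smul_apply,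
      Module.End.one_apply, ← map_smul, ← map_neg, hT, hT]
    congr 1
    refine Prod.ext ?_ ?_
    · change (-b') • ((-b') • x.1 + (-c) • x.2) + (-c) • (a • x.1 + b' • x.2) = -((a * c - b' ^ 2) • x.1)
      module
    · change a • ((-b') • x.1 + (-c) • x.2) + b' • (a • x.1 + b' • x.2) = -((a * c - b' ^ 2) • x.2)
      module
  · refine hiso (z - b') a (Or.inr ha) ?_
    linear_combination a * hz
  · obtain ⟨x, rfl⟩ := L.surjective v
    rw [hJ, ← coe_quadPlus]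
    apply mul_left_cancel₀ h2
    have h3 : ∀ w, 2 * quadPlus 4 F w = polar (quadPlus 4 F) w w := fun w => by
      rw [polar_self, two_nsmul, two_mul]
    rw [mul_left_comm, h3, h3, hpol, hpol, hT]
    simp only [map_add, map_smul, LinearMap.add_apply, LinearMap.smul_apply, smul_eq_mul]
    ring
  · obtain ⟨B, hB⟩ := hel g hg hgr
    refine Or.inl fun v => ?_
    obtain ⟨x, rfl⟩ := L.surjective v
    rw [hJ, hB, hB, hJ, hT, hT]
    simp only [map_add, map_smul]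

theorem not_dvd_gl2 {d : ℕ} (ht : PP (Nat.card F) d r) (hd : 3 ≤ d) : ¬ r ∣ Nat.card (GL (Fin 2) F) := by
  classical
  intro h
  have hq : 1 < Nat.card F := Finite.one_lt_card
  rw [Matrix.card_GL_field, Fin.prod_univ_two, ← Nat.card_eq_fintype_card] at h
  have h1 : ∀ i, 0 < i → i < 3 → ¬ r ∣ Nat.card F ^ i - 1 := by
    intro i hi hi3 h2
    have := Nat.le_of_dvd hi ((ht.dvd_iff hq.le i).1 h2)
    omega
  rcases ht.prime.dvd_mul.1 h with h2 | h2
  · exact h1 2 (by norm_num) (by norm_num) (by simpa using h2)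
  · have h3 : Nat.card F ^ 2 - Nat.card F ^ 1 = Nat.card F * (Nat.card F ^ 1 - 1) := by
      rw [pow_one, Nat.mul_sub, mul_one, pow_two]
    have h4 : r ∣ Nat.card F * (Nat.card F ^ 1 - 1) := by
      rw [← h3]
      simpa using h2
    rcases ht.prime.dvd_mul.1 h4 with h5 | h5
    · exact ht.not_dvd (by omega) h5
    · exact h1 1 (by norm_num) (by norm_num) h5

theorem tens24 (hTW : BoxTW) {p n : ℕ} (hF : Nat.card F = p ^ n) (hr : PP (Nat.card F) 4 r) (e : I8 ≃ Fin 2 × Fin 4)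
    (P : GL I8 F) {ε : F} (hε : ε = 1 ∨ ε = -1) {f₁ : (Fin 2 → F) → (Fin 2 → F) → F} {f₂ : (Fin 4 → F) → (Fin 4 → F) → F}
    (h₁ : H919.HermForm (RingEquiv.refl F) ε f₁) (hT : IsTensorFormStructure id (polar (quadPlus 4 F)) f₁ f₂ e P)
    (hR : pre (quadFormPlus 4 F) R ≤ tensorProductSubgroup 2 4 e P) : SR r R := by
  obtain ⟨c, -, hc⟩ := hT
  let L : ((Fin 4 → F) × (Fin 4 → F)) ≃ₗ[F] (I8 → F) :=
    (LinearEquiv.finTwoArrow F (Fin 4 → F)).symm ≪≫ₗ (LinearEquiv.curry F F (Fin 2) (Fin 4)).symm ≪≫ₗ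
      LinearEquiv.funCongrLeft F F e ≪≫ₗ LieClassical.OrthFinite.glEquiv I8 F P
  have hL : ∀ x, L x = (P : Matrix I8 I8 F) *ᵥ ((fun i : Fin 2 × Fin 4 => ![x.1, x.2] i.1 i.2) ∘ e) := fun _ => rfl
  have hh : ∀ i j, gramMatrix f₁ i j = ε * gramMatrix f₁ j i := fun i j => h₁.herm _ _
  refine tens_core hTW hF hr (finrank_fin_fun F) L (Matrix.toBilin' (gramMatrix f₂)) (a := c * gramMatrix f₁ 0 0)
    (b := c * gramMatrix f₁ 0 1) (b' := c * gramMatrix f₁ 1 0) (c := c * gramMatrix f₁ 1 1) (fun x y => ?_) ?_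
    fun g hg hgr => ?_
  · rw [hL, hL, hc]
    simp only [formOfGram, Fintype.sum_prod_type, Fin.sum_univ_two, Matrix.toBilin'_apply, Matrix.kroneckerMap_apply, id,
      Matrix.cons_val_zero, Matrix.cons_val_one, Finset.sum_add_distrib, Finset.mul_sum, mul_add]
    simp only [← Finset.sum_add_distrib]
    exact Finset.sum_congr rfl fun _ _ => Finset.sum_congr rfl fun _ _ => by ring
  · rcases hε with rfl | rfl
    · left
      rw [hh 1 0, one_mul]
    · by_cases h2 : (2 : F) = 0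
      · left
        rw [hh 1 0]
        linear_combination (-c * gramMatrix f₁ 0 1) * h2
      · right
        have h3 : 2 * gramMatrix f₁ 0 0 = 0 := by linear_combination hh 0 0
        rw [(mul_eq_zero.1 h3).resolve_left h2, mul_zero]
  · obtain ⟨⟨x, y⟩, rfl⟩ := mem_range_kronGL e P (hR hg)
    have hone : ((x ^ r : GL (Fin 2) F) : Matrix (Fin 2) (Fin 2) F) ⊗ₖ ((y ^ r : GL (Fin 4) F) : Matrix (Fin 4) (Fin 4) F) = 1 := by
      have h3 : kronGL e P (x ^ r, y ^ r) = 1 := by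
        rw [← hgr, ← map_pow]
        rfl
      have h4 : kron 2 4 F (x ^ r, y ^ r) = 1 := by
        apply (glReindex e.symm).injective
        apply (MulAut.conj P).injective
        rw [map_one, map_one]
        exact h3
      exact congrArg Units.val h4
    obtain ⟨c₁, hc₁⟩ := H683.O8R.kron_one hone
    obtain ⟨c₂, hc₂⟩ := H683.O8R.scalar_of_pow hr.prime (not_dvd_gl2 hr (by norm_num)) hc₁
    refine ⟨c₂ • Matrix.toLin' (y : Matrix (Fin 4) (Fin 4) F), fun v => ?_⟩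
    have h1 : kronGL e P (x, y) * P = P * glReindex e.symm (kron 2 4 F (x, y)) := inv_mul_cancel_right _ _
    rw [hL, hL, lin, Matrix.toLin'_apply, Matrix.mulVec_mulVec, ← Units.val_mul, h1, Units.val_mul, ← Matrix.mulVec_mulVec,
      H922.glReindex_mulVec]
    congr 2
    funext ⟨i, j⟩
    change ((x : Matrix (Fin 2) (Fin 2) F) ⊗ₖ (y : Matrix (Fin 4) (Fin 4) F) *ᵥ _) (i, j) = _
    rw [hc₂]
    fin_cases i <;>
      simp [Matrix.mulVec, dotProduct, Fintype.sum_prod_type, Matrix.one_apply, Finset.mul_sum, mul_assoc]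

/-- **tensor products** -/
theorem tens (hTW : BoxTW) {p n : ℕ} (hF : Nat.card F = p ^ n) (hr : PP (Nat.card F) 4 r) {n₁ n₂ : ℕ}
    (e : I8 ≃ Fin n₁ × Fin n₂) (P : GL I8 F) {ε : F} (hε : ε = 1 ∨ ε = -1) {f₁ : (Fin n₁ → F) → (Fin n₁ → F) → F}
    {f₂ : (Fin n₂ → F) → (Fin n₂ → F) → F} (h1 : 2 ≤ n₁) (h2 : 2 ≤ n₂) (h12 : n₁ * n₂ = 8)
    (h₁ : H919.HermForm (RingEquiv.refl F) ε f₁) (h₂ : H919.HermForm (RingEquiv.refl F) ε f₂)
    (hT : IsTensorFormStructure id (polar (quadPlus 4 F)) f₁ f₂ e P)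
    (hR : pre (quadFormPlus 4 F) R ≤ tensorProductSubgroup n₁ n₂ e P) : SR r R := by
  have hcases : (n₁ = 2 ∧ n₂ = 4) ∨ (n₁ = 4 ∧ n₂ = 2) := by
    have h3 : n₁ ≤ 4 := by
      by_contra hcon
      push Not at hcon
      have := Nat.mul_le_mul hcon h2
      omega
    interval_cases n₁ <;> omega
  rcases hcases with ⟨rfl, rfl⟩ | ⟨rfl, rfl⟩
  · exact tens24 hTW hF hr e P hε h₁ hT hR
  · exact tens24 hTW hF hr _ P hε h₂ (H912.isTensorFormStructure_swap hT)
      (by rw [H912.tensorProductSubgroup_swap]; exact hR)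

end Cfsg.Agent.SM.O8.G4
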