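import Cfsg.Agent.SM.O8.G34
import Cfsg.Agent.H886.O8R.OrdV

/-!
# SM (S3570), `PΩ⁺₈(q)`: groups transitive on an orbit of nonsingular points, `boxGB`, `numGB` (helper89)
-/

set_option autoImplicit false
set_option linter.unusedSectionVars false
set_option maxHeartbeats 200000

namespace Cfsg.Agent.SM.O8

open Module QuadraticMap Cfsg Cfsg.Geo Cfsg.Agent.LieClassical.OrthCore Cfsg.Agent.H955 Cfsg.Agent.H954.TSing
open Cfsg.Agent.LieClassical.OmegaReindex
open Cfsg.Agent.H951 (fx cm Inv)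
open Cfsg.Agent.H884.El
open Cfsg.Agent.H708.O8 (I8 T8 RB)
open Cfsg.Agent.H823.O8S (SW mk8 gl8 mk8_eq lin_mul_apply lin_inv_apply lin_apply_inv)
open Cfsg.Agent.H886.O8R (om Xw card_orbit card_stab exists_map exists_copy)
open Cfsg.Agent.SM.Ex78 (Pd)
open scoped MatrixGroups Matrix

namespace G4

variable {F : Type} [Field F] [Fintype F] {p a r b : ℕ} {v : I8 → F}

theorem pre_St (W : Submodule F (I8 → F)) : pre (quadFormPlus 4 F) (St W) ≤ SW W := fun g hg => by
  obtain ⟨y, rfl, hy⟩ := H823.O8S.exists_lift hg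
  exact sw_of_inv (mem_St.1 hy)

theorem sign (hv : quadFormPlus 4 F v ≠ 0) {x : Omega F (quadFormPlus 4 F)} (hx : mk8 F x ∈ pt v) :
    lin (gl8 F x) v = v ∨ lin (gl8 F x) v = -v := H886.O8R.fix_of_pre hv (pre_St _) hx

/-- **the index of the stabiliser of a nonsingular point** -/
theorem index_pt (hv : quadFormPlus 4 F v ≠ 0) :
    ∃ o, o ∣ Nat.gcd 2 (Nat.card F - 1) ∧ o * (pt v).index = Nat.card F ^ 3 * (Nat.card F ^ 4 - 1) := by
  classical
  have hfin : Finite (Omega F (quadFormPlus 4 F)) := inferInstance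
  set Z : Subgroup (Omega F (quadFormPlus 4 F)) := (pt v).comap (mk8 F) with hZ
  have h1 : Z.index = (pt v).index := Subgroup.index_comap_of_surjective _ (QuotientGroup.mk'_surjective _)
  have h2 : Nat.card {u : I8 → F // ∃ x ∈ Z, om F x v = u} ≤ Nat.gcd 2 (Fintype.card F - 1) := by
    have h3 : Nat.card {u : I8 → F // ∃ x ∈ Z, om F x v = u} ≤ Nat.card ({v, -v} : Finset (I8 → F)) := by
      refine Nat.card_le_card_of_injective (fun u => ⟨u.1, ?_⟩) fun a b hab => Subtype.ext (congrArg (fun z => z.1) hab)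
      obtain ⟨u, y, hy, rfl⟩ := u
      rw [Finset.mem_insert, Finset.mem_singleton]
      exact sign hv hy
    refine h3.trans ?_
    rw [Nat.card_eq_fintype_card, Fintype.card_coe]
    by_cases h2F : (2 : F) = 0
    · have h4 : -v = v := by
        have h5 : v + v = 0 := by
          rw [← two_smul F v, h2F, zero_smul]
        exact neg_eq_of_add_eq_zero_left h5
      rw [h4, Finset.pair_eq_singleton, Finset.card_singleton]
      exact Nat.gcd_pos_of_pos_left _ (by norm_num)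
    · have h4 : Nat.gcd 2 (Fintype.card F - 1) = 2 := by
        have h5 : Fintype.card F % 2 = 1 := by
          rw [FiniteField.odd_card_of_char_ne_two]
          intro h6
          apply h2F
          have h7 := ringChar.spec F 2
          rw [h6] at h7
          exact_mod_cast h7.2 dvd_rfl
        exact Nat.gcd_eq_left (by omega)
      rw [h4]
      exact Finset.card_le_two
  have h3 := card_orbit Z v
  have h4 : Xw v ≤ Z := fun x hx => mem_St.2 fun w hw => by
    obtain ⟨c, rfl⟩ := Submodule.mem_span_singleton.1 hw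
    rw [map_smul, show lin (gl8 F x) v = v from hx]
    exact hw
  rw [inf_eq_right.2 h4] at h3
  have h5 := card_stab hv
  rw [← Z.card_mul_index, ← h3, h1] at h5
  have h6 : 0 < Nat.card Z := Nat.card_pos
  rw [Nat.card_eq_fintype_card (α := F)]
  generalize Nat.card {u : I8 → F // ∃ x ∈ Z, om F x v = u} = o at h2 h3 h5
  refine ⟨o, ?_, ?_⟩
  · have h7 : Nat.gcd 2 (Fintype.card F - 1) ≤ 2 := Nat.gcd_le_left _ two_pos
    have h8 : o ≠ 0 := by
      rintro rfl
      omega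
    rcases (by omega : o = 1 ∨ o = Nat.gcd 2 (Fintype.card F - 1)) with h9 | h9
    · rw [h9]
      exact one_dvd _
    · exact h9.dvd
  · apply Nat.eq_of_mul_eq_mul_right (Nat.card_pos (α := Xw v))
    rw [Nat.mul_sub, mul_one, ← pow_add, h5]
    ring

theorem tr_of_pd (hv : quadFormPlus 4 F v ≠ 0) {Y : Subgroup (T8 F)} (h : Pd (pt v) Y) :
    Tr (pre (quadFormPlus 4 F) Y) v := by
  intro u hu
  obtain ⟨g, hg⟩ := exists_map hv hu
  obtain ⟨y, hy, x, hx, e⟩ := h.symm (mk8 F g)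
  obtain ⟨x, rfl⟩ := QuotientGroup.mk'_surjective (Subgroup.center (Omega F (quadFormPlus 4 F))) x
  refine ⟨gl8 F (g * x⁻¹), gl8_mem.2 ?_, ?_⟩
  · rw [map_mul, map_inv, e]
    change y * mk8 F x * (mk8 F x)⁻¹ ∈ Y
    rwa [mul_inv_cancel_right]
  · have h1 : lin (gl8 F g) v = u := hg
    rw [map_mul, lin_mul_apply]
    rcases sign hv (x := x⁻¹) ((pt v).inv_mem hx) with h2 | h2
    · rw [h2, h1]
      exact Or.inl rfl
    · rw [h2, map_neg, h1]
      exact Or.inr rfl

theorem N4.not_tr {H : Subgroup (GL I8 F)} (h : N4 H) (hv : quadFormPlus 4 F v ≠ 0) : ¬ Tr H v := by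
  intro ht
  obtain ⟨W, hWn, hd, hW, -⟩ := h
  have hQ : Nondeg (quadPlus 4 F) := nondeg_iff.2 quadPlus_nondegenerate
  have h1 : finrank F W + finrank F (perp (quadPlus 4 F) W) = 8 := (finrank_add_perp hQ W).trans H886.O8R.finrank_I8'
  obtain ⟨u, hu, -, -, hu1, -⟩ := exists_copy hWn hd.ge (quadFormPlus 4 F v) 0 0
  obtain ⟨w, hw, w', -, hw1, hw2, -⟩ := exists_copy (nondeg_perp hQ hWn) (by omega) 0 1 0
  have h2 : quadPlus 4 F (u + w) = quadFormPlus 4 F v := by rw [Q_add, hu1, hw1, hw u hu]; ring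
  obtain ⟨g, hg, hgu⟩ := ht u ((qp u).symm.trans hu1)
  obtain ⟨g', hg', hgw⟩ := ht (u + w) ((qp _).symm.trans h2)
  have h3 : lin g⁻¹ u = v ∨ lin g⁻¹ u = -v := by
    rcases hgu with h | h
    · exact Or.inl (by rw [← h, lin_inv_apply])
    · exact Or.inr (by rw [← neg_neg u, ← h, map_neg, lin_inv_apply])
  have h4 : ∀ U : Submodule F (I8 → F), lin (g' * g⁻¹) u ∈ U → u + w ∈ U := by
    intro U hU
    rw [lin_mul_apply] at hU
    have h5 : lin g' v ∈ U := by
      rcases h3 with h | h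
      · rwa [h] at hU
      · rwa [h, map_neg, U.neg_mem_iff] at hU
    rcases hgw with h | h
    · rwa [h] at h5
    · rwa [h, U.neg_mem_iff] at h5
  have h5 := (isCompl_perp hWn).disjoint
  rw [Submodule.disjoint_def] at h5
  rcases hW _ (H.mul_mem hg' (H.inv_mem hg)) with h | h
  · have h6 : w = 0 := h5 w ((W.add_mem_iff_right hu).1 (h4 W (h u hu))) hw
    rw [h6, polar_zero_left] at hw2
    exact zero_ne_one hw2
  · have h6 : u = 0 := h5 u hu (((perp (quadPlus 4 F) W).add_mem_iff_left hw).1 (h4 _ (h u hu)))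
    rw [h6, map_zero] at hu1
    exact hv hu1.symm

theorem sq_dvd (q : ℕ) : q ^ 2 + 1 ∣ q ^ 4 - 1 := by
  have h := Nat.sq_sub_sq (q ^ 2) 1
  rw [one_pow, ← pow_mul] at h
  exact ⟨_, h⟩

theorem rb_dvd (h : RB p a r b) {n : ℕ} (hn : (p ^ a) ^ 2 + 1 ∣ 2 * n) : r ^ b ∣ n := by
  have h1 : r ^ b ∣ 2 * n := by
    refine dvd_trans ?_ hn
    rw [← pow_mul, mul_comm]
    exact h.dvd
  have h2 := h.five
  exact ((Nat.coprime_primes h.prim.prime Nat.prime_two).2 (by omega) |>.pow_left b).dvd_of_dvd_mul_left h1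

theorem dvd_of_pd (hv : quadFormPlus 4 F v ≠ 0) {Y : Subgroup (T8 F)} (h : Pd (pt v) Y) :
    Nat.card F ^ 3 ∣ Nat.card Y ∧ Nat.card F ^ 2 + 1 ∣ 2 * Nat.card Y := by
  obtain ⟨o, ho, h1⟩ := index_pt hv
  have h2 := h.symm.index_dvd
  refine ⟨dvd_trans ?_ h2, ?_⟩
  · have h3 : Nat.card F ^ 3 ∣ o * (pt v).index := ⟨_, h1⟩
    have h4 : Nat.Coprime (Nat.card F) (Nat.card F - 1) := by
      have h5 : 0 < Nat.card F := Nat.card_pos
      obtain ⟨m, hm⟩ : ∃ m, Nat.card F = m + 1 := ⟨_, (Nat.sub_add_cancel h5).symm⟩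
      rw [hm, Nat.add_sub_cancel]
      simp
    exact ((h4.coprime_dvd_right (ho.trans (Nat.gcd_dvd_right _ _))).pow_left 3).dvd_of_dvd_mul_left h3
  · refine ((sq_dvd _).mul_left (Nat.card F ^ 3)).trans ?_
    rw [← h1]
    exact Nat.mul_dvd_mul (ho.trans (Nat.gcd_dvd_left _ _)) h2

end G4

open G4

/-- the order of a group transitive on an orbit of nonsingular points -/
theorem numGB {F : Type} [Field F] [Fintype F] {v : I8 → F} (hv : quadFormPlus 4 F v ≠ 0) {Y : Subgroup (T8 F)}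
    (h : Pd (pt v) Y) (hb : pt v ⊓ Y ≠ ⊥) : Num (Nat.card F) (Nat.card Y) := by
  have hfin : Finite (T8 F) := Quotient.finite _
  refine ⟨(dvd_of_pd hv h).1, (dvd_of_pd hv h).2, ?_⟩
  obtain ⟨o, ho, h1⟩ := index_pt hv
  have h2 := h.symm.card_left
  have h3 : 1 < Nat.card ↥(Y ⊓ pt v) := (Subgroup.one_lt_card_iff_ne_bot _).2 (by rwa [inf_comm])
  have h4 : 0 < (pt v).index := Nat.pos_of_ne_zero Subgroup.index_ne_zero_of_finite
  have h5 : 0 < Nat.gcd 2 (Nat.card F - 1) := Nat.gcd_pos_of_pos_left _ two_pos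
  rw [← h1, ← h2]
  refine lt_of_le_of_lt (Nat.mul_le_mul_right _ (Nat.le_of_dvd h5 ho)) ?_
  exact Nat.mul_lt_mul_of_pos_left ((Nat.lt_mul_iff_one_lt_left h4).2 h3) h5

theorem rbGB {F : Type} [Field F] [Fintype F] {p a r b : ℕ} (hF : Nat.card F = p ^ a) (hr : RB p a r b) {v : I8 → F}
    (hv : quadFormPlus 4 F v ≠ 0) {Y : Subgroup (T8 F)} (h : Pd (pt v) Y) : r ^ b ∣ Nat.card Y :=
  rb_dvd hr (hF ▸ (dvd_of_pd hv h).2)

/-- **(6)** -/
theorem boxGB (hNT : BoxNT) (hTW : BoxTW) : BoxGB := by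
  intro F _ _ p a r b s k t hF h v Y hv hpd
  have ht := tr_of_pd hv hpd
  have h4 := h.rw.four
  obtain ⟨n1, n2⟩ := hNT F (pre (quadFormPlus 4 F) Y) pre_le
  rcases G4.split hTW hF h.rb h4 (rbGB hF h.rb hv hpd) with h1 | h1 | h1 | h1 | ⟨hirr, K, hK, hadj, hHK⟩
  · exact Or.inl h1
  · exact Or.inr h1
  · exact ((n2 h1).1 v hv ht).elim
  · exact (h1.not_tr hv ht).elim
  · rcases n1 hirr K hK hadj hHK with ⟨J, c, d, hJ, hle⟩ | h1
    · exact Or.inl (sr_J hF (h.rb.ppF hF) hJ fun g hg _ => hle hg)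
    · exact (h1 (by omega) v hv ht).elim

end Cfsg.Agent.SM.O8
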