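import Cfsg.Agent.SM.O8.GB
import Cfsg.Agent.H372.O8R.Ord

/-!
# SM (S3570), `PΩ⁺₈(q)`: groups transitive on the anisotropic planes, `boxGP` (helper89)
-/

set_option autoImplicit false
set_option linter.unusedSectionVars false
set_option maxHeartbeats 200000

namespace Cfsg.Agent.SM.O8

open Module QuadraticMap Cfsg Cfsg.Geo Cfsg.Agent.LieClassical.OrthCore Cfsg.Agent.H955 Cfsg.Agent.H954.TSing
open Cfsg.Agent.H951 (fx cm Inv)
open Cfsg.Agent.H884.El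
open Cfsg.Agent.H708.O8 (I8 T8 RB)
open Cfsg.Agent.H823.O8S (SW mk8 gl8 mk8_eq lin_mul_apply lin_inv_apply lin_apply_inv mem_SW)
open Cfsg.Agent.H372.O8R (Q8 coe_Q8 nd_Q8 dim_Q8 nondeg_W not_isPlus_W two_mul_dvd card_StO_dvd card_O_W card_O_perp)
open Cfsg.Agent.SM.Ex78 (Pd)
open scoped MatrixGroups Matrix

namespace G4

variable {F : Type} [Field F] [Fintype F] {p a : ℕ} {U U' : Submodule F (I8 → F)}

/-- `Ω` is transitive on the anisotropic planes -/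
theorem exists_plane (hU : finrank F U = 2) (h : An U) (hU' : finrank F U' = 2) (h' : An U') :
    ∃ g : Omega F (quadFormPlus 4 F), U.map (lin (gl8 F g)) = U' := by
  obtain ⟨c, d, hcd⟩ := exists_aniso_coeff F
  obtain ⟨e, he⟩ := exists_minus_equiv hcd 0 _ (nondeg_W hU h) hU (not_isPlus_W hU h)
  obtain ⟨e', he'⟩ := exists_minus_equiv hcd 0 _ (nondeg_W hU' h') hU' (not_isPlus_W hU' h')
  let φ : U ≃ₗ[F] U' := e.trans e'.symm
  have hφ : ∀ u, res (Q8 F) U' (φ u) = res (Q8 F) U u := fun u => by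
    rw [← he', ← he]
    exact congrArg _ (e'.apply_symm_apply _)
  let B := Module.finBasisOfFinrankEq F U hU
  have key : ∀ {W : Submodule F (I8 → F)} (C : Basis (Fin 2) F W), LinearIndependent F ![(C 0 : I8 → F), C 1] ∧
      Submodule.span F {(C 0 : I8 → F), (C 1 : I8 → F)} = W := by
    intro W C
    have h1 : (![(C 0 : I8 → F), C 1] : Fin 2 → I8 → F) = W.subtype ∘ C := by
      funext i
      fin_cases i <;> rfl
    refine ⟨h1 ▸ C.linearIndependent.map' W.subtype W.ker_subtype, ?_⟩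
    rw [← Matrix.range_cons_cons_empty _ _ ![], h1, Set.range_comp, ← Submodule.map_span, C.span_eq, Submodule.map_subtype_top]
  obtain ⟨l1, s1⟩ := key B
  obtain ⟨l2, s2⟩ := key (B.map φ)
  have hb : Q8 F (B 1) ≠ 0 := fun h0 => l1.ne_zero 1 (h _ (B 1).2 (by rw [← coe_Q8]; exact h0))
  obtain ⟨g, hg, g1, g2⟩ := H886.O8R.trans_plane nd_Q8 (by rw [dim_Q8]; norm_num) (s1.symm ▸ nondeg_W hU h) l1
    (s2.symm ▸ nondeg_W hU' h') l2 (hφ (B 0)).symm (hφ (B 1)).symm (by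
      have h1 := hφ (B 0 + B 1)
      rw [map_add] at h1
      change Q8 F (φ (B 0) + φ (B 1)) = Q8 F (B 0 + B 1) at h1
      have h2 : Q8 F (φ (B 0)) = Q8 F (B 0) := hφ (B 0)
      have h3 : Q8 F (φ (B 1)) = Q8 F (B 1) := hφ (B 1)
      rw [Q_add, Q_add, h2, h3] at h1
      exact (add_left_cancel h1).symm) hb
  obtain ⟨x, rfl⟩ := H886.O8R.exists_omega hg
  refine ⟨x, ?_⟩
  rw [← s2, ← g1, ← g2]
  conv_lhs => rw [← s1]
  rw [Submodule.map_span, Set.image_pair]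
  rfl

theorem trP_of_pd (hU : finrank F U = 2) (h : An U) {X : Subgroup (T8 F)} (hpd : Pd X (St U)) :
    TrP (pre (quadFormPlus 4 F) X) := by
  have key : ∀ W : Submodule F (I8 → F), finrank F W = 2 → An W →
      ∃ g ∈ pre (quadFormPlus 4 F) X, U.map (lin g) = W := by
    intro W hW h'
    obtain ⟨g, hg⟩ := exists_plane hU h hW h'
    obtain ⟨y, hy, x, hx, e⟩ := hpd (mk8 F g)
    obtain ⟨x, rfl⟩ := QuotientGroup.mk'_surjective (Subgroup.center (Omega F (quadFormPlus 4 F))) x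
    refine ⟨gl8 F (g * x⁻¹), gl8_mem.2 ?_, ?_⟩
    · rw [map_mul, map_inv, e]
      change y * mk8 F x * (mk8 F x)⁻¹ ∈ X
      rwa [mul_inv_cancel_right]
    · have h1 : U.map (lin (gl8 F x⁻¹)) = U := mem_SW.1 (sw_of_inv (mem_St.1 ((St U).inv_mem hx)))
      have h2 : lin (gl8 F (g * x⁻¹)) = (lin (gl8 F g)).comp (lin (gl8 F x⁻¹)) :=
        LinearMap.ext fun v => by rw [map_mul, lin_mul_apply]; rfl
      rw [h2, Submodule.map_comp, h1, hg]
  intro W W' hW h1 hW' h2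
  obtain ⟨g, hg, e⟩ := key W hW h1
  obtain ⟨g', hg', e'⟩ := key W' hW' h2
  refine ⟨g' * g⁻¹, mul_mem hg' (inv_mem hg), ?_⟩
  have h3 : (lin (g' * g⁻¹)).comp (lin g) = lin g' :=
    LinearMap.ext fun v => by rw [LinearMap.comp_apply, lin_mul_apply, lin_inv_apply]
  rw [← e, ← Submodule.map_comp, h3, e']

/-- the index of the stabiliser of an anisotropic plane -/
theorem index_plane (hF : Nat.card F = p ^ a) (hU : finrank F U = 2) (h : An U) :
    (p ^ a) ^ 6 * (((p ^ a) ^ 2 + 1) * ((p ^ a - 1) * ((p ^ a) ^ 3 - 1))) ∣ 8 * (St U).index := by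
  have h1 : 2 * Nat.card (St U) ∣ 2 * (2 * ((p ^ a + 1) *
      ((p ^ a) ^ 6 * ((p ^ a) ^ 2 - 1) * ((p ^ a) ^ 3 + 1) * ((p ^ a) ^ 4 - 1)))) := by
    refine (mul_dvd_mul_left 2 card_dvd_pre).trans ((two_mul_dvd hU h (pre_St U)).trans
      ((card_StO_dvd nd_Q8 (nondeg_W hU h)).trans ?_))
    rw [card_O_W hF hU h, card_O_perp hF hU h]
    exact dvd_of_eq (by ring)
  have h2 := Nat.dvd_of_mul_dvd_mul_left two_pos h1
  have h3 := S0293.result (F := F) (q := p ^ a) (by rw [← hF, Nat.card_eq_fintype_card]) 4 le_rfl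
  rw [← (St U).card_mul_index] at h3
  simp only [Finset.prod_range_succ, Finset.prod_range_zero, show 4 - 1 = 3 from rfl] at h3
  have hq : 1 < p ^ a := hF ▸ Finite.one_lt_card
  generalize p ^ a = q at h2 h3 hq ⊢
  obtain ⟨m, rfl⟩ : ∃ m, q = m + 1 := ⟨q - 1, by omega⟩
  have e : ∀ k c, (m + 1) ^ k = c + 1 → (m + 1) ^ k - 1 = c := fun k c h => by rw [h, Nat.add_sub_cancel]
  rw [e 2 (m * (m + 2)) (by ring), e 4 (m * (m + 2) * ((m + 1) ^ 2 + 1)) (by ring)] at h2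
  rw [e (2 * (0 + 1)) (m * (m + 2)) (by ring), e 4 (m * (m + 2) * ((m + 1) ^ 2 + 1)) (by ring),
    e (2 * (2 + 1)) (m * (m ^ 2 + 3 * m + 3) * ((m + 1) ^ 3 + 1)) (by ring)] at h3
  rw [Nat.add_sub_cancel, e 3 (m * (m ^ 2 + 3 * m + 3)) (by ring)]
  have h4 := Nat.mul_dvd_mul (Nat.gcd_dvd_left 4 (m * (m + 2) * ((m + 1) ^ 2 + 1))) (Nat.mul_dvd_mul_right h2 (St U).index)
  rw [h3] at h4
  have h5 : 0 < (m + 1 + 1) * ((m + 1) ^ 6 * (m * (m + 2)) * ((m + 1) ^ 3 + 1) * (m * (m + 2) * ((m + 1) ^ 2 + 1))) := by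
    have : 0 < m := by omega
    positivity
  apply Nat.dvd_of_mul_dvd_mul_left h5
  convert h4 using 1 <;> ring

theorem num_plane {q n : ℕ} (hq : 4 ≤ q) (hn : 0 < n) (h : q ^ 6 * ((q ^ 2 + 1) * ((q - 1) * (q ^ 3 - 1))) ∣ 8 * n) :
    Num q n := by
  have h8 : 0 < 8 := by norm_num
  have h0 : q ^ 3 ∣ n ∧ q ^ 2 + 1 ∣ 2 * n := by
    rcases Nat.even_or_odd' q with ⟨k, hk | hk⟩
    · have h1 : 8 * (q ^ 3 * (q ^ 2 + 1)) ∣ 8 * n := by
        refine dvd_trans ⟨k ^ 3 * ((q - 1) * (q ^ 3 - 1)), ?_⟩ h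
        rw [show q ^ 6 = q ^ 3 * q ^ 3 by ring]
        conv_lhs => rw [show q ^ 3 * q ^ 3 = q ^ 3 * (2 * k) ^ 3 by rw [← hk]]
        ring
      have h2 := Nat.dvd_of_mul_dvd_mul_left h8 h1
      exact ⟨(Dvd.intro _ rfl).trans h2, ((Dvd.intro_left _ rfl).trans h2).mul_left 2⟩
    · refine ⟨?_, ?_⟩
      · have h1 : Nat.Coprime (q ^ 3) (2 ^ 3) := Nat.Coprime.pow 3 3 (Nat.coprime_two_right.2 ⟨k, hk⟩)
        refine h1.dvd_of_dvd_mul_left (dvd_trans ?_ h)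
        exact (pow_dvd_pow q (by norm_num)).mul_right _
      · have h1 : q - 1 = 2 * k := by omega
        have h2 : q ^ 3 - 1 = 2 * (4 * k ^ 3 + 6 * k ^ 2 + 3 * k) := by
          rw [show q ^ 3 = 2 * (4 * k ^ 3 + 6 * k ^ 2 + 3 * k) + 1 by rw [hk]; ring, Nat.add_sub_cancel]
        rw [h1, h2] at h
        apply Nat.dvd_of_mul_dvd_mul_left (show 0 < 4 by norm_num)
        refine dvd_trans ⟨q ^ 6 * (k * (4 * k ^ 3 + 6 * k ^ 2 + 3 * k)), by ring⟩ (h.trans (dvd_of_eq (by ring)))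
  refine ⟨h0.1, h0.2, ?_⟩
  have h1 := Nat.le_of_dvd (by omega) h
  have h2 : 1 * n ≤ Nat.gcd 2 (q - 1) * n := Nat.mul_le_mul_right _ (Nat.gcd_pos_of_pos_left _ two_pos)
  have h3 : 4 ^ 3 ≤ q ^ 3 := Nat.pow_le_pow_left hq 3
  have h4 : q ^ 6 * (q ^ 2 * (3 * 63)) ≤ q ^ 6 * ((q ^ 2 + 1) * ((q - 1) * (q ^ 3 - 1))) :=
    Nat.mul_le_mul_left _ (Nat.mul_le_mul (by omega) (Nat.mul_le_mul (by omega) (by omega)))
  have h5 : q ^ 3 * (q ^ 4 - 1) ≤ q ^ 3 * q ^ 4 := Nat.mul_le_mul_left _ (Nat.sub_le _ _)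
  have h6 : q ^ 3 * q ^ 4 ≤ q ^ 6 * q ^ 2 := by
    rw [← pow_add, ← pow_add]
    exact Nat.pow_le_pow_right (by omega) (by norm_num)
  have h7 : 0 < q ^ 6 * q ^ 2 := by positivity
  rw [← mul_assoc] at h4
  omega

end G4

open G4

/-- **(7)** -/
theorem boxGP (hG : BoxG34) (hNT : BoxNT) : BoxGP := by
  intro F _ _ p a r b s k t hF h U X hU hA hpd
  have hfin : Finite (T8 F) := Quotient.finite _
  have h1 := (index_plane hF hU hA).trans (Nat.mul_dvd_mul_left 8 hpd.index_dvd)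
  have h4 := h.rw.four
  have h2 := num_plane h4 Nat.card_pos h1
  refine ⟨?_, h2⟩
  have h3 : t ∣ Nat.card X := by
    have h5 : t ∣ (p ^ a) ^ 3 - 1 := (h.t.dvd_iff (by omega) 3).2 dvd_rfl
    have h6 : Nat.Coprime t (2 ^ 3) := (Nat.coprime_two_right.2 (h.t.odd (by norm_num))).pow_right 3
    exact h6.dvd_of_dvd_mul_left ((((h5.mul_left _).mul_left _).mul_left _).trans h1)
  rcases hG F p a r b s k t hF h X (rb_dvd h.rb h2.2.1) h3 with h5 | h5 | h5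
  · exact Or.inl h5
  · exact (((hNT F _ pre_le).2 h5).2 (trP_of_pd hU hA hpd)).elim
  · exact Or.inr h5

end Cfsg.Agent.SM.O8
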