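import Cfsg.Agent.H198.TriBase
import Cfsg.Agent.H198.Classes
import Cfsg.Agent.ClassicalGeometry.Triality
import Cfsg.Agent.ClassicalGeometry.TrialitySpaces
import Cfsg.Agent.ClassicalGeometry.TrialityOct
import Cfsg.Agent.ClassicalGeometry.OrthSemi
import Cfsg.Agent.LieClassical.OrthTrans
import Cfsg.Agent.LieClassical.OrthCore

/-!
# SM-O8-7, octonion part (helper76)

For a subspace `U` of the octonions and `v` nonsingular, `DD U v` is the span of the products `x (ȳ v)`, `x, y ∈ U`, `y` nonsingular.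
It contains `v`, is not the point `⟨v⟩` if `dim U ≥ 2`, has dimension at most 4 if `dim U ≤ 3`, and is invariant under `M` for every
triple `(M, M₁, M₂)` with `M v ∈ ⟨v⟩`, `M₁ U ≤ U`.
-/

set_option autoImplicit false

namespace Cfsg.Agent.SM.O8.KU

open Module QuadraticMap Cfsg.Agent.LieClassical.OrthCore Cfsg.Agent.LieClassical.OrthTrans
  Cfsg.Agent.ClassicalGeometry.OrthSemi Cfsg.Agent.H198.Classes Cfsg.Agent.LieClassical.QuadForms
  Cfsg.Agent.ClassicalGeometry.TrialityOct Cfsg.Agent.ClassicalGeometry.Triality Cfsg.Agent.H198.TriBase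
open Cfsg.Agent.ClassicalGeometry.TrialitySpaces (leftMul rightMul polarBilin_nondegenerate)

variable {F : Type*} [Field F]

theorem lin_left (x y z : V8 F) :
    omul x (omul (oconj y) z) + omul y (omul (oconj x) z) = polar (plusForm 4 F) x y • z := by
  coord8

theorem polar_left (v z d : V8 F) :
    polar (plusForm 4 F) (omul v z) d = polar (plusForm 4 F) z (omul (oconj v) d) := by
  simp only [polar8, omul_l0, omul_l1, omul_l2, omul_l3, omul_r0, omul_r1, omul_r2, omul_r3,
    oconj_l0, oconj_l1, oconj_l2, oconj_l3, oconj_r0, oconj_r1, oconj_r2, oconj_r3]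
  ring

theorem right_cancel {a x y : V8 F} (ha : plusForm 4 F a ≠ 0) (h : omul x a = omul y a) : x = y := by
  have h1 := congrArg (fun z => omul z (oconj a)) h
  simp only [omul_omul_oconj] at h1
  exact smul_right_injective _ ha h1

theorem finrank8 : finrank F (V8 F) = 8 := by simp

/-- the span of the products `x (ȳ v)` -/
def DD (U : Submodule F (V8 F)) (v : V8 F) : Submodule F (V8 F) :=
  Submodule.span F {d | ∃ x ∈ U, ∃ y ∈ U, plusForm 4 F y ≠ 0 ∧ d = omul x (omul (oconj y) v)}

theorem mem_DD {U : Submodule F (V8 F)} (v : V8 F) {x y : V8 F} (hx : x ∈ U) (hy : y ∈ U) (h : plusForm 4 F y ≠ 0) :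
    omul x (omul (oconj y) v) ∈ DD U v := Submodule.subset_span ⟨x, hx, y, hy, h, rfl⟩

theorem self_mem_DD {U : Submodule F (V8 F)} (v : V8 F) {y : V8 F} (hy : y ∈ U) (h : plusForm 4 F y ≠ 0) :
    v ∈ DD U v := by
  have h1 := (DD U v).smul_mem (plusForm 4 F y)⁻¹ (mem_DD v hy hy h)
  rwa [omul_oconj_omul, smul_smul, inv_mul_cancel₀ h, one_smul] at h1

theorem exists_DD {U : Submodule F (V8 F)} {v y : V8 F} (hv : plusForm 4 F v ≠ 0) (hy : y ∈ U)
    (h : plusForm 4 F y ≠ 0) (h2 : 2 ≤ finrank F U) : ∃ d ∈ DD U v, d ∉ Submodule.span F {v} := by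
  by_contra hcon
  push Not at hcon
  have hz : plusForm 4 F (omul (oconj y) v) ≠ 0 := by
    rw [norm_omul, norm_oconj]
    exact mul_ne_zero h hv
  have h1 : U ≤ Submodule.span F {y} := by
    intro x hx
    obtain ⟨c, hc⟩ := Submodule.mem_span_singleton.1 (hcon _ (mem_DD v hx hy h))
    refine Submodule.mem_span_singleton.2 ⟨c * (plusForm 4 F y)⁻¹, right_cancel hz ?_⟩
    rw [smul_omul, omul_oconj_omul, smul_smul, mul_assoc, inv_mul_cancel₀ h, mul_one, hc]
  have h3 := Submodule.finrank_mono h1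
  have h4 : finrank F (Submodule.span F {y}) ≤ 1 := by
    have := finrank_span_le_card (R := F) ({y} : Set (V8 F))
    simpa using this
  omega

theorem exists_three {V : Type*} [AddCommGroup V] [Module F V] [FiniteDimensional F V] {U : Submodule F V}
    (h : finrank F U ≤ 3) : ∃ f : Fin 3 → V, U ≤ Submodule.span F (Set.range f) := by
  obtain ⟨f, -, hf, -⟩ := Submodule.exists_fun_fin_finrank_span_eq F (U : Set V)
  have h1 : finrank F (Submodule.span F (U : Set V)) ≤ 3 := by rwa [Submodule.span_eq]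
  refine ⟨fun i => if hi : i.1 < finrank F (Submodule.span F (U : Set V)) then f ⟨i.1, hi⟩ else 0, ?_⟩
  refine ((hf.trans (Submodule.span_eq U)).symm.le).trans (Submodule.span_mono ?_)
  rintro _ ⟨k, rfl⟩
  refine ⟨⟨k.1, lt_of_lt_of_le k.2 h1⟩, ?_⟩
  simp only [k.2, dif_pos]

theorem finrank_DD {U : Submodule F (V8 F)} (v : V8 F) (h : finrank F U ≤ 3) : finrank F (DD U v) ≤ 4 := by
  obtain ⟨f, hf⟩ := exists_three h
  let p : Fin 3 → Fin 3 → V8 F := fun i j => omul (f i) (omul (oconj (f j)) v)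
  let S : Submodule F (V8 F) := Submodule.span F (Set.range ![v, p 0 1, p 0 2, p 1 2])
  have hv : v ∈ S := Submodule.subset_span ⟨0, rfl⟩
  have h01 : p 0 1 ∈ S := Submodule.subset_span ⟨1, rfl⟩
  have h02 : p 0 2 ∈ S := Submodule.subset_span ⟨2, rfl⟩
  have h12 : p 1 2 ∈ S := Submodule.subset_span ⟨3, rfl⟩
  have hii : ∀ i, p i i ∈ S := fun i => by
    change omul (f i) (omul (oconj (f i)) v) ∈ S
    rw [omul_oconj_omul]
    exact S.smul_mem _ hv
  have hsw : ∀ i j, p i j ∈ S → p j i ∈ S := fun i j hij => by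
    have e : p j i = polar (plusForm 4 F) (f i) (f j) • v - p i j := by
      rw [← lin_left, add_sub_cancel_left]
    rw [e]
    exact S.sub_mem (S.smul_mem _ hv) hij
  have hp : ∀ i j, p i j ∈ S := by
    intro i j
    fin_cases i <;> fin_cases j
    exacts [hii 0, h01, h02, hsw _ _ h01, hii 1, h12, hsw _ _ h02, hsw _ _ h12, hii 2]
  have h1 : ∀ j, ∀ x ∈ Submodule.span F (Set.range f), omul x (omul (oconj (f j)) v) ∈ S := by
    intro j
    have : Submodule.span F (Set.range f) ≤ S.comap (rightMul (omul (oconj (f j)) v)) := by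
      rw [Submodule.span_le]
      rintro _ ⟨i, rfl⟩
      exact hp i j
    exact fun x hx => this hx
  have h2 : ∀ x ∈ Submodule.span F (Set.range f), ∀ y ∈ Submodule.span F (Set.range f),
      omul x (omul (oconj y) v) ∈ S := by
    intro x hx
    have : Submodule.span F (Set.range f) ≤
        S.comap ((leftMul x).comp ((rightMul v).comp (kap F).toLinearMap)) := by
      rw [Submodule.span_le]
      rintro _ ⟨j, rfl⟩
      exact h1 j x hx
    exact fun y hy => this hy
  have h3 : DD U v ≤ S := by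
    rw [DD, Submodule.span_le]
    rintro _ ⟨x, hx, y, hy, -, rfl⟩
    exact h2 x (hf hx) y (hf hy)
  have h4 : finrank F S ≤ 4 := by
    have := finrank_range_le_card (R := F) ![v, p 0 1, p 0 2, p 1 2]
    rwa [Fintype.card_fin] at this
  exact (Submodule.finrank_mono h3).trans h4

/-- invariance under triples -/
theorem inv_DD {U : Submodule F (V8 F)} {v : V8 F} {M M₁ M₂ : G8 F} (h : TriS M M₁ M₂)
    (hv : M.1 v ∈ Submodule.span F {v}) (hU : ∀ u ∈ U, M₁.1 u ∈ U) : ∀ d ∈ DD U v, M.1 d ∈ DD U v := by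
  obtain ⟨σ, c, hM⟩ := M.2
  obtain ⟨σ₁, c₁, hM₁⟩ := M₁.2
  obtain ⟨l, hl⟩ := Submodule.mem_span_singleton.1 hv
  intro d hd
  induction hd using Submodule.span_induction with
  | mem d hd =>
    obtain ⟨x, hx, y, hy, hQ, rfl⟩ := hd
    have hQ' : plusForm 4 F (M₁.1 y) ≠ 0 := by
      rw [hM₁.form]
      exact mul_ne_zero hM₁.ne ((map_ne_zero σ₁).2 hQ)
    have h1 := h y (omul (oconj y) v)
    rw [omul_oconj_omul, hM.smul, ← hl, smul_smul] at h1
    have h2 := congrArg (omul (oconj (M₁.1 y))) h1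
    rw [oconj_omul_omul, omul_smul] at h2
    have h3 : M₂.1 (omul (oconj y) v) =
        ((plusForm 4 F (M₁.1 y))⁻¹ * (σ (plusForm 4 F y) * l)) • omul (oconj (M₁.1 y)) v := by
      rw [mul_smul, h2, smul_smul, inv_mul_cancel₀ hQ', one_smul]
    rw [h, h3, omul_smul]
    exact (DD U v).smul_mem _ (mem_DD v (hU x hx) (hU y hy) hQ')
  | zero => rw [hM.map_zero]; exact (DD U v).zero_mem
  | add x y _ _ hx hy => rw [hM.add]; exact (DD U v).add_mem hx hy
  | smul a x _ hx => rw [hM.smul]; exact (DD U v).smul_mem _ hx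

/-! ### an element which fixes `v` and moves `D` -/

theorem exists_sing {v d : V8 F} (hv : plusForm 4 F v ≠ 0) (hd : d ∉ Submodule.span F {v}) :
    ∃ u, plusForm 4 F u = 0 ∧ polar (plusForm 4 F) u v = 0 ∧ polar (plusForm 4 F) u d ≠ 0 := by
  by_contra hcon
  push Not at hcon
  set e := omul (oconj v) d with he
  have key : ∀ z : V8 F, plusForm 4 F z = 0 → z (.inl 0) + z (.inr 0) = 0 → polar (plusForm 4 F) z e = 0 := by
    intro z hz hz1
    rw [he, ← polar_left]
    refine hcon _ (by rw [norm_omul, hz, mul_zero]) ?_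
    have h1 : omul (oconj v) v = plusForm 4 F v • one8 F := by
      rw [← oconj_omul_omul, omul_one]
    rw [polar_left, h1, polar_smul_right, polar8]
    simp only [one8, Sum.elim_inl, Sum.elim_inr, Matrix.cons_val_zero, Matrix.cons_val_one, Matrix.cons_val,
      mul_zero, zero_mul, add_zero, mul_one, one_mul, hz1, smul_zero]
  have k1 := key (Sum.elim ![0, 1, 0, 0] ![0, 0, 0, 0]) (by rw [norm8]; simp) (by simp)
  have k2 := key (Sum.elim ![0, 0, 1, 0] ![0, 0, 0, 0]) (by rw [norm8]; simp) (by simp)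
  have k3 := key (Sum.elim ![0, 0, 0, 1] ![0, 0, 0, 0]) (by rw [norm8]; simp) (by simp)
  have k4 := key (Sum.elim ![0, 0, 0, 0] ![0, 1, 0, 0]) (by rw [norm8]; simp) (by simp)
  have k5 := key (Sum.elim ![0, 0, 0, 0] ![0, 0, 1, 0]) (by rw [norm8]; simp) (by simp)
  have k6 := key (Sum.elim ![0, 0, 0, 0] ![0, 0, 0, 1]) (by rw [norm8]; simp) (by simp)
  have k7 := key (Sum.elim ![1, 1, 0, 0] ![-1, 1, 0, 0]) (by rw [norm8]; simp) (by simp)
  rw [polar8] at k1 k2 k3 k4 k5 k6 k7
  simp only [Sum.elim_inl, Sum.elim_inr, Matrix.cons_val_zero, Matrix.cons_val_one, Matrix.cons_val,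
    mul_zero, zero_mul, add_zero, zero_add, mul_one, one_mul] at k1 k2 k3 k4 k5 k6 k7
  have h1 : e = e (.inl 0) • one8 F := by
    apply ext8 <;>
      simp only [one8, Pi.smul_apply, Sum.elim_inl, Sum.elim_inr, Matrix.cons_val_zero, Matrix.cons_val_one,
        Matrix.cons_val, smul_eq_mul, mul_zero, mul_one, k1, k2, k3, k4, k5, k6]
    linear_combination k7 - k1 - k4
  have h2 := omul_oconj_omul v d
  rw [← he, h1, omul_smul, omul_one] at h2
  refine hd (Submodule.mem_span_singleton.2 ⟨(plusForm 4 F v)⁻¹ * e (.inl 0), ?_⟩)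
  rw [mul_smul, h2, smul_smul, inv_mul_cancel₀ hv, one_smul]

theorem exists_move {D : Submodule F (V8 F)} {v d : V8 F} (hv : plusForm 4 F v ≠ 0) (hdD : d ∈ D)
    (hd : d ∉ Submodule.span F {v}) (h4 : finrank F D ≤ 4) :
    ∃ g ∈ E (plusForm 4 F), g v = v ∧ ∃ d ∈ D, g d ∉ D := by
  obtain ⟨u, hu, huv, hud⟩ := exists_sing hv hd
  by_contra hcon
  push Not at hcon
  let W : Submodule F (V8 F) := LinearMap.BilinForm.orthogonal (polarBilin (plusForm 4 F))
    (Submodule.span F (Set.range ![u, v]))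
  have h1 : W ≤ D ⊔ Submodule.span F {u} := by
    intro w hw
    have hw1 : polar (plusForm 4 F) u w = 0 := hw u (Submodule.subset_span ⟨0, rfl⟩)
    have hw2 : polar (plusForm 4 F) w v = 0 := by
      rw [polar_comm]
      exact hw v (Submodule.subset_span ⟨1, rfl⟩)
    have h2 := hcon _ (siegel_mem_E hu hw1) (by rw [siegel_apply, huv, hw2]; simp) d hdD
    have h3 : w = (polar (plusForm 4 F) u d)⁻¹ • (siegel (plusForm 4 F) u w hu hw1 d - d) +
        ((polar (plusForm 4 F) u d)⁻¹ * polar (plusForm 4 F) w d + plusForm 4 F w) • u := by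
      rw [siegel_apply]
      match_scalars
      · field_simp
      · ring
      · field_simp
        ring
    rw [h3]
    exact Submodule.add_mem_sup (D.smul_mem _ (D.sub_mem h2 hdD))
      (Submodule.smul_mem _ _ (Submodule.mem_span_singleton_self u))
  have h2 : finrank F W = finrank F (V8 F) - finrank F (Submodule.span F (Set.range ![u, v])) :=
    LinearMap.BilinForm.finrank_orthogonal (polarBilin_nondegenerate (F := F)) (Submodule.span F (Set.range ![u, v]))
  have h3 : finrank F (Submodule.span F (Set.range ![u, v])) ≤ 2 := by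
    have := finrank_range_le_card (R := F) ![u, v]
    rwa [Fintype.card_fin] at this
  have h5 : finrank F (Submodule.span F {u}) ≤ 1 := by
    have := finrank_span_le_card (R := F) ({u} : Set (V8 F))
    simpa using this
  have h6 : finrank F W ≤ finrank F ↥(D ⊔ Submodule.span F {u}) := Submodule.finrank_mono h1
  have h7 : finrank F ↥(D ⊔ Submodule.span F {u}) ≤ finrank F D + finrank F (Submodule.span F {u}) :=
    Submodule.finrank_add_le_finrank_add_finrank D (Submodule.span F {u})
  have h8 := finrank8 (F := F)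
  omega

/-! ### an element which fixes `D` pointwise and moves `U` in the second module -/

theorem conic [Finite F] (hq : 4 ≤ Nat.card F) (β γ : F) :
    ∃ l m : F, l ≠ 0 ∧ l ^ 2 * γ + l * m * β + m ^ 2 = 1 := by
  by_cases h : (2 : F) = 0 ∧ β = 0
  · have h2 : ringChar F = 2 := by
      have : CharP F 2 := CharTwo.of_one_ne_zero_of_two_eq_zero one_ne_zero h.1
      exact ringChar.eq F 2
    obtain ⟨r, hr⟩ := FiniteField.isSquare_of_char_two h2 γ
    refine ⟨1, 1 + r, one_ne_zero, ?_⟩
    rw [h.2, hr]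
    linear_combination (r + r ^ 2) * h.1
  · let p : Polynomial F := (Polynomial.X ^ 2 - Polynomial.C β * Polynomial.X + Polynomial.C γ) *
      (Polynomial.C 2 * Polynomial.X - Polynomial.C β)
    have h1 : (Polynomial.X ^ 2 - Polynomial.C β * Polynomial.X + Polynomial.C γ : Polynomial F) ≠ 0 := by
      intro h0
      have := congrArg (fun f => Polynomial.coeff f 2) h0
      simp at this
    have h2 : (Polynomial.C 2 * Polynomial.X - Polynomial.C β : Polynomial F) ≠ 0 := by
      intro h0
      have k0 := congrArg (fun f => Polynomial.coeff f 0) h0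
      have k1 := congrArg (fun f => Polynomial.coeff f 1) h0
      simp [Polynomial.coeff_X, Polynomial.coeff_C] at k0 k1
      exact h ⟨k1, k0⟩
    have h3 : p.natDegree ≤ 3 := by
      simp only [p]
      compute_degree
    have h4 : (p.natDegree : Cardinal) < Cardinal.mk F := by
      rw [← Nat.cast_card]
      exact_mod_cast (by omega : p.natDegree < Nat.card F)
    obtain ⟨m, hm⟩ := Polynomial.exists_eval_ne_zero_of_natDegree_lt_card p (mul_ne_zero h1 h2) h4
    simp only [p, Polynomial.eval_mul, Polynomial.eval_add, Polynomial.eval_sub, Polynomial.eval_pow, Polynomial.eval_X,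
      Polynomial.eval_C] at hm
    have h5 := left_ne_zero_of_mul hm
    have h6 := right_ne_zero_of_mul hm
    have h7 := div_mul_cancel₀ (2 * m - β) h5
    refine ⟨(2 * m - β) / (m ^ 2 - β * m + γ), 1 - m * ((2 * m - β) / (m ^ 2 - β * m + γ)), div_ne_zero h6 h5, ?_⟩
    generalize (2 * m - β) / (m ^ 2 - β * m + γ) = l at h7 ⊢
    linear_combination l * h7

theorem le_of_norm [Finite F] (hq : 4 ≤ Nat.card F) {V : Type*} [AddCommGroup V] [Module F V] {Q : QuadraticForm F V}
    {W S : Submodule F V} {b : V} (hb : b ∈ W) (hQ : Q b ≠ 0) (h : ∀ a ∈ W, Q a = Q b → a ∈ S) : W ≤ S := by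
  intro x hx
  obtain ⟨l, m, hl, hlm⟩ := conic hq (polar Q x b / Q b) (Q x / Q b)
  have h1 : l • x + m • b ∈ S := by
    refine h _ (W.add_mem (W.smul_mem _ hx) (W.smul_mem _ hb)) ?_
    rw [Q_add, QuadraticMap.map_smul, QuadraticMap.map_smul, polar_smul_left, polar_smul_right]
    simp only [smul_eq_mul]
    field_simp at hlm
    linear_combination hlm
  have h2 : x = l⁻¹ • ((l • x + m • b) - m • b) := by
    rw [add_sub_cancel_right, smul_smul, inv_mul_cancel₀ hl, one_smul]
  rw [h2]
  exact S.smul_mem _ (S.sub_mem h1 (S.smul_mem _ (h b hb rfl)))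

theorem exists_fix [Finite F] (hq : 4 ≤ Nat.card F) (hG : Good (plusForm 4 F)) {D U : Submodule F (V8 F)} {v y : V8 F}
    (hv : plusForm 4 F v ≠ 0) (hvD : v ∈ D) (h4 : finrank F D ≤ 4) (hy : y ∈ U) (hQ : plusForm 4 F y ≠ 0)
    (h3 : finrank F U ≤ 3) :
    ∃ g : O (plusForm 4 F), g.1 ∈ E (plusForm 4 F) ∧ (∀ d ∈ D, g.1 d = d) ∧
      ∃ M₁ M₂ : G8 F, TriS (gamO _ g) M₁ M₂ ∧ ∃ u ∈ U, M₁.1 u ∉ U := by
  set W : Submodule F (V8 F) := LinearMap.BilinForm.orthogonal (polarBilin (plusForm 4 F)) D with hW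
  have h8 := finrank8 (F := F)
  have hdim : 4 ≤ finrank F W := by
    have h2 : finrank F W = finrank F (V8 F) - finrank F D :=
      LinearMap.BilinForm.finrank_orthogonal (polarBilin_nondegenerate (F := F)) D
    omega
  obtain ⟨b, hb, hQb⟩ : ∃ b ∈ W, plusForm 4 F b ≠ 0 := by
    by_contra hcon
    push Not at hcon
    have hrefl : (polarBilin (plusForm 4 F)).IsRefl := fun x y hxy => by
      change polar (plusForm 4 F) y x = 0
      rw [polar_comm]
      exact hxy
    have h1 : W ≤ D := by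
      rw [← LinearMap.BilinForm.orthogonal_orthogonal (polarBilin_nondegenerate (F := F)) hrefl D, ← hW]
      intro w hw x hx
      change polar (plusForm 4 F) x w = 0
      rw [polar, hcon _ (W.add_mem hx hw), hcon x hx, hcon w hw]
      simp
    have h2 : W = D := Submodule.eq_of_le_of_finrank_le h1 (by omega)
    exact hv (hcon v (by rw [h2]; exact hvD))
  by_contra hcon
  push Not at hcon
  have hz : plusForm 4 F (omul (oconj b) y) ≠ 0 := by
    rw [norm_omul, norm_oconj]
    exact mul_ne_zero hQb hQ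
  have h1 : W ≤ U.comap (rightMul (omul (oconj b) y)) := by
    refine le_of_norm hq hb hQb fun a ha hab => ?_
    have hQa : plusForm 4 F a ≠ 0 := by rw [hab]; exact hQb
    have h2 := hcon ⟨refl _ a hQa * refl _ b hQb, mul_mem (refl_mem_O hQa) (refl_mem_O hQb)⟩
      (hG.refl_mul_refl_mem hQb hQa hab.symm) (fun d hd => by
        have e1 : polar (plusForm 4 F) b d = 0 := by rw [polar_comm]; exact hb d hd
        have e2 : polar (plusForm 4 F) a d = 0 := by rw [polar_comm]; exact ha d hd
        change refl _ a hQa (refl _ b hQb d) = d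
        rw [refl_apply hQb, e1, mul_zero, zero_smul, sub_zero, refl_apply hQa, e2, mul_zero, zero_smul, sub_zero])
      (gamO _ ⟨tri1 hQb hab rfl, tri1_mem hQb hab rfl⟩) (gamO _ ⟨tri2 hQb hab rfl, tri2_mem hQb hab rfl⟩)
      (tri_refl hQb hab rfl hQa hQb) y hy
    have h5 : (plusForm 4 F b)⁻¹ • omul a (omul (oconj b) y) ∈ U := h2
    have h6 := U.smul_mem (plusForm 4 F b) h5
    rwa [smul_smul, mul_inv_cancel₀ hQb, one_smul] at h6
  have h2 : W.map (rightMul (omul (oconj b) y)) ≤ U := Submodule.map_le_iff_le_comap.2 h1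
  have h5 : finrank F (W.map (rightMul (omul (oconj b) y))) ≤ finrank F U := Submodule.finrank_mono h2
  have h6 : finrank F (W.map (rightMul (omul (oconj b) y))) = finrank F W :=
    (Submodule.equivMapOfInjective _ (fun x x' hx => right_cancel hz hx) W).finrank_eq.symm
  omega

end Cfsg.Agent.SM.O8.KU
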