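import Cfsg.Agent.SM.O8.Defs
import Cfsg.Agent.SM.O8.KUOct
import Cfsg.Agent.H198.TriAut
import Cfsg.Agent.H198.TriBase
import Cfsg.Agent.H198.OrthFrame
import Cfsg.Agent.H198.Carriers
import Cfsg.Agent.H198.Classes
import Cfsg.Agent.AutOrth.Main
import Cfsg.Agent.H823.O8S.Defs
import Cfsg.Agent.H884.ElLin

/-!
# SM-O8-7: `boxKU` (helper76)

`Ω₇(q)` is not primitive on the planes and 3-spaces of the spin module: the subspace `DD U v` of `KUOct` is transported along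
`α = Ψ(A) τ Ψ(B)`.
-/

set_option autoImplicit false
set_option linter.unusedSectionVars false

namespace Cfsg.Agent.SM.O8.KU

open Module QuadraticMap Cfsg Cfsg.Agent.LieClassical.OrthCore Cfsg.Agent.LieClassical.OrthTrans
  Cfsg.Agent.ClassicalGeometry.OrthSemi Cfsg.Agent.H198.Classes Cfsg.Agent.LieClassical.QuadForms
  Cfsg.Agent.ClassicalGeometry.Triality Cfsg.Agent.H198.TriBase Cfsg.Agent.H198.TriAut
open Cfsg.Agent.H884.El (lin)
open Cfsg.Agent.H708.O8 (I8 T8)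
open Cfsg.Agent.H823.O8S (SW tp)
open Cfsg.Agent.H198.Carriers (plusQ good_plusQ plusQ_eq)
open Cfsg.Agent.H198.OrthFrame (Phi Phi_mk Phi_eq_one_iff)
open Cfsg.Agent.AutOrth.Main (oe pe oe_apply)
open scoped MatrixGroups Matrix

section res

variable {F V : Type*} [Field F] [AddCommGroup V] [Module F V] {Q : QuadraticForm F V} {A : Type*} [Group A]

/-- the three properties of `D` -/
structure Res (φ : Gam Q →* A) (α : A) (v : V) (U D : Submodule F V) : Prop where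
  h2 : ∃ g ∈ E Q, g v = v ∧ ∃ d ∈ D, g d ∉ D
  h3 : ∃ g : O Q, g.1 ∈ E Q ∧ g.1 v = v ∧ (∀ d ∈ D, g.1 d ∈ D) ∧
    ∃ M' : Gam Q, φ M' = α * φ (gamO Q g) * α⁻¹ ∧ ∃ u ∈ U, M'.1 u ∉ U
  h4 : ∀ M M' : Gam Q, φ M' = α * φ M * α⁻¹ → M.1 v ∈ Submodule.span F {v} → (∀ u ∈ U, M'.1 u ∈ U) →
    ∀ d ∈ D, M.1 d ∈ D

theorem Res.trans {φ : Gam Q →* A} {α : A} {v : V} {U D : Submodule F V} (X Y : Gam Q)
    (h : Res φ α (Y.1 v) (img X⁻¹ U) D) : Res φ (φ X * α * φ Y) v U (img Y⁻¹ D) := by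
  have eY : ∀ w, (Y⁻¹).1 (Y.1 w) = w := fun w => inv_apply Y.1 w
  have eY' : ∀ w, Y.1 ((Y⁻¹).1 w) = w := fun w => apply_inv Y.1 w
  have eX : ∀ w, (X⁻¹).1 (X.1 w) = w := fun w => inv_apply X.1 w
  have eX' : ∀ w, X.1 ((X⁻¹).1 w) = w := fun w => apply_inv X.1 w
  have hfix : ∀ g : V ≃ₗ[F] V, g (Y.1 v) = Y.1 v → conjLin Y⁻¹ g v = v := fun g hg => by
    have h1 := conjLin_apply' Y⁻¹ g (Y.1 v)
    rwa [hg, eY] at h1
  refine ⟨?_, ?_, ?_⟩
  · obtain ⟨g, hg, hv, d, hd, hgd⟩ := h.h2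
    refine ⟨conjLin Y⁻¹ g, conjLin_mem_E _ hg, hfix g hv, (Y⁻¹).1 d, apply_mem_img.2 hd, ?_⟩
    rw [conjLin_apply', apply_mem_img]
    exact hgd
  · obtain ⟨g, hg, hv, hD, M', hM', u, hu, hMu⟩ := h.h3
    refine ⟨⟨conjLin Y⁻¹ g.1, E_le_O (conjLin_mem_E _ hg)⟩, conjLin_mem_E _ hg, hfix g.1 hv, ?_, X * M' * X⁻¹, ?_, ?_⟩
    · rintro _ ⟨d, hd, rfl⟩
      change conjLin Y⁻¹ g.1 _ ∈ _
      rw [conjLin_apply', apply_mem_img]
      exact hD d hd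
    · have e : gamO Q ⟨conjLin Y⁻¹ g.1, E_le_O (conjLin_mem_E _ hg)⟩ = Y⁻¹ * gamO Q g * Y := by
        apply Subtype.ext
        ext1 w
        change (Y⁻¹).1 (g.1 ((Y.1⁻¹)⁻¹ w)) = (Y⁻¹).1 (g.1 (Y.1 w))
        rw [inv_inv]
      rw [e, map_mul, map_mul, map_mul, map_mul, hM', map_inv, map_inv]
      group
    · obtain ⟨u, hu, rfl⟩ := hu
      refine ⟨u, hu, fun h1 => hMu ?_⟩
      have h2 : X.1 (M'.1 ((X⁻¹).1 u)) ∈ U := h1
      exact ⟨_, h2, eX _⟩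
  · intro M M' hM hv hU
    rintro _ ⟨d, hd, rfl⟩
    have h1 := h.h4 (Y * M * Y⁻¹) (X⁻¹ * M' * X) (by
      rw [map_mul, map_mul, map_mul, map_mul, hM, map_inv, map_inv]
      group) (by
      change Y.1 (M.1 ((Y⁻¹).1 (Y.1 v))) ∈ _
      obtain ⟨c, hc⟩ := Submodule.mem_span_singleton.1 hv
      obtain ⟨σ, e, hY⟩ := Y.2
      rw [eY, ← hc, hY.smul]
      exact Submodule.smul_mem _ _ (Submodule.mem_span_singleton_self _)) (by
      rintro _ ⟨u, hu, rfl⟩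
      change (X⁻¹).1 (M'.1 (X.1 ((X⁻¹).1 u))) ∈ _
      rw [eX', apply_mem_img]
      exact hU u hu) d hd
    exact ⟨_, h1, eY _⟩

theorem Res.congr {A' : Type*} [Group A'] {φ : Gam Q →* A} {α : A} {v : V} {U D : Submodule F V} (j : A ≃* A')
    (h : Res φ α v U D) : Res (j.toMonoidHom.comp φ) (j α) v U D := by
  have key : ∀ M M' : Gam Q, j (φ M') = j α * j (φ M) * (j α)⁻¹ ↔ φ M' = α * φ M * α⁻¹ := fun M M' => by
    rw [← map_inv, ← map_mul, ← map_mul, j.injective.eq_iff]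
  refine ⟨h.h2, ?_, fun M M' hM => h.h4 M M' ((key M M').1 hM)⟩
  obtain ⟨g, hg, hv, hD, M', hM', hu⟩ := h.h3
  exact ⟨g, hg, hv, hD, M', (key _ _).2 hM', hu⟩

end res

section tau

variable {F : Type*} [Field F]

theorem exists_tri (hG : Good (plusForm 4 F)) {M M' : G8 F} (h : Psi _ M' = tau hG * Psi _ M * (tau hG)⁻¹) :
    ∃ M₂, TriS M M' M₂ := by
  rcases mem_S1 hG M with ⟨-, M₁, M₂, h1⟩ | ⟨-, N₁, N₂, h1⟩
  · have h2 : M' * M₁⁻¹ ∈ (Psi (plusForm 4 F)).ker := by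
      rw [MonoidHom.mem_ker, map_mul, map_inv, h, tau_conj hG h1, mul_inv_cancel]
    rw [ker_Psi hG] at h2
    obtain ⟨a, ha⟩ := h2
    have h3 : M' = scal _ a * M₁ := by rw [ha, inv_mul_cancel_right]
    refine ⟨scal _ a⁻¹ * M₂, fun x y => ?_⟩
    rw [h1, h3]
    change _ = ClassicalGeometry.TrialityOct.omul ((a : F) • M₁.1 x) (((a⁻¹ : Fˣ) : F) • M₂.1 y)
    rw [ClassicalGeometry.TrialityOct.smul_omul, ClassicalGeometry.TrialityOct.omul_smul, smul_smul, Units.mul_inv,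
      one_smul]
  · exfalso
    apply rho_inv_not_mem hG
    have h2 := tau_conj hG h1
    rw [map_mul] at h2
    have h3 : (rho hG)⁻¹ = Psi _ (kapG F) * ((Psi _ M')⁻¹ * Psi _ N₁) := by
      have e : rho hG ^ 2 = Psi _ (kapG F) * (tau hG * Psi _ (kapG F) * (tau hG)⁻¹) := by
        rw [tau_inv, rho, pow_two, mul_assoc, mul_assoc]
      rw [← rho_sq, e, h, ← h2]
      group
    rw [h3]
    exact mul_mem ⟨_, rfl⟩ (mul_mem (inv_mem ⟨_, rfl⟩) ⟨_, rfl⟩)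

theorem res_tau [Finite F] (hq : 4 ≤ Nat.card F) (hG : Good (plusForm 4 F)) {v : V8 F} {U : Submodule F (V8 F)}
    (hv : plusForm 4 F v ≠ 0) (h2 : 2 ≤ finrank F U) (h3 : finrank F U ≤ 3) (hy : ∃ y ∈ U, plusForm 4 F y ≠ 0) :
    Res (Psi (plusForm 4 F)) (tau hG) v U (DD U v) := by
  obtain ⟨y, hy, hQ⟩ := hy
  obtain ⟨d, hd, hdv⟩ := exists_DD hv hy hQ h2
  refine ⟨exists_move hv hd hdv (finrank_DD v h3), ?_, fun M M' hM hMv hU => ?_⟩
  · obtain ⟨g, hg, hD, M₁, M₂, ht, hu⟩ := exists_fix hq hG hv (self_mem_DD v hy hQ) (finrank_DD v h3) hy hQ h3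
    exact ⟨g, hg, hD v (self_mem_DD v hy hQ), fun d hd => by rw [hD d hd]; exact hd, M₁, (tau_conj hG ht).symm, hu⟩
  · obtain ⟨M₂, ht⟩ := exists_tri hG hM
    exact inv_DD ht hMv hU

theorem double_coset [Finite F] (hG : Good (plusForm 4 F)) {α : MulAut (P8 F)} (h : α ∉ (Psi (plusForm 4 F)).range) :
    ∃ X Y : G8 F, α = Psi _ X * tau hG * Psi _ Y := by
  obtain ⟨i, M, hi, rfl⟩ := aut_cases hG α
  interval_cases i
  · exact absurd ⟨M, by rw [pow_zero, one_mul]⟩ h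
  · exact ⟨kapG F, M, by rw [pow_one, rho]⟩
  · refine ⟨1, kapG F * M, ?_⟩
    rw [rho_sq, rho, mul_inv_rev, tau_inv, ← map_inv, kapG_inv, map_one, one_mul, map_mul, mul_assoc]

theorem res_psi [Finite F] (hq : 4 ≤ Nat.card F) (hG : Good (plusForm 4 F)) {α : MulAut (P8 F)}
    (h : α ∉ (Psi (plusForm 4 F)).range) {v : V8 F} {U : Submodule F (V8 F)}
    (hv : plusForm 4 F v ≠ 0) (h2 : 2 ≤ finrank F U) (h3 : finrank F U ≤ 3) (hy : ∃ y ∈ U, plusForm 4 F y ≠ 0) :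
    ∃ D, Res (Psi (plusForm 4 F)) α v U D := by
  obtain ⟨X, Y, rfl⟩ := double_coset hG h
  have hne : ∀ (Z : G8 F) (w : V8 F), plusForm 4 F w ≠ 0 → plusForm 4 F (Z.1 w) ≠ 0 := fun Z w hw => by
    obtain ⟨σ, c, hZ⟩ := Z.2
    rw [hZ.form]
    exact mul_ne_zero hZ.ne ((map_ne_zero σ).2 hw)
  obtain ⟨y, hy, hQ⟩ := hy
  exact ⟨_, Res.trans X Y (res_tau hq hG (hne Y v hv) (by rwa [finrank_img]) (by rwa [finrank_img])
    ⟨_, apply_mem_img.2 hy, hne X⁻¹ y hQ⟩)⟩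

theorem res_phi [Fintype F] (hq : 4 ≤ Nat.card F) {Q : QuadraticForm F (V8 F)} (hQ : Q = plusForm 4 F) (hG : Good Q)
    {α : MulAut (POmega F ⇑Q)} (h : α ∉ (Phi hG).range) {v : V8 F} {U : Submodule F (V8 F)}
    (hv : Q v ≠ 0) (h2 : 2 ≤ finrank F U) (h3 : finrank F U ≤ 3) (hy : ∃ y ∈ U, Q y ≠ 0) :
    ∃ D, Res (Phi hG) α v U D := by
  subst hQ
  obtain ⟨β, rfl⟩ := (MulAut.congr (pe hG).symm).surjective α
  obtain ⟨D, hD⟩ := res_psi hq hG (α := β) (by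
    rintro ⟨M, rfl⟩
    exact h ⟨M, rfl⟩) hv h2 h3 hy
  exact ⟨D, hD.congr (MulAut.congr (pe hG).symm)⟩

end tau

section final

variable {F : Type} [Field F] [Fintype F]

theorem hG8 (F : Type) [Field F] [Fintype F] : Good (plusQ 4 F) := good_plusQ (F := F) (m := 4) (by norm_num)

/-- an element of `Ω` as a semisimilarity -/
noncomputable def gs (s : Omega F (quadFormPlus 4 F)) : Gam (plusQ 4 F) :=
  gamO _ ⟨(oe (hG8 F) s : ↥(E (plusQ 4 F))), E_le_O (oe (hG8 F) s).2⟩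

theorem gs_apply (s : Omega F (quadFormPlus 4 F)) (w : I8 → F) :
    (gs s).1 w = (((s : isometryGroup F (quadFormPlus 4 F)) : GL I8 F) : Matrix I8 I8 F) *ᵥ w := rfl

theorem gs_lin (s : Omega F (quadFormPlus 4 F)) (w : I8 → F) :
    (gs s).1 w = lin ((s : isometryGroup F (quadFormPlus 4 F)) : GL I8 F) w := by
  rw [gs_apply, H884.El.lin, Matrix.toLin'_apply]

theorem ph_gs (s : Omega F (quadFormPlus 4 F)) :
    ph F (gs s) = MulAut.conj (QuotientGroup.mk s : T8 F) := by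
  ext x
  obtain ⟨t, rfl⟩ := QuotientGroup.mk_surjective x
  have h1 : MulAut.conj (QuotientGroup.mk s : T8 F) (QuotientGroup.mk t) = QuotientGroup.mk (s * t * s⁻¹) := rfl
  rw [h1]
  refine Phi_mk (hG8 F) (gs s) (s := t) (s' := s * t * s⁻¹) fun v => ?_
  rw [gs_apply, gs_apply, Matrix.mulVec_mulVec, Matrix.mulVec_mulVec]
  congr 1
  rw [← Units.val_mul, ← Units.val_mul]
  congr 1
  change _ * _ * _⁻¹ * _ = _
  rw [inv_mul_cancel_right]

theorem scal_of_eq {M M' : Gam (plusQ 4 F)} (h : ph F M = ph F M') : ∃ a : F, ∀ w, M.1 w = a • M'.1 w := by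
  have h1 : Phi (hG8 F) (M * M'⁻¹) = 1 := by
    change ph F (M * M'⁻¹) = 1
    rw [map_mul, map_inv, h, mul_inv_cancel]
  obtain ⟨a, -, ha⟩ := (Phi_eq_one_iff _ _).1 h1
  refine ⟨a, fun w => ?_⟩
  rw [← ha]
  exact congrArg M.1 (inv_apply M'.1 w).symm

theorem mk_mem_St {s : Omega F (quadFormPlus 4 F)} {W : Submodule F (I8 → F)} :
    (QuotientGroup.mk s : T8 F) ∈ St W ↔ ∀ w ∈ W, (gs s).1 w ∈ W := by
  constructor
  · rintro ⟨t, ht, hts⟩ w hw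
    have h1 : (QuotientGroup.mk t : T8 F) = QuotientGroup.mk s := hts
    obtain ⟨a, ha⟩ := scal_of_eq (M := gs s) (M' := gs t) (by rw [ph_gs, ph_gs, h1])
    have h2 : W.map (lin ((t : isometryGroup F (quadFormPlus 4 F)) : GL I8 F)) = W := ht
    rw [ha, gs_lin]
    refine W.smul_mem _ ?_
    rw [← h2]
    exact Submodule.mem_map_of_mem hw
  · intro h
    refine H823.O8S.mk_mem_tp (H823.O8S.mem_SW.2 ?_)
    have h1 : W.map (lin ((s : isometryGroup F (quadFormPlus 4 F)) : GL I8 F)) = img (gs s) W := by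
      ext w
      rw [Submodule.mem_map, mem_img]
      simp only [gs_lin]
    rw [h1]
    refine Submodule.eq_of_le_of_finrank_eq ?_ (finrank_img _ _)
    rintro _ ⟨w, hw, rfl⟩
    exact h w hw

theorem exists_gs (g : O (plusQ 4 F)) (hg : g.1 ∈ E (plusQ 4 F)) :
    ∃ s : Omega F (quadFormPlus 4 F), gs s = gamO _ g := by
  obtain ⟨s, hs⟩ := (oe (hG8 F)).surjective ⟨g.1, hg⟩
  refine ⟨s, congrArg (gamO _) (Subtype.ext ?_)⟩
  exact congrArg (fun x : ↥(E (plusQ 4 F)) => (x : (I8 → F) ≃ₗ[F] (I8 → F))) hs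

theorem mk_mem_pt {s : Omega F (quadFormPlus 4 F)} {v : I8 → F} (h : (gs s).1 v = v) :
    (QuotientGroup.mk s : T8 F) ∈ pt v := by
  refine mk_mem_St.2 fun w hw => ?_
  obtain ⟨c, rfl⟩ := Submodule.mem_span_singleton.1 hw
  rw [gs_lin, map_smul, ← gs_lin, h]
  exact hw

theorem conj_aut {G : Type*} [Group G] (α : MulAut G) (x : G) : MulAut.conj (α x) = α * MulAut.conj x * α⁻¹ := by
  ext y
  simp

/-- **SM-O8-7** -/
theorem boxKU : BoxKU := by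
  intro F _ _ hq v α U hv hα h2 h3 hy
  obtain ⟨D, hD⟩ := res_phi hq (plusQ_eq 4 F) (hG8 F) (α := α) hα (v := v) hv h2 h3 hy
  have h4 : ∀ M M' : Gam (plusQ 4 F), ph F M' = α * ph F M * α⁻¹ → M.1 v ∈ Submodule.span F {v} →
      (∀ u ∈ U, M'.1 u ∈ U) → ∀ d ∈ D, M.1 d ∈ D := hD.h4
  refine ⟨D, ?_, ?_, ?_, h4⟩
  · rintro x ⟨hx1, hx2⟩
    obtain ⟨s, rfl⟩ := QuotientGroup.mk_surjective x
    obtain ⟨t, ht⟩ := QuotientGroup.mk_surjective (α (QuotientGroup.mk s))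
    have h5 : (QuotientGroup.mk t : T8 F) ∈ St U := by rw [ht]; exact hx2
    refine mk_mem_St.2 (h4 (gs s) (gs t) ?_ (mk_mem_St.1 hx1 v (Submodule.mem_span_singleton_self v)) (mk_mem_St.1 h5))
    rw [ph_gs, ph_gs, ht, conj_aut]
  · intro hle
    obtain ⟨g, hg, hgv, d, hd, hgd⟩ := hD.h2
    obtain ⟨s, hs⟩ := exists_gs ⟨g, E_le_O hg⟩ hg
    have h5 := mk_mem_St.1 (hle (mk_mem_pt (s := s) (by rw [hs]; exact hgv))) d hd
    rw [hs] at h5
    exact hgd h5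
  · intro hle
    obtain ⟨g, hg, hgv, hgD, M', hM', u, hu, hMu⟩ := hD.h3
    obtain ⟨s, hs⟩ := exists_gs g hg
    have h5 : α (QuotientGroup.mk s) ∈ St U :=
      hle ⟨mk_mem_pt (s := s) (by rw [hs]; exact hgv), mk_mem_St.2 (by rw [hs]; exact hgD)⟩
    obtain ⟨t, ht⟩ := QuotientGroup.mk_surjective (α (QuotientGroup.mk s))
    rw [← ht] at h5
    have h6 : ph F M' = α * ph F (gamO _ g) * α⁻¹ := hM'
    obtain ⟨a, ha⟩ := scal_of_eq (M := M') (M' := gs t) (by rw [h6, ← hs, ph_gs, ph_gs, ht, conj_aut])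
    apply hMu
    rw [ha]
    exact U.smul_mem _ (mk_mem_St.1 h5 u hu)

end final

end Cfsg.Agent.SM.O8.KU
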