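import Cfsg.Agent.H198.TriInn

/-!
# SM (S3570), socle `PΩ⁺₈(q)`, box M1: the twisted product of an involution outside `PΓO` (helper43)

If `γ σ γ⁻¹ = Φ(M)`, `M² = 1`, and `σ` is not induced by a semisimilarity, then in another module there is a product
`f x y = B x · L (B y)` which is compatible with the involution and with everything that commutes with `σ`.
-/

set_option autoImplicit false
set_option linter.unusedSectionVars false
set_option maxHeartbeats 400000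

namespace Cfsg.Agent.SM.O8.M1

open Module QuadraticMap Cfsg.Agent.LieClassical.OrthCore Cfsg.Agent.LieClassical.OrthTrans
  Cfsg.Agent.ClassicalGeometry.OrthSemi Cfsg.Agent.H198.OrthFrame Cfsg.Agent.LieClassical.QuadForms
  Cfsg.Agent.ClassicalGeometry.TrialityOct Cfsg.Agent.ClassicalGeometry.Triality
  Cfsg.Agent.H198.TriBase Cfsg.Agent.H198.TriAut Cfsg.Agent.AutOrth.Main

variable {F : Type} [Field F]

/-! ### group identities -/

section grp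

variable {G : Type*} [Group G]

theorem g1 {k t : G} (hk : k * k = 1) (ht : t * t = 1) (h3 : (k * t) ^ 3 = 1) : t * k * t = k * t * k := by
  have h1 : k⁻¹ = k := inv_eq_of_mul_eq_one_right hk
  have h2 : t⁻¹ = t := inv_eq_of_mul_eq_one_right ht
  have h4 : (k * t * k) * (t * k * t) = 1 := by rw [← h3, pow_succ, pow_two]; simp only [mul_assoc]
  rw [← inv_eq_of_mul_eq_one_right h4, mul_inv_rev, mul_inv_rev, h1, h2, mul_assoc]

/-- two different transpositions do not commute -/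
theorem g2 {H : Subgroup G} {k t m m₁ n p₁ : G} (hk : k * k = 1) (ht : t * t = 1) (h3 : (k * t) ^ 3 = 1) (hkH : k ∈ H)
    (hm : m₁ ∈ H) (hn : n ∈ H) (hp : p₁ ∈ H) (h1 : t * (m * k) * t⁻¹ = m₁) (h2 : t * (k * (n * k) * k) * t⁻¹ = p₁)
    (hc : n * (t⁻¹ * m * t) = t⁻¹ * m * t * n) : t ∈ H := by
  have e1 : k⁻¹ = k := inv_eq_of_mul_eq_one_right hk
  have e2 : t⁻¹ = t := inv_eq_of_mul_eq_one_right ht
  have e3 := g1 hk ht h3
  have e4 : t⁻¹ * m * t = m₁ * (k * t * k) := by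
    rw [← e3, ← h1, e2]
    calc t * m * t = t * (m * (k * (t * t) * k)) * t := by rw [ht, mul_one, hk, mul_one]
      _ = _ := by simp only [mul_assoc]
  have e5 : p₁ * (k * t * k) = t * (k * n * k) * t := by
    rw [← e3, ← h2, e2]
    calc t * (k * (n * k) * k) * t * (t * k * t) = t * (k * n * (k * k) * (t * t) * k) * t := by simp only [mul_assoc]
      _ = _ := by rw [hk, ht, mul_one, mul_one]
  have e6 : t * (k * n * k) * t = (m₁ * k)⁻¹ * n * (m₁ * k) := by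
    rw [e4] at hc
    calc t * (k * n * k) * t = (m₁ * k)⁻¹ * (m₁ * (k * t * k) * n) * (k * t) := by group
      _ = (m₁ * k)⁻¹ * n * (m₁ * k) * (t * (k * k) * t) := by rw [← hc]; simp only [mul_assoc]
      _ = _ := by rw [hk, mul_one, ht, mul_one]
  have e7 : t = k⁻¹ * (p₁⁻¹ * ((m₁ * k)⁻¹ * n * (m₁ * k))) * k⁻¹ := by
    rw [← e6, ← e5]
    group
  rw [e7]
  exact mul_mem (mul_mem (inv_mem hkH) (mul_mem (inv_mem hp) (mul_mem (mul_mem (inv_mem (mul_mem hm hkH)) hn)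
    (mul_mem hm hkH)))) (inv_mem hkH)

end grp

/-! ### twisted triples -/

/-- `M (x y) = A y · L x` -/
def TriK (M A L : G8 F) : Prop := ∀ x y, M.1 (omul x y) = omul (A.1 y) (L.1 x)

theorem TriK.mul {M A L M' A' L' : G8 F} (h : TriK M A L) (k : TriK M' A' L') : TriS (M * M') (A * L') (L * A') :=
  fun x y => (congrArg M.1 (k x y)).trans (h _ _)

theorem TriK.left {N N₁ N₂ M A L : G8 F} (h : TriS N N₁ N₂) (k : TriK M A L) : TriK (N * M) (N₁ * A) (N₂ * L) :=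
  fun x y => (congrArg N.1 (k x y)).trans (h _ _)

theorem TriK.right {N N₁ N₂ M A L : G8 F} (k : TriK M A L) (h : TriS N N₁ N₂) : TriK (M * N) (A * N₂) (L * N₁) :=
  fun x y => (congrArg M.1 (h x y)).trans (k _ _)

theorem TriK.inv {M A L : G8 F} (h : TriK M A L) : TriK M⁻¹ L⁻¹ A⁻¹ := fun x y => by
  have h1 := h (L.1⁻¹ y) (A.1⁻¹ x)
  rw [apply_inv, apply_inv] at h1
  rw [← h1]
  exact inv_apply _ _

theorem triK_of {M M₁ M₂ : G8 F} (h : TriS (M * kapG F) M₁ M₂) : TriK M (M₁ * kapG F) (M₂ * kapG F) := fun x y => by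
  have h1 := h (oconj y) (oconj x)
  rw [← oconj_omul] at h1
  have h2 : (M * kapG F).1 (oconj (omul x y)) = M.1 (oconj (oconj (omul x y))) := rfl
  rw [h2, oconj_oconj] at h1
  exact h1

/-- triality, abstractly -/
structure TD {G : Type} [Group G] (Ψ : G8 F →* G) (t : G) : Prop where
  tt : t * t = 1
  cube : (Ψ (kapG F) * t) ^ 3 = 1
  nm : t ∉ Ψ.range
  conj : ∀ {M M₁ M₂ : G8 F}, TriS M M₁ M₂ → t * Ψ M * t⁻¹ = Ψ M₁
  ker : ∀ {A : G8 F}, Ψ A = 1 → ∃ c : F, ∀ v, A.1 v = c • v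
  cases : ∀ γ : G, ∃ (i : ℕ) (M : G8 F), i < 3 ∧ γ = (Ψ (kapG F) * t) ^ i * Ψ M

theorem TD.one {G : Type} [Group G] {Ψ : G8 F →* G} {t : G} (D : TD Ψ t) {A A₁ A₂ : G8 F} (h : TriS A A₁ A₂)
    (h1 : Ψ A = 1) : Ψ A₁ = 1 ∧ Ψ A₂ = 1 := by
  have hk : Ψ (kapG F) * Ψ (kapG F) = 1 := by rw [← map_mul, kapG_mul_kapG, map_one]
  have h2 := D.conj h
  have h3 := D.conj h.kap
  rw [h1, mul_one, mul_inv_cancel] at h2
  rw [map_mul, map_mul, map_mul, map_mul, h1, mul_one, hk, mul_one, mul_inv_cancel] at h3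
  refine ⟨h2.symm, ?_⟩
  calc Ψ A₂ = (Ψ (kapG F))⁻¹ * (Ψ (kapG F) * Ψ A₂ * Ψ (kapG F)) * Ψ (kapG F) * (Ψ (kapG F) * Ψ (kapG F))⁻¹ := by group
    _ = 1 := by rw [← h3, hk]; group

theorem cases_T1 (hG : Good (plusForm 4 F)) (M : G8 F) : M ∈ T1 F ∨ M * kapG F ∈ T1 F :=
  (mem_S1 hG M).imp And.right And.right

/-- the data of the twisted product -/
structure Tw {V : Type} [AddCommGroup V] [Module F V] {Q : QuadraticForm F V} {G : Type} [Group G] (Φ : Gam Q →* G)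
    (σ α : G) (M : Gam Q) (f : V → V → V) : Prop where
  conj : α * σ * α⁻¹ = Φ M
  addl : ∀ x x' y, f (x + x') y = f x y + f x' y
  addr : ∀ x y y', f x (y + y') = f x y + f x y'
  smull : ∀ (a : F) x y, ∃ c : F, f (a • x) y = c • f x y
  smulr : ∀ (a : F) x y, ∃ c : F, f x (a • y) = c • f x y
  ne : ∀ x, Q x ≠ 0 → Q (f x x) ≠ 0
  swap : ∀ x y, ∃ c : F, M.1 (f x y) = c • f y x
  eqv : ∀ N : Gam Q, Φ N * σ = σ * Φ N → ∃ N' : Gam Q, Φ N' = α * Φ N * α⁻¹ ∧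
    ∀ x y, ∃ c : F, N'.1 (f x y) = c • f (N.1 x) (N.1 y)

theorem tw_tau {G : Type} [Group G] {Ψ : G8 F →* G} {t : G} (hG : Good (plusForm 4 F)) (D : TD Ψ t) {σ : G} {M B : G8 F} (hM : M * M = 1)
    (h : t * Ψ B * σ * (t * Ψ B)⁻¹ = Ψ M) (hn : σ ∉ Ψ.range) :
    ∃ f, Tw Ψ σ (t * Ψ B) M f := by
  have hσ : σ = (Ψ B)⁻¹ * (t⁻¹ * Ψ M * t) * Ψ B := by rw [← h]; group
  have hk : Ψ (kapG F) * Ψ (kapG F) = 1 := by rw [← map_mul, kapG_mul_kapG, map_one]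
  obtain ⟨M₁, M₂, hT⟩ : M * kapG F ∈ T1 F := (cases_T1 hG M).resolve_left fun ⟨M₁, M₂, hT⟩ => hn ⟨B⁻¹ * M₁ * B, by
    rw [hσ, map_mul, map_mul, map_inv, ← D.conj hT, inv_eq_of_mul_eq_one_right D.tt]⟩
  have hK := triK_of hT
  generalize M₂ * kapG F = L at hK
  generalize M₁ * kapG F = A at hK
  obtain ⟨σB, cB, hB⟩ := B.2
  obtain ⟨σL, cL, hL⟩ := L.2
  refine ⟨fun x y => omul (B.1 x) (L.1 (B.1 y)), h, fun x x' y => by rw [hB.add, add_omul],
    fun x y y' => by rw [hB.add, hL.add, omul_add], fun a x y => ⟨_, by rw [hB.smul, smul_omul]⟩,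
    fun a x y => ⟨_, by rw [hB.smul, hL.smul, omul_smul]⟩, fun x hx => ?_, fun x y => ?_, fun N hN => ?_⟩
  · have h1 : plusForm 4 F (B.1 x) ≠ 0 := by rw [hB.form]; exact mul_ne_zero hB.ne ((map_ne_zero σB).2 hx)
    rw [norm_omul, hL.form]
    exact mul_ne_zero h1 (mul_ne_zero hL.ne ((map_ne_zero σL).2 h1))
  · obtain ⟨c, hc⟩ := D.ker (D.one (hK.mul hK) (by rw [hM, map_one])).1
    exact ⟨c, by rw [hK, show A.1 (L.1 (B.1 y)) = _ from hc _, smul_omul]⟩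
  · have hc : Ψ (B * N * B⁻¹) * (t⁻¹ * Ψ M * t) =
        t⁻¹ * Ψ M * t * Ψ (B * N * B⁻¹) := by
      have h1 : t⁻¹ * Ψ M * t = Ψ B * σ * (Ψ B)⁻¹ := by rw [← h]; group
      rw [h1, map_mul, map_mul, map_inv]
      calc _ = Ψ B * (Ψ N * σ) * (Ψ B)⁻¹ := by group
        _ = _ := by rw [hN]; group
    obtain ⟨N', N₂, hT'⟩ : B * N * B⁻¹ ∈ T1 F := (cases_T1 hG _).resolve_right fun k => by
      obtain ⟨P₁, P₂, hP⟩ := kap_mem_T1 k
      have h1 := D.conj hT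
      have h2 := D.conj hP
      rw [map_mul] at h1
      rw [map_mul, map_mul, map_mul _ (B * N * B⁻¹)] at h2
      exact D.nm (g2 hk D.tt D.cube ⟨_, rfl⟩ ⟨_, rfl⟩ ⟨_, rfl⟩ ⟨_, rfl⟩ h1 h2 hc)
    have h3 := D.conj hT'
    obtain ⟨σ₂, c₂, h₂⟩ := N₂.2
    have hS := hT'.swap (c₂ := Units.mk0 c₂ h₂.ne) h₂
    generalize hatG (Units.mk0 c₂ h₂.ne) N₂ = N₃ at hS
    have h4 : Ψ (N' * M * (M * N')⁻¹) = 1 := by
      rw [map_mul, map_inv, mul_inv_eq_one, map_mul, map_mul, ← h3]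
      calc _ = t * (Ψ (B * N * B⁻¹) * (t⁻¹ * Ψ M * t)) * t⁻¹ := by group
        _ = _ := by rw [hc]; group
    obtain ⟨c, hc'⟩ := D.ker (D.one ((TriK.left hS hK).mul (hK.right hS).inv) h4).2
    refine ⟨N', by rw [← h3, map_mul, map_mul, map_inv]; group, fun x y => ⟨c, ?_⟩⟩
    have h5 : ∀ z, (B * N * B⁻¹).1 (B.1 z) = B.1 (N.1 z) := fun z => congrArg (fun w => B.1 (N.1 w)) (inv_apply _ _)
    have h6 := hc' ((L * (B * N * B⁻¹)).1 (B.1 y))
    have h7 : (N₃ * L * (L * (B * N * B⁻¹))⁻¹).1 ((L * (B * N * B⁻¹)).1 (B.1 y)) = N₃.1 (L.1 (B.1 y)) :=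
      congrArg (fun w => N₃.1 (L.1 w)) (inv_apply _ _)
    rw [hS, h5, ← h7, h6, omul_smul]
    exact congrArg (fun w => c • omul _ (L.1 w)) (h5 y)

theorem tw_psi {G : Type} [Group G] {Ψ : G8 F →* G} {t : G} (hG : Good (plusForm 4 F)) (D : TD Ψ t) {σ γ : G} {M : G8 F} (hM : M * M = 1)
    (h : γ * σ * γ⁻¹ = Ψ M) (hn : σ ∉ Ψ.range) :
    ∃ (A : G8 F) (α : G) (f : V8 F → V8 F → V8 F), Tw Ψ σ α (A⁻¹ * M * A) f := by
  obtain ⟨A, B, rfl⟩ : ∃ A B : G8 F, γ = Ψ A * (t * Ψ B) := by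
    obtain ⟨i, B, hi, rfl⟩ := D.cases γ
    interval_cases i
    · refine absurd ⟨B⁻¹ * M * B, ?_⟩ hn
      rw [map_mul, map_mul, map_inv, ← h]
      group
    · exact ⟨kapG F, B, by rw [pow_one, mul_assoc]⟩
    · refine ⟨1, kapG F * B, ?_⟩
      have hk : Ψ (kapG F) * Ψ (kapG F) = 1 := by rw [← map_mul, kapG_mul_kapG, map_one]
      rw [pow_two, ← mul_assoc _ (Ψ (kapG F)), ← g1 hk D.tt D.cube, map_one, one_mul, map_mul, mul_assoc _ t t, D.tt, mul_one,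
        mul_assoc]
  obtain ⟨f, hf⟩ := tw_tau hG D (σ := σ) (M := A⁻¹ * M * A) (B := B)
    (by rw [show A⁻¹ * M * A * (A⁻¹ * M * A) = A⁻¹ * (M * M) * A by group, hM]; group)
    (by rw [map_mul, map_mul, map_inv, ← h]; group) hn
  exact ⟨A, _, f, hf⟩

theorem tw_phi [Finite F] {Q : QuadraticForm F (Fin 4 ⊕ Fin 4 → F)} (hQ : Q = plusForm 4 F) (hG : Good Q)
    {σ γ : MulAut (POmega F ⇑Q)} {M : Gam Q} (hM : M * M = 1) (h : γ * σ * γ⁻¹ = Phi hG M) (hn : σ ∉ (Phi hG).range) :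
    ∃ (A : Gam Q) (α : MulAut (POmega F ⇑Q)) (f : V8 F → V8 F → V8 F), Tw (Phi hG) σ α (A⁻¹ * M * A) f := by
  subst hQ
  set e : MulAut (P8 F) ≃* MulAut (POmega F ⇑(plusForm 4 F)) := MulAut.congr (pe hG).symm with he
  have hPhi : ∀ M, Phi hG M = e (Psi _ M) := fun M => rfl
  refine tw_psi hG (t := e (tau hG)) ⟨?_, ?_, ?_, fun k => ?_, fun k => ?_, fun β => ?_⟩ hM h hn
  · rw [← map_mul, tau_mul_tau, map_one]
  · have h1 := congrArg e (rho_pow_three hG)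
    rw [map_pow, map_one, rho, map_mul] at h1
    exact h1
  · rintro ⟨N, hN⟩
    exact tau_not_mem hG ⟨N, e.injective hN⟩
  · have h1 := congrArg e (tau_conj hG k)
    rw [map_mul, map_mul, map_inv] at h1
    exact h1
  · obtain ⟨c, -, hc⟩ := (Phi_eq_one_iff hG _).1 k
    exact ⟨c, hc⟩
  · obtain ⟨i, N, hi, k⟩ := aut_cases hG (e.symm β)
    have h1 := congrArg e k
    rw [map_mul e, map_pow e, MulEquiv.apply_symm_apply, rho, map_mul e] at h1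
    exact ⟨i, N, hi, h1⟩

end Cfsg.Agent.SM.O8.M1
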