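import Mathlib

/-!
# SM (S3570), socle `PΩ⁺₈(q)`, box M1: the subspaces which are stable under a semilinear involution (helper43)
-/

set_option autoImplicit false
set_option linter.unusedSectionVars false
set_option maxHeartbeats 400000

namespace Cfsg.Agent.SM.O8.M1

open Module

variable {F V : Type} [Field F] [AddCommGroup V] [Module F V] {τ : F ≃+* F} {M : V → V}

/-- a semilinear involution -/
structure SI (τ : F ≃+* F) (M : V → V) : Prop where
  add : ∀ u v, M (u + v) = M u + M v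
  smul : ∀ (a : F) v, M (a • v) = τ a • M v
  inv : ∀ v, M (M v) = v
  tt : ∀ a, τ (τ a) = a
  ne : ∃ θ, τ θ ≠ θ

/-- the fixed field -/
def F1 (τ : F ≃+* F) : Subfield F := τ.toRingHom.eqLocusField (RingHom.id F)

theorem F1_fix (a : F1 τ) : τ a = a := a.2

theorem SI.sub (h : SI τ M) (u v : V) : M (u - v) = M u - M v := by
  rw [sub_eq_add_neg, h.add, ← neg_one_smul F v, h.smul, map_neg, map_one, neg_one_smul, sub_eq_add_neg]

/-- the fixed vectors -/
def SI.fix (h : SI τ M) (D : Submodule F V) : Submodule (F1 τ) V where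
  carrier := {v | v ∈ D ∧ M v = v}
  add_mem' := fun {a b} ha hb => ⟨D.add_mem ha.1 hb.1, by rw [h.add, ha.2, hb.2]⟩
  zero_mem' := ⟨D.zero_mem, by simpa using h.sub 0 0⟩
  smul_mem' := fun c a ha => ⟨D.smul_mem (c : F) ha.1, by
    change M ((c : F) • a) = (c : F) • a
    rw [h.smul, F1_fix, ha.2]⟩

theorem SI.decomp (h : SI τ M) {D : Submodule F V} (hD : ∀ d ∈ D, M d ∈ D) {θ : F} (hθ : τ θ ≠ θ) {v : V} (hv : v ∈ D) :
    ∃ a ∈ h.fix D, ∃ b ∈ h.fix D, v = a + θ • b := by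
  have h0 : θ - τ θ ≠ 0 := sub_ne_zero.2 hθ.symm
  have hb : M ((θ - τ θ)⁻¹ • (v - M v)) = (θ - τ θ)⁻¹ • (v - M v) := by
    rw [h.smul, h.sub, h.inv, map_inv₀, map_sub, h.tt, ← neg_sub θ, ← neg_sub v, inv_neg, neg_smul_neg]
  have hm : (θ - τ θ)⁻¹ • (v - M v) ∈ D := D.smul_mem _ (D.sub_mem hv (hD v hv))
  refine ⟨v - θ • (θ - τ θ)⁻¹ • (v - M v), ⟨D.sub_mem hv (D.smul_mem _ hm), ?_⟩, _, ⟨hm, hb⟩, (sub_add_cancel _ _).symm⟩
  rw [h.sub, h.smul, hb, sub_eq_sub_iff_sub_eq_sub, ← sub_smul, smul_smul, ← neg_sub θ, neg_mul, mul_inv_cancel₀ h0,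
    neg_one_smul, neg_sub]

theorem SI.card_fix (h : SI τ M) {D : Submodule F V} (hD : ∀ d ∈ D, M d ∈ D) : Nat.card D = Nat.card (h.fix D) ^ 2 := by
  obtain ⟨θ, hθ⟩ := h.ne
  rw [pow_two, ← Nat.card_prod]
  refine (Nat.card_eq_of_bijective (fun p : h.fix D × h.fix D => (⟨p.1.1 + θ • p.2.1, D.add_mem p.1.2.1
    (D.smul_mem _ p.2.2.1)⟩ : D)) ⟨fun p p' e => ?_, fun v => ?_⟩).symm
  · have h1 : p.1.1 + θ • p.2.1 = p'.1.1 + θ • p'.2.1 := congrArg Subtype.val e
    have h2 := congrArg M h1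
    rw [h.add, h.add, h.smul, h.smul, p.1.2.2, p.2.2.2, p'.1.2.2, p'.2.2.2] at h2
    have h3 : (θ - τ θ) • (p.2.1 - p'.2.1) = 0 := by linear_combination (norm := module) h1 - h2
    have h4 := sub_eq_zero.1 ((smul_eq_zero.1 h3).resolve_left (sub_ne_zero.2 hθ.symm))
    rw [h4] at h1
    exact Prod.ext (Subtype.ext (add_right_cancel h1)) (Subtype.ext h4)
  · obtain ⟨a, ha, b, hb, e⟩ := h.decomp hD hθ v.2
    exact ⟨(⟨a, ha⟩, ⟨b, hb⟩), Subtype.ext e.symm⟩

theorem SI.card_field (h : SI τ M) : Nat.card F = Nat.card (F1 τ) ^ 2 := by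
  have k : SI τ (τ : F → F) := ⟨map_add τ, fun a v => map_mul τ a v, h.tt, h.tt, h.ne⟩
  rw [← Nat.card_congr (Submodule.topEquiv (R := F) (M := F)).toEquiv, k.card_fix (D := ⊤) fun _ _ => trivial]
  exact congrArg (· ^ 2) (Nat.card_congr (Equiv.subtypeEquivRight fun a => ⟨fun e => e.2, fun e => ⟨trivial, e⟩⟩))

variable [Finite F] [Finite V]

theorem SI.finrank_fix (h : SI τ M) {D : Submodule F V} (hD : ∀ d ∈ D, M d ∈ D) :
    finrank (F1 τ) (h.fix D) = finrank F D := by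
  have h1 := h.card_fix hD
  rw [Module.natCard_eq_pow_finrank (K := F), Module.natCard_eq_pow_finrank (K := F1 τ) (V := h.fix D), h.card_field,
    ← pow_mul, ← pow_mul] at h1
  have h2 := Nat.pow_right_injective (Finite.one_lt_card (α := F1 τ)) h1
  omega

theorem prod_ge {s k : ℕ} (hs : 2 ≤ s) : s ^ (k * (k - 1)) ≤ ∏ i : Fin k, (s ^ k - s ^ i.val) := by
  rw [mul_comm, pow_mul]
  calc (s ^ (k - 1)) ^ k = ∏ _i : Fin k, s ^ (k - 1) := by simp
    _ ≤ _ := Finset.prod_le_prod' fun i _ => by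
      obtain ⟨l, rfl⟩ : ∃ l, k = l + 1 := ⟨k - 1, by have := i.2; omega⟩
      have h1 : s ^ i.val ≤ s ^ l := Nat.pow_le_pow_right (by omega) (by have := i.2; omega)
      have h2 : s ^ l * 2 ≤ s ^ (l + 1) := by rw [pow_succ]; exact Nat.mul_le_mul_left _ hs
      rw [Nat.add_sub_cancel]
      omega

/-- **the number of stable subspaces** -/
theorem SI.count (h : SI τ M) (k : ℕ) :
    Nat.card {D : Submodule F V // (∀ d ∈ D, M d ∈ D) ∧ finrank F D = k} * Nat.card (F1 τ) ^ (k * (k - 1)) ≤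
      Nat.card (F1 τ) ^ (finrank F V * k) := by
  classical
  have := Fintype.ofFinite (F1 τ)
  have : Finite (Submodule F V) := Finite.of_injective _ SetLike.coe_injective
  have := Fintype.ofFinite {D : Submodule F V // (∀ d ∈ D, M d ∈ D) ∧ finrank F D = k}
  obtain ⟨θ, hθ⟩ := h.ne
  let f : (Σ D : {D : Submodule F V // (∀ d ∈ D, M d ∈ D) ∧ finrank F D = k},
      {b : Fin k → h.fix D.1 // LinearIndependent (F1 τ) b}) → Fin k → h.fix ⊤ :=
    fun p i => ⟨p.2.1 i, trivial, (p.2.1 i).2.2⟩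
  have h1 : ∀ p, Submodule.span F (Set.range fun i => (f p i : V)) = p.1.1 := by
    rintro ⟨⟨D, hD, hk⟩, b, hb⟩
    refine le_antisymm (Submodule.span_le.2 (by rintro _ ⟨i, rfl⟩; exact (b i).2.1)) fun v hv => ?_
    have h2 : ∀ a : h.fix D, (a : V) ∈ Submodule.span F (Set.range fun i => (b i : V)) := fun a => by
      have h3 : a ∈ Submodule.span (F1 τ) (Set.range b) := by
        rw [hb.span_eq_top_of_card_eq_finrank' (by rw [Fintype.card_fin, h.finrank_fix hD, hk])]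
        trivial
      induction h3 using Submodule.span_induction with
      | mem x hx => obtain ⟨i, rfl⟩ := hx; exact Submodule.subset_span ⟨i, rfl⟩
      | zero => exact Submodule.zero_mem _
      | add x y _ _ hx hy => exact Submodule.add_mem _ hx hy
      | smul c x _ hx => exact Submodule.smul_mem _ (c : F) hx
    obtain ⟨a, ha, c, hc, rfl⟩ := h.decomp hD hθ hv
    exact Submodule.add_mem _ (h2 ⟨a, ha⟩) (Submodule.smul_mem _ _ (h2 ⟨c, hc⟩))
  have h4 : Function.Injective f := by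
    intro p p' e
    have h5 : p.1 = p'.1 := Subtype.ext (by rw [← h1 p, ← h1 p', e])
    obtain ⟨D, b⟩ := p
    obtain ⟨D', b'⟩ := p'
    obtain rfl : D = D' := h5
    exact congrArg _ (Subtype.ext (funext fun i => Subtype.ext (congrArg (fun z : h.fix ⊤ => (z : V)) (congrFun e i))))
  have h6 := Nat.card_le_card_of_injective f h4
  rw [Nat.card_sigma, Nat.card_fun, Nat.card_eq_fintype_card (α := Fin k), Fintype.card_fin,
    Module.natCard_eq_pow_finrank (K := F1 τ) (V := h.fix ⊤), h.finrank_fix (D := ⊤) fun _ _ => trivial, finrank_top, ← pow_mul] at h6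
  refine le_trans ?_ h6
  rw [Nat.card_eq_fintype_card, ← Finset.card_univ, ← smul_eq_mul]
  refine Finset.card_nsmul_le_sum _ _ _ fun D _ => ?_
  have := Fintype.ofFinite (h.fix D.1)
  have h7 : finrank (F1 τ) (h.fix D.1) = k := (h.finrank_fix D.2.1).trans D.2.2
  rw [card_linearIndependent h7.ge, h7, Nat.card_eq_fintype_card]
  exact prod_ge Fintype.one_lt_card

end Cfsg.Agent.SM.O8.M1
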