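import Cfsg.Agent.SM.O8.Defs
import Cfsg.Agent.SM.O8.M1A
import Cfsg.Agent.SM.O8.M1B
import Cfsg.Agent.H832.O8R.Num
import Cfsg.Agent.H372.O8R.Ord
import Cfsg.Agent.H886.O8R.StabV

/-!
# SM (S3570), socle `PΩ⁺₈(q)`: box M1 (helper43)

Tools in `SM.O8.M1`: `og`, `ph_og`, `exists_lift`, `mem_St` (membership in `St D` through any semisimilarity which induces
the inner automorphism), `gim`, `index_point`, `index_plane`.
-/

set_option autoImplicit false
set_option linter.unusedSectionVars false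
set_option maxHeartbeats 400000

namespace Cfsg.Agent.SM.O8

open Module QuadraticMap Cfsg Cfsg.Geo
open Cfsg.Agent.H884.El (pre lin mem_pre)
open Cfsg.Agent.H708.O8 (I8 T8)
open Cfsg.Agent.H823.O8S (SW tp mem_SW)
open Cfsg.Agent.H198.Carriers (plusQ good_plusQ plusQ_eq)
open Cfsg.Agent.H198.OrthFrame (simGam omSim S_omSim Phi_eq_one_iff)
open Cfsg.Agent.ClassicalGeometry.OrthSemi (Gam IsSS apply_inv inv_apply)
open Cfsg.Agent.SM.Ex78 (Pd)
open scoped MatrixGroups Matrix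

namespace M1

section grp

variable {G : Type} [Group G]

theorem relIndex_le (S X : Subgroup G) {Z : Type} [Finite Z] (f : X → Z) (h : ∀ x x', f x = f x' → (x : G)⁻¹ * x' ∈ S) :
    S.relIndex X ≤ Nat.card Z :=
  Nat.card_le_card_of_injective (fun c : X ⧸ S.subgroupOf X => f c.out) fun c c' e => by
    rw [← c.out_eq', ← c'.out_eq']
    exact QuotientGroup.eq.2 (h _ _ e)

theorem le_index [Finite G] (S : Subgroup G) {Z : Type} (g : Z → G) (h : ∀ z z', (g z)⁻¹ * g z' ∈ S → z = z') :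
    Nat.card Z ≤ S.index :=
  Nat.card_le_card_of_injective (fun z => (g z : G ⧸ S)) fun z z' e => h z z' (QuotientGroup.eq.1 e)

theorem conj_map (α : MulAut G) (g : G) : MulAut.conj (α g) = α * MulAut.conj g * α⁻¹ := by
  ext x
  obtain ⟨x, rfl⟩ := α.surjective x
  rw [MulAut.mul_apply, MulAut.mul_apply, MulAut.inv_apply_self, MulAut.conj_apply, MulAut.conj_apply, map_mul, map_mul,
    map_inv]

theorem conj_comm {σ : MulAut G} {g : G} (h : σ g = g) : MulAut.conj g * σ = σ * MulAut.conj g := by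
  have h1 := conj_map σ g
  rw [h] at h1
  exact eq_mul_inv_iff_mul_eq.1 h1

theorem comm_conj {a b c s m : G} (h1 : a * s * a⁻¹ = m) (h2 : c * s = s * c) (h3 : b = a * c * a⁻¹) :
    (m * b)⁻¹ * (b * m) = 1 := by
  rw [h3, ← h1]
  calc _ = a * ((s * c)⁻¹ * (c * s)) * a⁻¹ := by group
    _ = 1 := by rw [h2]; group

theorem apply_conj {α β γ : MulAut G} (h : γ = α * β * α⁻¹) (x : G) : α (β x) = γ (α x) := by
  rw [h, MulAut.mul_apply, MulAut.mul_apply, MulAut.inv_apply_self]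

end grp

theorem finrank_span_le {F V : Type} [Field F] [AddCommGroup V] [Module F V] [FiniteDimensional F V] {f : V → V → V}
    (h1 : ∀ x x' y, f (x + x') y = f x y + f x' y) (h2 : ∀ x y y', f x (y + y') = f x y + f x y')
    (h3 : ∀ (a : F) x y, ∃ c : F, f (a • x) y = c • f x y) (h4 : ∀ (a : F) x y, ∃ c : F, f x (a • y) = c • f x y)
    (U : Submodule F V) : finrank F (Submodule.span F {z | ∃ x ∈ U, ∃ y ∈ U, f x y = z}) ≤ finrank F U ^ 2 := by
  let b := Module.finBasis F U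
  let W := Submodule.span F (Set.range fun p : Fin (finrank F U) × Fin (finrank F U) => f (b p.1) (b p.2))
  have key : ∀ (g : V → V), (∀ x x', g (x + x') = g x + g x') → (∀ (a : F) x, ∃ c : F, g (a • x) = c • g x) →
      (∀ i, g (b i) ∈ W) → ∀ x : U, g x ∈ W := fun g k1 k2 k3 x => by
    have h5 : x ∈ Submodule.span F (Set.range b) := by rw [b.span_eq]; trivial
    induction h5 using Submodule.span_induction with
    | mem x hx => obtain ⟨i, rfl⟩ := hx; exact k3 i
    | zero =>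
      have h6 := k1 0 0
      rw [add_zero] at h6
      rw [Submodule.coe_zero, left_eq_add.1 h6]
      exact W.zero_mem
    | add x y _ _ hx hy => rw [Submodule.coe_add, k1]; exact W.add_mem hx hy
    | smul a x _ hx =>
      obtain ⟨c, hc⟩ := k2 a x
      rw [Submodule.coe_smul, hc]
      exact W.smul_mem c hx
  have h7 : Submodule.span F {z | ∃ x ∈ U, ∃ y ∈ U, f x y = z} ≤ W := Submodule.span_le.2 (by
    rintro _ ⟨x, hx, y, hy, rfl⟩
    exact key (fun x => f x y) (fun a c => h1 a c y) (fun a c => h3 a c y) (fun i => key (f (b i)) (h2 _) (fun a c => h4 a _ c)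
      (fun j => Submodule.subset_span ⟨(i, j), rfl⟩) ⟨y, hy⟩) ⟨x, hx⟩)
  refine (Submodule.finrank_mono h7).trans ((finrank_range_le_card _).trans ?_)
  rw [Fintype.card_prod, Fintype.card_fin, pow_two]

variable {F : Type} [Field F] [Fintype F]

/-- `N` maps `D` into itself -/
def Stb (N : Gam (plusQ 4 F)) (D : Submodule F (I8 → F)) : Prop := ∀ d ∈ D, N.1 d ∈ D

theorem Stb.mul {N N' : Gam (plusQ 4 F)} {D : Submodule F (I8 → F)} (h : Stb N D) (k : Stb N' D) : Stb (N * N') D :=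
  fun d hd => h _ (k d hd)

theorem Stb.inv {N : Gam (plusQ 4 F)} {D : Submodule F (I8 → F)} (h : Stb N D) : Stb N⁻¹ D := fun d hd => by
  obtain ⟨x, hx⟩ := Finite.surjective_of_injective (f := fun x : D => (⟨N.1 x, h x x.2⟩ : D))
    (fun a b e => Subtype.ext (N.1.injective (congrArg Subtype.val e))) ⟨d, hd⟩
  rw [← show N.1 x = d from congrArg Subtype.val hx, show N⁻¹.1 (N.1 x) = x from inv_apply _ _]
  exact x.2

theorem smul_of_one {N N' : Gam (plusQ 4 F)} (h : ph F (N⁻¹ * N') = 1) : ∃ a : F, ∀ v, N'.1 v = N.1 (a • v) := by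
  obtain ⟨a, -, ha⟩ := (Phi_eq_one_iff _ _).1 h
  exact ⟨a, fun v => by rw [← ha]; exact (apply_inv _ _).symm⟩

theorem Stb.congr {N N' : Gam (plusQ 4 F)} {D : Submodule F (I8 → F)} (h : Stb N D) (e : ph F N = ph F N') : Stb N' D := by
  obtain ⟨a, ha⟩ := smul_of_one (N := N) (N' := N') (by rw [map_mul, map_inv, e, inv_mul_cancel])
  exact fun d hd => ha d ▸ h _ (D.smul_mem a hd)

theorem stb_span {N : Gam (plusQ 4 F)} {S : Set (I8 → F)} (h : ∀ s ∈ S, N.1 s ∈ Submodule.span F S) :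
    Stb N (Submodule.span F S) := by
  obtain ⟨σ, c, hN⟩ := N.2
  intro d hd
  induction hd using Submodule.span_induction with
  | mem x hx => exact h x hx
  | zero => rw [hN.map_zero]; exact Submodule.zero_mem _
  | add x y _ _ hx hy => rw [hN.add]; exact Submodule.add_mem _ hx hy
  | smul a x _ hx => rw [hN.smul]; exact Submodule.smul_mem _ _ hx

/-- elements of `Ω` as semisimilarities -/
noncomputable def og : Omega F (quadFormPlus 4 F) →* Gam (plusQ 4 F) := (simGam (plusQ 4 F)).comp (omSim (plusQ 4 F))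

theorem og_apply (s : Omega F (quadFormPlus 4 F)) (v : I8 → F) :
    (og s).1 v = lin ((s : isometryGroup F (quadFormPlus 4 F)) : GL I8 F) v := by
  rw [lin, Matrix.toLin'_apply]
  rfl

theorem ph_og (s : Omega F (quadFormPlus 4 F)) : ph F (og s) = MulAut.conj (QuotientGroup.mk s : T8 F) :=
  S_omSim (good_plusQ (F := F) (m := 4) (by norm_num)) s

theorem exists_lift (y : T8 F) : ∃ N : Gam (plusQ 4 F), ph F N = MulAut.conj y := by
  obtain ⟨s, rfl⟩ := QuotientGroup.mk_surjective y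
  exact ⟨og s, ph_og s⟩

theorem sw_of {s : Omega F (quadFormPlus 4 F)} {D : Submodule F (I8 → F)} (h : Stb (og s) D) :
    ((s : isometryGroup F (quadFormPlus 4 F)) : GL I8 F) ∈ SW D := by
  refine mem_SW.2 (le_antisymm ?_ fun d hd => ⟨_, h.inv d hd, ?_⟩)
  · rintro _ ⟨d, hd, rfl⟩
    exact og_apply s d ▸ h d hd
  · rw [← og_apply]
    exact apply_inv _ _

theorem mem_St {y : T8 F} {N : Gam (plusQ 4 F)} (h : ph F N = MulAut.conj y) {D : Submodule F (I8 → F)} :
    y ∈ St D ↔ Stb N D := by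
  constructor
  · rintro ⟨s, hs, rfl⟩
    refine Stb.congr (N := og s) (fun d hd => ?_) ((ph_og s).trans h.symm)
    rw [og_apply, ← mem_SW.1 hs]
    exact ⟨d, hd, rfl⟩
  · intro k
    obtain ⟨s, rfl⟩ := QuotientGroup.mk_surjective y
    exact ⟨s, sw_of (k.congr (h.trans (ph_og s).symm)), rfl⟩

theorem pre_St (D : Submodule F (I8 → F)) : pre (quadFormPlus 4 F) (St D) ≤ SW D := by
  rintro _ ⟨_, ⟨s, hs, rfl⟩, rfl⟩
  exact sw_of ((mem_St (ph_og s)).1 hs)

theorem card_le_pre (R : Subgroup (T8 F)) : Nat.card R ≤ Nat.card (pre (quadFormPlus 4 F) R) := by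
  rw [pre, Subgroup.card_map_of_injective (Subgroup.subtype_injective _),
    Subgroup.card_map_of_injective (Subgroup.subtype_injective _)]
  refine Nat.card_le_card_of_surjective (fun s => ⟨_, s.2⟩) fun y => ?_
  obtain ⟨s, hs⟩ := QuotientGroup.mk'_surjective _ y.1
  exact ⟨⟨s, show QuotientGroup.mk' _ s ∈ R from hs ▸ y.2⟩, Subtype.ext hs⟩

/-- the image of a subspace -/
def gim (N : Gam (plusQ 4 F)) (D : Submodule F (I8 → F)) : Submodule F (I8 → F) where
  carrier := N.1 '' D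
  add_mem' := by
    obtain ⟨σ, c, hN⟩ := N.2
    rintro _ _ ⟨a, ha, rfl⟩ ⟨b, hb, rfl⟩
    exact ⟨a + b, D.add_mem ha hb, hN.add a b⟩
  zero_mem' := by
    obtain ⟨σ, c, hN⟩ := N.2
    exact ⟨0, D.zero_mem, hN.map_zero⟩
  smul_mem' := by
    obtain ⟨σ, c, hN⟩ := N.2
    rintro c _ ⟨b, hb, rfl⟩
    exact ⟨σ.symm c • b, D.smul_mem _ hb, by rw [hN.smul, RingEquiv.apply_symm_apply]⟩

theorem finrank_gim (N : Gam (plusQ 4 F)) (D : Submodule F (I8 → F)) : finrank F (gim N D) = finrank F D := by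
  have h1 : Nat.card (gim N D) = Nat.card D := Nat.card_image_of_injective N.1.injective (D : Set (I8 → F))
  rw [Module.natCard_eq_pow_finrank (K := F), Module.natCard_eq_pow_finrank (K := F) (V := D)] at h1
  exact Nat.pow_right_injective Finite.one_lt_card h1

theorem index_point {U : Submodule F (I8 → F)} (h1 : finrank F U = 1) (hU : An U) : Nat.card F ^ 6 ≤ (St U).index := by
  obtain ⟨v, hv, hv0⟩ := (Submodule.ne_bot_iff U).1 fun e => by rw [e, finrank_bot] at h1; omega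
  have hq : quadFormPlus 4 F v ≠ 0 := fun e => hv0 (hU v hv e)
  have h2 : Submodule.span F {v} = U :=
    Submodule.eq_of_le_of_finrank_eq ((Submodule.span_singleton_le_iff_mem _ _).2 hv) (by rw [finrank_span_singleton hv0, h1])
  let w : (Fin 3 → F) × (Fin 3 → F) → I8 → F := fun z =>
    Sum.elim (Fin.cons 1 z.1) (Fin.cons (quadFormPlus 4 F v - ∑ i, z.1 i * z.2 i) z.2)
  have hw : ∀ z, quadFormPlus 4 F (w z) = quadFormPlus 4 F v := fun z => by
    rw [LieClassical.OrthForms.quadFormPlus_apply, Fin.sum_univ_succ]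
    simp [w]
  choose g hg using fun z => H886.O8R.exists_map hq (hw z)
  have h3 := le_index (St U) (fun z => (QuotientGroup.mk (g z) : T8 F)) fun z z' e => by
    have h4 := (mem_St (ph_og ((g z)⁻¹ * g z'))).1 e v hv
    rw [← h2] at h4
    obtain ⟨c, hc⟩ := Submodule.mem_span_singleton.1 h4
    have h5 := congrArg (H886.O8R.om F (g z)) (hc.trans (show _ = H886.O8R.om F ((g z)⁻¹ * g z') v from rfl))
    rw [map_smul, hg, ← LinearEquiv.mul_apply, ← map_mul, mul_inv_cancel_left, hg] at h5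
    have h6 : c = 1 := by simpa [w] using congrFun h5 (.inl 0)
    rw [h6, one_smul] at h5
    exact Prod.ext (funext fun i => by simpa [w] using congrFun h5 (.inl i.succ))
      (funext fun i => by simpa [w] using congrFun h5 (.inr i.succ))
  rwa [Nat.card_prod, Nat.card_fun, Nat.card_eq_fintype_card (α := Fin 3), Fintype.card_fin, ← pow_add] at h3

theorem num_plane {q i n : ℕ} (hq : 4 ≤ q) (h1 : q ^ 12 * (q ^ 2 - 1) * (q ^ 4 - 1) ^ 2 * (q ^ 6 - 1) ≤ n * i * 4)
    (h2 : 2 * n ≤ 2 * (q + 1) * (2 * (q ^ 6 * (q ^ 2 - 1) * (q ^ 3 + 1) * (q ^ 4 - 1)))) : q ^ 10 < i := by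
  by_contra hc
  have e2 : 1 < q ^ 2 := Nat.one_lt_pow (by omega) (by omega)
  have e4 : 1 < q ^ 4 := Nat.one_lt_pow (by omega) (by omega)
  have e6 : 1 < q ^ 6 := Nat.one_lt_pow (by omega) (by omega)
  zify [e2.le, e4.le, e6.le] at h1 h2 hq hc e2 e4
  generalize (q : ℤ) = x at *
  have h3 : (n : ℤ) * i * 4 ≤ 2 * (x + 1) * (x ^ 6 * (x ^ 2 - 1) * (x ^ 3 + 1) * (x ^ 4 - 1)) * x ^ 10 * 4 := by
    have k1 : (n : ℤ) ≤ 2 * (x + 1) * (x ^ 6 * (x ^ 2 - 1) * (x ^ 3 + 1) * (x ^ 4 - 1)) := by linarith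
    have k2 : (0 : ℤ) ≤ n := Int.natCast_nonneg n
    exact mul_le_mul_of_nonneg_right (mul_le_mul k1 (not_lt.1 hc) (Int.natCast_nonneg i) (k2.trans k1)) (by norm_num)
  have h4 : 0 < x ^ 12 * (x ^ 2 - 1) * (x ^ 4 - 1) * (x + 1) * (x ^ 3 + 1) := by
    have : 0 < x ^ 2 - 1 := by linarith
    have : 0 < x ^ 4 - 1 := by linarith
    have : 0 < x := by linarith
    positivity
  have h5 : (x ^ 2 + 1) * (x - 1) * (x ^ 3 - 1) ≤ 8 * x ^ 4 :=
    le_of_mul_le_mul_left (by linear_combination h1 + h3) h4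
  obtain ⟨y, rfl⟩ : ∃ y, x = y + 4 := ⟨x - 4, by ring⟩
  have hy : 0 ≤ y := by linarith
  have h6 : 0 < ((y + 4) ^ 2 + 1) * (y + 4 - 1) * ((y + 4) ^ 3 - 1) - 8 * (y + 4) ^ 4 := by
    ring_nf
    positivity
  linarith

theorem index_plane (hq : 4 ≤ Nat.card F) {U : Submodule F (I8 → F)} (h1 : finrank F U = 2) (hU : An U) :
    Nat.card F ^ 10 < (St U).index := by
  have hF : Nat.card F = Nat.card F ^ 1 := (pow_one _).symm
  have h2 := H832.O8R.card_t8 hF
  have : Finite ((I8 → F) ≃ₗ[F] (I8 → F)) := Finite.of_injective _ DFunLike.coe_injective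
  have h3 := Nat.le_of_dvd Nat.card_pos (H372.O8R.two_mul_dvd h1 hU (pre_St U))
  have h4 := Nat.le_of_dvd (Nat.mul_pos Nat.card_pos Nat.card_pos)
    (H372.O8R.card_StO_dvd H372.O8R.nd_Q8 (H372.O8R.nondeg_W h1 hU))
  rw [H372.O8R.card_O_W hF h1 hU, H372.O8R.card_O_perp hF h1 hU, pow_one] at h4
  have h5 := card_le_pre (St U)
  rw [pow_one, ← (St U).card_mul_index] at h2
  refine num_plane hq (n := Nat.card (St U)) (h2 ▸ Nat.mul_le_mul_left _ ?_) (by omega)
  exact Nat.pow_le_pow_left (Nat.gcd_le_left _ two_pos) 2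

theorem si_conj {M : Gam (plusQ 4 F)} {τ : F ≃+* F} {c : F} (hτ : τ ≠ RingEquiv.refl F) (hM : IsSS (plusQ 4 F) τ c M.1)
    (hMM : M * M = 1) (A : Gam (plusQ 4 F)) : ∃ τ' : F ≃+* F, SI τ' (A⁻¹ * M * A).1 := by
  obtain ⟨σA, cA, hA⟩ := A.2
  have h1 : IsSS (plusQ 4 F) _ _ (A⁻¹ * M * A).1 := (hA.inv.mul hM).mul hA
  have h2 : ∀ v, (A⁻¹ * M * A).1 ((A⁻¹ * M * A).1 v) = v := fun v => by
    have h3 : A⁻¹ * M * A * (A⁻¹ * M * A) = 1 := by
      rw [show A⁻¹ * M * A * (A⁻¹ * M * A) = A⁻¹ * (M * M) * A by group, hMM, mul_one, inv_mul_cancel]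
    exact congrArg (fun k : Gam (plusQ 4 F) => k.1 v) h3
  refine ⟨_, h1.add, h1.smul, h2, fun a => ?_, ?_⟩
  · have h4 := h2 (a • Pi.single (.inl 0) 1)
    rw [h1.smul, h1.smul, h2] at h4
    simpa using congrFun h4 (.inl 0)
  · by_contra hc
    refine hτ (RingEquiv.ext fun a => ?_)
    have h6 : σA.symm (τ (σA (σA.symm a))) = σA.symm a := by_contra fun e => hc ⟨_, e⟩
    rw [RingEquiv.apply_symm_apply] at h6
    exact σA.symm.injective h6

/-- the orbit of a stable subspace under a group centralised by the involution -/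
theorem orbit_le {σ α : MulAut (T8 F)} {M : Gam (plusQ 4 F)} (h : α * σ * α⁻¹ = ph F M) {X : Subgroup (T8 F)}
    (hX : ∀ x ∈ X, σ x = x) {D : Submodule F (I8 → F)} (hM : Stb M D) : ((St D).comap α.toMonoidHom).relIndex X ≤
      Nat.card {D' : Submodule F (I8 → F) // (∀ d ∈ D', M.1 d ∈ D') ∧ finrank F D' = finrank F D} := by
  choose L hL using fun x : X => exists_lift (α x)
  have : Finite (Submodule F (I8 → F)) := Finite.of_injective _ SetLike.coe_injective
  have h1 : ∀ x, Stb M (gim (L x) D) := fun x => by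
    have h2 := comm_conj h (conj_comm (hX x x.2)) ((hL x).trans (conj_map α x))
    rw [← map_mul, ← map_mul, inv_mul_eq_one] at h2
    obtain ⟨a, ha⟩ := smul_of_one (N := L x * M) (N' := M * L x) (by rw [map_mul, map_inv, h2, inv_mul_cancel])
    rintro _ ⟨d, hd, rfl⟩
    exact ⟨_, hM _ (D.smul_mem a hd), (ha d).symm⟩
  refine relIndex_le _ X (fun x => ⟨gim (L x) D, h1 x, finrank_gim _ _⟩) fun x x' e => ?_
  have h2 : gim (L x) D = gim (L x') D := congrArg Subtype.val e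
  change α ((x : T8 F)⁻¹ * x') ∈ St D
  refine (mem_St (N := (L x)⁻¹ * L x') ?_).2 fun d hd => ?_
  · rw [map_mul (ph F), map_inv (ph F), hL, hL, map_mul α, map_inv α, map_mul MulAut.conj, map_inv MulAut.conj]
  · have h3 : (L x').1 d ∈ gim (L x') D := ⟨d, hd, rfl⟩
    rw [← h2] at h3
    obtain ⟨d', hd', e'⟩ := h3
    rw [show ((L x)⁻¹ * L x').1 d = (L x).1⁻¹ ((L x').1 d) from rfl, ← e', inv_apply]
    exact hd'

theorem not_le {M : Gam (plusQ 4 F)} {τ : F ≃+* F} (hτ : SI τ M.1) {U : Submodule F (I8 → F)}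
    (hU : finrank F U = 1 ∨ finrank F U = 2) (hA : An U) {k : ℕ} (h0 : 0 < k) (hd : k ≤ finrank F U ^ 2) :
    ¬ (St U).index ≤ Nat.card {D' : Submodule F (I8 → F) // (∀ d ∈ D', M.1 d ∈ D') ∧ finrank F D' = k} := by
  intro h1
  have h3 := (Nat.mul_le_mul_right _ h1).trans (hτ.count k)
  have hs : 1 < Nat.card (F1 τ) := Finite.one_lt_card
  have hq := hτ.card_field
  rw [H372.O8R.dim_Q8] at h3
  rcases hU with e | e
  · have h4 := (Nat.mul_le_mul_right _ (index_point e hA)).trans h3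
    rw [hq, ← pow_mul, ← pow_add, show k = 1 by rw [e] at hd; omega] at h4
    exact absurd ((Nat.pow_le_pow_iff_right hs).1 h4) (by norm_num)
  · have h4 := (Nat.mul_lt_mul_of_pos_right (index_plane (by rw [hq]; nlinarith) e hA) (Nat.pow_pos (by omega))).trans_le h3
    rw [hq, ← pow_mul, ← pow_add] at h4
    have h5 := (Nat.pow_lt_pow_iff_right hs).1 h4
    rw [e] at hd
    have : k ≤ 4 := hd
    interval_cases k <;> omega

theorem index_le {G : Type} [Group G] [Finite G] {X Y S : Subgroup G} (hP : Pd X Y) (h : X ⊓ S ≤ Y) :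
    Y.index ≤ S.relIndex X := by
  rw [← hP.relIndex, ← Subgroup.inf_relIndex_right S]
  exact Nat.le_of_dvd (Nat.pos_of_ne_zero Subgroup.FiniteIndex.index_ne_zero)
    (Subgroup.relIndex_dvd_of_le_left _ (by rwa [inf_comm]))

end M1

open M1

theorem boxM1 : BoxM1 := by
  intro F _ _ σ U X ⟨γ, M₀, τ₀, c₀, hτ₀, hM₀, hMM, hγ⟩ hn hU hA hX hP
  obtain ⟨A, α, f, T⟩ : ∃ (A : Gam (plusQ 4 F)) (α : MulAut (T8 F)) (f : (I8 → F) → (I8 → F) → I8 → F),
      Tw (ph F) σ α (A⁻¹ * M₀ * A) f := tw_phi (plusQ_eq 4 F) (good_plusQ (F := F) (m := 4) (by norm_num)) hMM hγ hn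
  obtain ⟨τ, hτ⟩ := si_conj hτ₀ hM₀ hMM A
  generalize A⁻¹ * M₀ * A = M at T hτ
  have key : ∀ N : Gam (plusQ 4 F), ph F N * σ = σ * ph F N → Stb N U → ∃ N' : Gam (plusQ 4 F),
      ph F N' = α * ph F N * α⁻¹ ∧ Stb N' (Submodule.span F {z | ∃ x ∈ U, ∃ y ∈ U, f x y = z}) := fun N hN hS => by
    obtain ⟨N', h1, h2⟩ := T.eqv N hN
    refine ⟨N', h1, stb_span ?_⟩
    rintro _ ⟨x, hx, y, hy, rfl⟩
    obtain ⟨c, hc⟩ := h2 x y
    rw [hc]
    exact Submodule.smul_mem _ c (Submodule.subset_span ⟨_, hS x hx, _, hS y hy, rfl⟩)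
  have hM : Stb M (Submodule.span F {z | ∃ x ∈ U, ∃ y ∈ U, f x y = z}) := stb_span (by
    rintro _ ⟨x, hx, y, hy, rfl⟩
    obtain ⟨c, hc⟩ := T.swap x y
    rw [hc]
    exact Submodule.smul_mem _ c (Submodule.subset_span ⟨_, hy, _, hx, rfl⟩))
  have hd := finrank_span_le T.addl T.addr T.smull T.smulr U
  have h0 : Submodule.span F {z | ∃ x ∈ U, ∃ y ∈ U, f x y = z} ≠ ⊥ := by
    obtain ⟨v, hv, hv0⟩ := (Submodule.ne_bot_iff U).1 fun e => by rw [e, finrank_bot] at hU; omega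
    exact (Submodule.ne_bot_iff _).2 ⟨f v v, Submodule.subset_span ⟨v, hv, v, hv, rfl⟩, fun e =>
      T.ne v (fun k => hv0 (hA v hv k)) (by rw [e, map_zero])⟩
  generalize Submodule.span F {z | ∃ x ∈ U, ∃ y ∈ U, f x y = z} = D at key hM hd h0
  refine ⟨α, D, h0, hd.trans (by rcases hU with e | e <;> rw [e] <;> norm_num), fun x hx => ?_, fun hle => ?_, fun N hN hS x hx => ?_⟩
  · obtain ⟨N, hN⟩ := exists_lift x
    obtain ⟨N', h1, h2⟩ := key N (by rw [hN]; exact conj_comm (hX x hx.1)) ((mem_St hN).1 hx.2)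
    rw [hN, ← conj_map] at h1
    exact (mem_St h1).2 h2
  · exact not_le hτ hU hA (Nat.pos_of_ne_zero fun e => h0 (Submodule.finrank_eq_zero.1 e)) hd
      ((index_le hP hle).trans (orbit_le T.conj hX hM))
  · obtain ⟨N', h1, h2⟩ := key N hN hS
    obtain ⟨Y, hY⟩ := exists_lift (α x)
    change α (ph F N x) ∈ St D
    rw [apply_conj h1]
    refine (mem_St (N := N' * Y * N'⁻¹) ?_).2 ((h2.mul ((mem_St hY).1 hx)).mul h2.inv)
    rw [map_mul (ph F), map_mul (ph F), map_inv (ph F), hY]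
    exact (conj_map _ _).symm

end Cfsg.Agent.SM.O8
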