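import Cfsg.Agent.SM.O8.Can
import Cfsg.Agent.SM.O8.Cnt
import Cfsg.Agent.SM.O8.GP
import Cfsg.Agent.SM.O8.NT
import Cfsg.Agent.SM.O8.KU
import Cfsg.Agent.SM.O8.M1
import Cfsg.Agent.S0294

/-!
# SM, `S = PΩ⁺₈(q)`, `q ≥ 4`: the cases which contradict primitivity (helper71)
-/

set_option autoImplicit false
set_option linter.unusedSectionVars false

namespace Cfsg.Agent.SM.O8

open Module QuadraticMap Cfsg Cfsg.Geo Cfsg.Agent.LieClassical.OrthCore Cfsg.Agent.LieClassical.OrthTrans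
open Subgroup
open Cfsg.Agent.H951 (fx cm Inv mem_fx)
open Cfsg.Agent.H884.El (pre lin PP Iso pre_le card_dvd_pre)
open Cfsg.Agent.H708.O8 (I8 T8)
open Cfsg.Agent.H823.O8S (mk8 gl8 exists_lift)
open Cfsg.Agent.H198.Carriers (plusQ)
open Cfsg.Agent.H955 (perp res mem_perp mem_perp' nondeg_res_iff)
open Cfsg.Agent.LieClassical.OmegaReindex (quadPlus)
open Cfsg.Agent.ClassicalGeometry.OrthSemi (Gam)
open Cfsg.Agent.SM.Ex78 (Pd)

variable {F : Type} [Field F] [Fintype F] {r t : ℕ} {X Y R N : Subgroup (T8 F)} {U V : Subgroup (MulAut (T8 F))}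
  {σ : MulAut (T8 F)}

/-- the image of a group of automorphisms -/
abbrev ia (α : MulAut (T8 F)) (U : Subgroup (MulAut (T8 F))) : Subgroup (MulAut (T8 F)) :=
  U.map (MulAut.conj α).toMonoidHom

theorem mem_ia {α β : MulAut (T8 F)} (h : β ∈ U) : α * β * α⁻¹ ∈ ia α U := ⟨β, h, rfl⟩

/-- `pt v` is not transitive on the conjugates of the canonical subspace in the same module -/
theorem not_pd_Fx (hr : PP (Nat.card F) 4 r) (hd : r ∣ Nat.card Y) (hs : Fx r Y ≠ ⊥) {v : I8 → F}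
    (hv : quadFormPlus 4 F v ≠ 0) : ¬ Pd (pt v) Y := fun h => by
  have := Fact.mk hr.prime
  obtain ⟨y, hy, hyr, hy1⟩ := exists_elt hr.prime (hr.odd (by norm_num)) hd
  have h1 := Can.Fx_le hy hyr
  have h2 : Iso (plusQ 4 F) (ln y) r := Iso.mk' hr (by norm_num)
    (by rw [← Can.ln_pow, hyr]; exact LinearMap.ext ln_one) (Q_ln y)
  have h3 := (Can.fx_four hr hyr (fun k => hy1 (by rw [k, map_one])) fun k => hs (eq_bot_iff.2 (k ▸ h1))).1
  have h4 : finrank F (fx (ln y)) + finrank F (cm (ln y)) = 8 := h2.finrank_add.trans Can.dim8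
  have h6 : finrank F (cm (ln y)) = 4 := by omega
  obtain ⟨a, ha, -, -, h5, -⟩ := H886.O8R.exists_copy (H954.TSing.nondeg_cm good8.nondeg h2.iso h2.ne0 h2.pow) h6.ge
    (quadFormPlus 4 F v) 0 0
  exact not_pd hv hs h5 (fun w hw => H823.O8S.polar_cm_fx (Q_ln y) (h1 hw) ha) (h.mono le_rfl (le_St_Fx r Y))

/-- `X = pt v` and `Y` has a canonical subspace: `Y` is a point stabiliser -/
theorem pt_of_SR (h4 : 4 ≤ Nat.card F) (hr : PP (Nat.card F) 4 r) {v : I8 → F} (hv : quadFormPlus 4 F v ≠ 0)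
    (c : Cf (pt v) Y U V) (hU : ∀ β ∈ U, ∃ M : Gam (plusQ 4 F), ph F M = β ∧ M.1 v ∈ Submodule.span F {v})
    (hd : r ∣ Nat.card Y) (hs : SR r Y) : ∃ (α : MulAut (T8 F)) (w : I8 → F), w ≠ 0 ∧ im α Y = pt w := by
  obtain ⟨α, hα⟩ := hs
  obtain ⟨h1, h2, h3, h5⟩ := canY hr (c.map α) ((card_im α Y).symm ▸ hd) hα
  by_cases h6 : 2 ≤ finrank F (Fx r (im α Y))
  · exfalso
    have h7 : ¬ Nt α := by
      rintro ⟨M, rfl⟩
      rw [Fx_im, Ne, gm_eq_bot] at hα
      exact not_pd_Fx hr hd hα hv c.pd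
    obtain ⟨D, k1, k2, k3, k4⟩ := KU.boxKU F h4 v α _ hv h7 h6 h2 (h3 h6)
    have e : (St (Fx r (im α Y))).comap α.toMonoidHom = Y := by rw [← h1, comap_eq_im, im_inv_im]
    rw [e] at k1 k3
    have hI : Iv (U ⊓ V) (pt v ⊓ St D) := fun β hβ x hx => by
      refine ⟨c.uX β hβ.1 x hx.1, ?_⟩
      obtain ⟨M, rfl, hM⟩ := hU β hβ.1
      obtain ⟨M', e', hM'⟩ := h5 _ (mem_ia (α := α) hβ.2)
      exact ph_St (k4 M M' e' hM hM') hx.2
    rcases c.prim _ (le_inf inf_le_left k1) inf_le_left hI with h | h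
    · exact k3 (h.le.trans inf_le_right)
    · exact k2 (h.ge.trans inf_le_right)
  · have h7 : finrank F (Fx r (im α Y)) = 1 := by
      have := Submodule.finrank_eq_zero.not.2 hα
      omega
    obtain ⟨w, hw, hw0⟩ := (Submodule.ne_bot_iff _).1 hα
    refine ⟨α, w, hw0, h1.trans (congrArg St ?_)⟩
    exact (Submodule.eq_of_le_of_finrank_eq ((Submodule.span_singleton_le_iff_mem _ _).2 hw)
      ((finrank_span_singleton hw0).trans h7.symm)).symm

/-- an automorphism which normalises `N` commutes with `σ` -/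
theorem Mn.comm (h : Mn R N σ) {β : MulAut (T8 F)} (hβ : ∀ x ∈ N, β x ∈ N) : β * σ = σ * β := by
  let C : Subgroup (MulAut (T8 F)) :=
    { carrier := {γ | ∀ x ∈ N, γ x = x}
      one_mem' := fun _ _ => rfl
      mul_mem' := fun {a b} ha hb x hx => by rw [MulAut.mul_apply, hb x hx, ha x hx]
      inv_mem' := fun {a} ha x hx => by
        conv_lhs => rw [← ha x hx]
        exact MulAut.inv_apply_self _ a x }
  have h1 : β⁻¹ * σ * β ∈ C := fun x hx => by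
    rw [MulAut.mul_apply, MulAut.mul_apply, h.fix _ (hβ x hx), MulAut.inv_apply_self]
  rcases eq_of_no_nt (C := C) (fun γ hγ k => h.cor γ k hγ) h.fix h.ne h.sq h1 with k | k
  · exact absurd (by rw [show σ = β * (β⁻¹ * σ * β) * β⁻¹ by group, k, mul_one, mul_inv_cancel]) h.ne
  · conv_lhs => rw [← k]
    group

theorem Mn.not_nt (h : Mn R N σ) : ¬ Nt σ := fun k => h.ne (h.cor σ k h.fix)

theorem Mn.ne_bot (h : Mn R N σ) : N ≠ ⊥ := fun k => h.nab (by rw [k]; infer_instance)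

theorem conj_injective8 : Function.Injective (MulAut.conj : T8 F →* MulAut (T8 F)) := by
  rw [injective_iff_map_eq_one]
  intro g hg
  obtain ⟨y, rfl⟩ := mk8_surjective g
  rw [← ph_og, ph_eq_one] at hg
  obtain ⟨a, -, ha⟩ := hg
  refine (QuotientGroup.eq_one_iff _).2 (Subgroup.mem_center_iff.2 fun z => om_ext fun v => ?_)
  rw [ln_mul, ln_mul, ← og_apply y, ← og_apply y, ha, ha, map_smul]

/-- `N` is characteristic in `R` -/
theorem Mn.iv (h : Mn R N σ) {β : MulAut (T8 F)} (hβ : ∀ x ∈ R, β x ∈ R) : ∀ x ∈ N, β x ∈ N := by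
  have hs := h.simple
  have hR : im β R = R := Subgroup.eq_of_le_of_card_ge (Subgroup.map_le_iff_le_comap.2 hβ) (card_im _ _).ge
  have h1 : ∀ g ∈ R, ∀ x, β x ∈ N → β (g * x * g⁻¹) ∈ N := fun g hg x hx => by
    rw [map_mul, map_mul, map_inv]
    exact h.conj _ (hβ g hg) _ hx
  have h2 : ((N.comap β.toMonoidHom).subgroupOf N).Normal := ⟨fun x hx g => h1 g (h.le g.2) x hx⟩
  rcases h2.eq_bot_or_eq_top with k | k
  · exfalso
    obtain ⟨⟨z, hz⟩, hz1⟩ := (Subgroup.ne_bot_iff_exists_ne_one).1 h.ne_bot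
    have hz' : β⁻¹ z ∈ R := mem_im'.1 (by rw [hR]; exact h.le hz)
    have h3 : MulAut.conj (β⁻¹ z) = 1 := by
      refine h.cor _ (nt_conj _) fun x hx => ?_
      have h4 : β⁻¹ z * x * (β⁻¹ z)⁻¹ * x⁻¹ ∈ N := mul_mem (h.conj _ hz' x hx) (inv_mem hx)
      have h5 : (⟨_, h4⟩ : N) ∈ (N.comap β.toMonoidHom).subgroupOf N := by
        change β (β⁻¹ z * x * (β⁻¹ z)⁻¹ * x⁻¹) ∈ N
        rw [show β⁻¹ z * x * (β⁻¹ z)⁻¹ * x⁻¹ = β⁻¹ z * (x * (β⁻¹ z)⁻¹ * x⁻¹) by group, map_mul, MulAut.apply_inv_self]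
        exact mul_mem hz (h1 x (h.le hx) _ (by rw [map_inv, MulAut.apply_inv_self]; exact inv_mem hz))
      rw [k, mem_bot] at h5
      exact mul_inv_eq_one.1 (congrArg Subtype.val h5)
    have h6 : β⁻¹ z = 1 := conj_injective8 (by rw [h3, map_one])
    exact hz1 (Subtype.ext (β⁻¹.injective (h6.trans (map_one _).symm)))
  · intro x hx
    have h7 : (⟨x, hx⟩ : N) ∈ (N.comap β.toMonoidHom).subgroupOf N := by rw [k]; trivial
    exact h7

theorem Mn.fixR (h : Mn R N σ) {y : T8 F} (hy : y ∈ R) : σ y = y := by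
  have h1 := h.comm (β := MulAut.conj y) fun x hx => h.conj y hy x hx
  apply conj_injective8
  ext x
  obtain ⟨x, rfl⟩ := σ.surjective x
  have h2 := congrArg (fun γ : MulAut (T8 F) => γ x) h1
  simp only [MulAut.mul_apply, MulAut.conj_apply, map_mul, map_inv] at h2 ⊢
  exact h2.symm

theorem lt_O7 {q n : ℕ} (hq : 2 ≤ q) (h : O7 q n) : q ^ 18 < n := by
  unfold O7 at h
  have h1 : Nat.gcd 2 (q - 1) ≤ 2 := Nat.gcd_le_left _ (by norm_num)
  have h2 : ∀ m, 1 ≤ m → q ^ m ≤ 2 * (q ^ m - 1) := fun m hm => by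
    have := Nat.pow_le_pow_left hq m
    have := Nat.pow_le_pow_right (by norm_num : 0 < 2) hm
    omega
  have h3 : q ^ 2 * (q ^ 4 * q ^ 6) ≤ 2 * (q ^ 2 - 1) * (2 * (q ^ 4 - 1) * (2 * (q ^ 6 - 1))) :=
    Nat.mul_le_mul (h2 2 (by norm_num)) (Nat.mul_le_mul (h2 4 (by norm_num)) (h2 6 (by norm_num)))
  by_contra hc
  push Not at hc
  have h4 : q ^ 9 * ((q ^ 2 - 1) * (q ^ 4 - 1) * (q ^ 6 - 1)) ≤ q ^ 9 * (q ^ 9 * 2) := by
    rw [← h]
    calc n * Nat.gcd 2 (q - 1) ≤ q ^ 18 * 2 := Nat.mul_le_mul hc h1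
      _ = _ := by ring
  have h5 := Nat.le_of_mul_le_mul_left h4 (by positivity)
  have h6 : q ^ 9 * q ^ 3 ≤ q ^ 9 * 16 := by
    calc q ^ 9 * q ^ 3 = q ^ 2 * (q ^ 4 * q ^ 6) := by ring
      _ ≤ 8 * ((q ^ 2 - 1) * (q ^ 4 - 1) * (q ^ 6 - 1)) := h3.trans (le_of_eq (by ring))
      _ ≤ 8 * (q ^ 9 * 2) := Nat.mul_le_mul_left _ h5
      _ = _ := by ring
  have h7 := Nat.le_of_mul_le_mul_left h6 (by positivity)
  obtain rfl : q = 2 := by
    by_contra hq2
    have := Nat.pow_le_pow_left (show 3 ≤ q by omega) 3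
    omega
  norm_num at h5

/-- `Y` is not of type `Ω⁻₈(q₀)` -/
theorem kill_Y (hr : PP (Nat.card F) 4 r) {v : I8 → F} (hv : quadFormPlus 4 F v ≠ 0) (c : Cf (pt v) Y U V)
    (hd : r ∣ Nat.card (pt v)) (hs : Fx r (pt v) ≠ ⊥) (h : Mn Y N σ) : False := by
  have hI : Iv (U ⊓ V) (pt v ⊓ im σ (pt v)) := fun β hβ x hx => by
    refine ⟨c.uX β hβ.1 x hx.1, ?_⟩
    obtain ⟨z, hz, e⟩ := hx.2
    have h1 : β x = σ (β z) := by
      rw [← e, ← MulAut.mul_apply, ← h.comm (h.iv (c.vY β hβ.2))]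
      rfl
    rw [h1]
    exact mem_im.2 (c.uX β hβ.1 z hz)
  rcases c.prim (pt v ⊓ im σ (pt v)) (fun a ha => ⟨ha.1, by rw [← h.fixR ha.2]; exact mem_im.2 ha.1⟩) inf_le_left hI with k | k
  · have h1 : (im σ (pt v)).relIndex (pt v) = Y.index := by
      rw [← inf_relIndex_left, k, inf_relIndex_left, c.pd.relIndex]
    have h2 : (im σ (pt v)).relIndex (pt v) ≤ (pt v).index := by
      rw [← index_im σ, ← relIndex_top_right]
      exact relIndex_le_of_le_right le_top (by rw [relIndex_top_right]; exact index_ne_zero_of_finite)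
    have h3 := lt_O7 Finite.one_lt_card (boxExt F v hv).2.1
    have h4 := (pt v).card_mul_index.trans Y.card_mul_index.symm
    have h5 : Nat.card Y * Y.index < Nat.card (pt v) * (pt v).index :=
      Nat.mul_lt_mul_of_lt_of_le (h.card.trans_lt h3) (h1 ▸ h2) (Nat.pos_of_ne_zero index_ne_zero_of_finite)
    omega
  · have h1 : im σ (pt v) = pt v := (Subgroup.eq_of_le_of_card_ge (k.ge.trans inf_le_right) (card_im _ _).le).symm
    exact h.not_nt (nt_of_fx hr hd hs (by rw [h1]; exact hs))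

/-- a reducible group of order divisible by `r₃` -/
theorem sr_of_red (hr : PP (Nat.card F) 4 r) (ht : PP (Nat.card F) 3 t) (hd : t ∣ Nat.card R) {D : Submodule F (I8 → F)}
    (h0 : D ≠ ⊥) (h4 : finrank F D ≤ 4) (h : R ≤ St D) : SR r R := by
  have h1 : ∀ g ∈ pre (quadFormPlus 4 F) R, Inv (lin g) D := fun g hg _ hw => mem_of_SW (le_St.1 h hg) hw
  by_cases h3 : finrank F D ≤ 3
  · exact G4.sr_small hr h0 h3 fun g hg _ => h1 g hg
  have hp : ∀ u w, polar (quadPlus 4 F) u w = polar (quadFormPlus 4 F) u w := fun u w => by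
    rw [LieClassical.OmegaReindex.coe_quadPlus]
  have h2 : ∀ g ∈ pre (quadFormPlus 4 F) R, Inv (lin g) (D ⊓ perp (quadPlus 4 F) D) := fun g hg w hw => by
    refine ⟨h1 g hg w hw.1, fun u hu => ?_⟩
    obtain ⟨y, rfl, hy⟩ := exists_lift hg
    have h5 := hw.2 _ (h1 _ (inv_mem hg) u hu)
    change polar (quadPlus 4 F) (lin (gl8 F y)⁻¹ u) w = 0 at h5
    change polar (quadPlus 4 F) u (ln y w) = 0
    rw [hp] at h5 ⊢
    rw [← map_inv, ← polar_ln y] at h5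
    rwa [show ln y (lin (gl8 F y⁻¹) u) = u from ln_apply_inv y u] at h5
  by_cases h5 : D ⊓ perp (quadPlus 4 F) D = ⊥
  · exfalso
    refine G4.N4.kill pre_le ht (hd.trans card_dvd_pre) ⟨D, nondeg_res_iff.2 fun x hx k => ?_, by omega,
      fun g hg => Or.inl (h1 g hg), fun g hg _ _ _ => h1 g hg⟩
    have h6 : x ∈ D ⊓ perp (quadPlus 4 F) D := ⟨hx, mem_perp'.2 k⟩
    rwa [h5] at h6
  by_cases h6 : finrank F ↥(D ⊓ perp (quadPlus 4 F) D) ≤ 3
  · exact G4.sr_small hr h5 h6 fun g hg _ => h2 g hg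
  · have h7 : D ⊓ perp (quadPlus 4 F) D = D := Submodule.eq_of_le_of_finrank_le inf_le_left (by omega)
    exact G4.sr_iso boxTW hr (by omega) (fun u hu w hw => (h7.ge hw).2 u hu) fun g hg _ => h1 g hg

/-- `X` is not of type `Ω⁻₈(q₀)` -/
theorem kill_X (hr : PP (Nat.card F) 4 r) (ht : PP (Nat.card F) 3 t) {W : Submodule F (I8 → F)}
    (hW : finrank F W = 1 ∨ finrank F W = 2) (hA : An W) (c : Cf X (St W) U V)
    (hV : ∀ β ∈ V, ∃ M : Gam (plusQ 4 F), ph F M = β ∧ ∀ u ∈ W, M.1 u ∈ W) (h : Mn X N σ) (hd : t ∣ Nat.card X) :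
    SR r X := by
  obtain ⟨α, D, k0, k1, k2, k3, k4⟩ := boxM1 F σ W X h.sf h.not_nt hW hA (fun _ => h.fixR) c.pd
  have hI : Iv (U ⊓ V) (X ⊓ (St D).comap α.toMonoidHom) := fun β hβ x hx => by
    refine ⟨c.uX β hβ.1 x hx.1, ?_⟩
    obtain ⟨M, rfl, hM⟩ := hV β hβ.2
    exact k4 M (h.comm (h.iv (c.uX _ hβ.1))) hM x hx.2
  rcases c.prim _ (le_inf inf_le_left k2) inf_le_left hI with k | k
  · exact absurd (k.le.trans inf_le_right) k3
  · exact SR.of_im (α := α) (sr_of_red hr ht ((card_im α X).symm ▸ hd) k0 k1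
      (Subgroup.map_le_iff_le_comap.2 (k.ge.trans inf_le_right)))

theorem Om8.dvd {q : ℕ} (hq : 1 ≤ q) (ht : PP q 3 t) {S : Type} [Group S] (h : Om8 q S) : t ∣ Nat.card S := by
  obtain ⟨K, _, _, c, d, h1, h2, ⟨e⟩⟩ := h
  have h3 := Cfsg.Agent.S0294.result (F := K) rfl 4 le_rfl c d h2
  rw [Nat.card_congr e.toEquiv]
  have h4 : t ∣ Fintype.card K ^ (2 * (2 + 1)) - 1 := by
    rw [pow_mul, h1]
    exact (ht.dvd_iff hq 3).2 dvd_rfl
  have h5 : t ∣ Nat.gcd 4 (Fintype.card K ^ 4 + 1) * Nat.card (POmega K (quadFormMinus (4 - 1) K c d)) := by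
    rw [h3]
    exact (h4.trans (Finset.dvd_prod_of_mem (fun i => Fintype.card K ^ (2 * (i + 1)) - 1) (a := 2)
      (Finset.mem_range.2 (by norm_num)))).mul_left _
  refine (ht.prime.dvd_mul.1 h5).resolve_left fun k => ?_
  have h6 := Nat.le_of_dvd (by norm_num) (k.trans (Nat.gcd_dvd_left _ _))
  have h7 := ht.lt (by norm_num)
  obtain rfl : t = 4 := by omega
  exact absurd ht.prime (by norm_num)

end Cfsg.Agent.SM.O8
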