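import Cfsg.Agent.SM.O8.Cf
import Cfsg.Agent.SM.Rig

/-!
# SM: counting overgroups in a fixed model `G` of the socles (helper71)

`Md X H ι a M Y`: the socle of `M` is identified with `G` by an isomorphism which extends `ι : T → G`, and `Y` is the image of the
stabiliser of `a`.  `cls`: the number of overgroups is at most the number of conjugacy classes of candidates `Y`.
-/

set_option autoImplicit false
set_option linter.unusedSectionVars false

namespace Cfsg.Agent.SM.O8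

open Subgroup Equiv MulAction
open Cfsg.Agent.SM.Ex78 (Pd)

variable {Ω : Type} [Fintype Ω] [DecidableEq Ω] {X H T M M' S : Subgroup (Perm Ω)} {G : Type} [Group G] {ι : T →* G} {a : Ω}
  {Y Y' : Subgroup G}

/-- the model of an overgroup -/
def Md (X H : Subgroup (Perm Ω)) {T : Subgroup (Perm Ω)} (ι : T →* G) (a : Ω) (M : Subgroup (Perm Ω)) (Y : Subgroup G) : Prop :=
  ∃ S, ∃ u : Up X H T M S, ∃ φ : S ≃* G, (∀ t (ht : t ∈ T), φ ⟨t, u.le ht⟩ = ι ⟨t, ht⟩) ∧ dn φ (M ⊓ stabilizer (Perm Ω) a) = Y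

/-- the restriction of a model to `T` -/
def rs (u : Up X H T M S) (φ : S ≃* G) : T →* G := φ.toMonoidHom.comp (inclusion u.le)

theorem rs_injective (u : Up X H T M S) (φ : S ≃* G) : Function.Injective (rs u φ) :=
  φ.injective.comp (inclusion_injective u.le)

theorem md_rs (u : Up X H T M S) (φ : S ≃* G) (a : Ω) : Md X H (rs u φ) a M (dn φ (M ⊓ stabilizer (Perm Ω) a)) :=
  ⟨S, u, φ, fun _ _ => rfl, rfl⟩

theorem dn_eq_range (u : Up X H T M S) {φ : S ≃* G} (h : ∀ t (ht : t ∈ T), φ ⟨t, u.le ht⟩ = ι ⟨t, ht⟩) :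
    dn φ T = ι.range := by
  ext g
  constructor
  · rintro ⟨s, hs, rfl⟩
    exact ⟨⟨s, hs⟩, (h s hs).symm⟩
  · rintro ⟨t, rfl⟩
    exact ⟨⟨t, u.le t.2⟩, t.2, h t t.2⟩

theorem range_rs (u : Up X H T M S) (φ : S ≃* G) : (rs u φ).range = dn φ T := (dn_eq_range u fun _ _ => rfl).symm

theorem dn_trans (φ : S ≃* G) (τ : MulAut G) (A : Subgroup (Perm Ω)) :
    dn (φ.trans τ) A = (dn φ A).map τ.toMonoidHom := by
  unfold dn
  rw [Subgroup.map_map]
  rfl

namespace Md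

theorem cf (h : Md X H ι a M Y) : ∃ U V, Cf ι.range Y U V := by
  obtain ⟨S, u, φ, h1, rfl⟩ := h
  exact ⟨_, _, dn_eq_range u h1 ▸ (u.fac a).cf φ⟩

theorem mem (h : Md X H ι a M Y) (t : T) : ι t ∈ Y ↔ (t : Perm Ω) a = a := by
  obtain ⟨S, u, φ, h1, rfl⟩ := h
  rw [← h1 t t.2, mem_dn]
  exact ⟨fun k => k.2, fun k => ⟨u.socM.le (u.le t.2), k⟩⟩

theorem index (h : Md X H ι a M Y) : Y.index = Fintype.card Ω := by
  obtain ⟨S, u, φ, h1, rfl⟩ := h
  unfold dn
  rw [Subgroup.index_map_of_bijective φ.bijective, ← u.relIndex a, (u.fac a).relIndex_eq]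
  rfl

/-- composition with an automorphism of the model -/
theorem comp (h : Md X H ι a M Y) (τ : MulAut G) {ι' : T →* G} (hτ : ∀ t, τ (ι t) = ι' t) :
    Md X H ι' a M (Y.map τ.toMonoidHom) := by
  obtain ⟨S, u, φ, h1, rfl⟩ := h
  exact ⟨S, u, φ.trans τ, fun t ht => by rw [MulEquiv.trans_apply, h1, hτ], dn_trans φ τ _⟩

theorem eq (h : Md X H ι a M Y) (h' : Md X H ι a M' Y) : M = M' := by
  obtain ⟨S, u, φ, h1, h2⟩ := h
  obtain ⟨S', u', φ', h3, h4⟩ := h'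
  refine u.rig_model u' φ φ' (MulEquiv.refl _) (fun t ht => (h1 t ht).trans (h3 t ht).symm) (a := a) (b := a)
    fun s s' hs e => ?_
  have h5 : φ s ∈ Y := h2 ▸ mem_dn.2 ⟨u.socM.le s.2, hs⟩
  have h6 : φ' s' ∈ dn φ' (M' ⊓ stabilizer (Perm Ω) a) := by
    rw [h4, ← e]
    exact h5
  exact (mem_dn.1 h6).2

/-- conjugate candidates belong to the same overgroup -/
theorem eq_conj (h : Md X H ι a M Y) (g : G) (h' : Md X H ι a M' (Y.map (MulAut.conj g).toMonoidHom)) : M = M' := by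
  obtain ⟨U, V, c⟩ := h.cf
  obtain ⟨x, hx, y, hy, rfl⟩ := c.pd g
  have m1 : ∀ z e : G, z * e * z⁻¹ ∈ Y.map (MulAut.conj z).toMonoidHom ↔ e ∈ Y := fun z e =>
    mem_map_iff_mem (f := (MulAut.conj z).toMonoidHom) (MulAut.conj z).injective
  have k1 : ∀ e ∈ ι.range, e ∈ Y ↔ e ∈ Y.map (MulAut.conj (x * y)).toMonoidHom := by
    rintro _ ⟨t, rfl⟩
    rw [h.mem, h'.mem]
  have k2 : ∀ e : G, x * e * x⁻¹ ∈ Y.map (MulAut.conj (x * y)).toMonoidHom ↔ e ∈ Y := fun e => by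
    rw [show x * e * x⁻¹ = x * y * (y⁻¹ * e * y) * (x * y)⁻¹ by group, m1]
    exact ⟨fun k => by simpa [mul_assoc] using mul_mem (mul_mem hy k) (inv_mem hy),
      fun k => mul_mem (mul_mem (inv_mem hy) k) hy⟩
  have k3 : x ∈ Y := by
    refine c.nrm le_rfl c.nb c.ivA hx (mem_normalizer_iff.2 fun e => ⟨fun he => ?_, fun he => ?_⟩)
    · have h1 := mul_mem (mul_mem hx he.1) (inv_mem hx)
      exact ⟨h1, (k1 _ h1).2 ((k2 e).2 he.2)⟩
    · refine ⟨?_, (k2 e).1 ((k1 _ he.1).1 he.2)⟩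
      simpa [mul_assoc] using mul_mem (mul_mem (inv_mem hx) he.1) hx
  have k4 : Y.map (MulAut.conj (x * y)).toMonoidHom = Y := by
    ext e
    have hz := mul_mem k3 hy
    rw [show e = x * y * ((x * y)⁻¹ * e * (x * y)) * (x * y)⁻¹ by group, m1]
    exact ⟨fun k => mul_mem (mul_mem hz k) (inv_mem hz), fun k => by
      simpa [mul_assoc] using mul_mem (mul_mem (inv_mem hz) k) hz⟩
  rw [k4] at h'
  exact h.eq h'

theorem eq_conj₂ (g g' : G) (h : Md X H ι a M (Y.map (MulAut.conj g).toMonoidHom))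
    (h' : Md X H ι a M' (Y.map (MulAut.conj g').toMonoidHom)) : M = M' := by
  refine h.eq_conj (g' * g⁻¹) ?_
  have e : (MulAut.conj (g' * g⁻¹)).toMonoidHom.comp (MulAut.conj g).toMonoidHom = (MulAut.conj g').toMonoidHom :=
    MonoidHom.ext fun z => by
      change g' * g⁻¹ * (g * z * g⁻¹) * (g' * g⁻¹)⁻¹ = g' * z * g'⁻¹
      group
  rwa [Subgroup.map_map, e]

end Md

/-- **Counting by classes of candidates.** -/
theorem cls {O : Set (Subgroup (Perm Ω))} {C : Set (Subgroup G)} (hC : C.Finite)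
    (h : ∀ M ∈ O, ∃ B ∈ C, ∃ g, Md X H ι a M (B.map (MulAut.conj g).toMonoidHom)) : O.ncard ≤ C.ncard :=
  ncard_le_of_col hC (fun M B => ∃ g, Md X H ι a M (B.map (MulAut.conj g).toMonoidHom)) h
    fun _ _ _ _ _ _ ⟨g, k⟩ ⟨g', k'⟩ => Md.eq_conj₂ g g' k k'

/-- **Counting by colours**: candidates of the same colour are conjugate up to an automorphism which centralises `ι T`. -/
theorem cls_col {O : Set (Subgroup (Perm Ω))} {β : Type*} {C : Set β} (hC : C.Finite) (col : Subgroup G → β → Prop)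
    (h : ∀ M ∈ O, ∃ Y, Md X H ι a M Y ∧ ∃ c ∈ C, col Y c)
    (hc : ∀ Y Y' c, Y.index = Y'.index → col Y c → col Y' c →
      ∃ (τ : MulAut G) (g : G), (∀ t, τ (ι t) = ι t) ∧ Y' = (Y.map τ.toMonoidHom).map (MulAut.conj g).toMonoidHom) :
    O.ncard ≤ C.ncard := by
  refine ncard_le_of_col hC (fun M c => ∃ Y, Md X H ι a M Y ∧ col Y c) (fun M hM => ?_) ?_
  · obtain ⟨Y, h1, c, h2, h3⟩ := h M hM
    exact ⟨c, h2, Y, h1, h3⟩
  · rintro M - M' - c - ⟨Y, h1, h2⟩ ⟨Y', h3, h4⟩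
    obtain ⟨τ, g, h5, rfl⟩ := hc Y Y' c (h1.index.trans h3.index.symm) h2 h4
    exact (h1.comp τ h5).eq_conj g h3

/-- **Normalising the model**: all automorphisms of `K = ι T` extend to `G`. -/
theorem md_of_ext {K : Subgroup G} (hι : Function.Injective ι) (hK : ι.range = K)
    (hE : ∀ γ : MulAut K, ∃ β : MulAut G, ∀ x : K, β x = γ x) (u : Up X H T M S) (φ : S ≃* G) (hφ : dn φ T = K) (a : Ω) :
    ∃ β : MulAut G, K.map β.toMonoidHom = K ∧ Md X H ι a M ((dn φ (M ⊓ stabilizer (Perm Ω) a)).map β.toMonoidHom) := by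
  let e₁ : T ≃* K := (MonoidHom.ofInjective hι).trans (MulEquiv.subgroupCongr hK)
  let e₂ : T ≃* K := (MonoidHom.ofInjective (rs_injective u φ)).trans (MulEquiv.subgroupCongr ((range_rs u φ).trans hφ))
  obtain ⟨β, hβ⟩ := hE (e₂.symm.trans e₁)
  refine ⟨β, le_antisymm ?_ fun x hx => ?_, (md_rs u φ a).comp β fun t => ?_⟩
  · rintro _ ⟨x, hx, rfl⟩
    have h1 := hβ ⟨x, hx⟩
    change β x ∈ K
    rw [show β x = _ from h1]
    exact Subtype.property _
  · refine ⟨(e₂ (e₁.symm ⟨x, hx⟩) : K), Subtype.property _, ?_⟩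
    change β _ = x
    rw [hβ, MulEquiv.trans_apply, MulEquiv.symm_apply_apply, MulEquiv.apply_symm_apply]
  · exact (hβ (e₂ t)).trans (congrArg (fun z => ((e₁ z : K) : G)) (e₂.symm_apply_apply t))

end Cfsg.Agent.SM.O8
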