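import Cfsg.Agent.H924.D5L

/-!
# SM (S3570), socle `PΩ⁺₈(q)`, box Min: the spin modules of `Ω⁻₈(q₀)` (helper37)

`U0` is the standard Sylow `p`-subgroup of `Ω⁻₈(q₀)` and `L0 ≅ SL₃(q₀)` the Levi factor of the first two nodes.

* `keep` : in a module of dimension at most `12` which is not the natural one, the points fixed by `U0` are fixed by `L0`;
* `exists_ord` : `L0` contains an element of order `t` for a prime `t ∣ q₀³ - 1`, `t ∤ q₀ - 1`.
-/

set_option autoImplicit false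
set_option linter.unusedSectionVars false

namespace Cfsg.Agent.SM.O8.Mi

open QuadraticMap
open CoxeterSystem Cfsg.Agent.ChevalleyStructure.CoxeterGeom Cfsg.Agent.Tits.Roots
open Cfsg.Agent.LieClassical Cfsg.Agent.LieClassical.OrthCore Cfsg.Agent.LieClassical.OrthTrans
open Cfsg.Agent.LieClassical.OrthForms
open Cfsg.Agent.TitsThree Cfsg.Agent.TitsThree.KSideO
open Cfsg.Agent.Nodes Cfsg.Agent.Nodes.WittInst Cfsg.Agent.TitsThree.Siegel Cfsg.Agent.TitsThree.WittFrame
  Cfsg.Agent.TitsThree.WBridge Cfsg.Agent.Nodes.BNOf Cfsg.Agent.Nodes.RGDLib Cfsg.Agent.Nodes.RGDLift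
open Cfsg.Agent.H915.LD Cfsg.Agent.H905.Md Cfsg.Agent.H925.Nat Cfsg.Agent.H924.D5
open Cfsg Cfsg.Geo
open scoped MatrixGroups Matrix

section frame

variable {K V : Type} [Field K] [AddCommGroup V] [Module K V] {H : HForm K V} (Fr : Frame H (Fin 3))

/-- the vectors of the totally singular 3-space -/
def wv (c : Fin 3 → K) : V := ∑ i, c i • Fr.b (i, true)

theorem wv_add (c d : Fin 3 → K) : wv Fr (c + d) = wv Fr c + wv Fr d := by
  simp only [wv, Pi.add_apply, add_smul, Finset.sum_add_distrib]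

theorem wv_single (i : Fin 3) (s : K) : wv Fr (Pi.single i s) = s • Fr.b (i, true) := by
  rw [wv, Finset.sum_eq_single i, Pi.single_eq_same]
  · intro j _ hj
    rw [Pi.single_eq_of_ne hj, zero_smul]
  · intro h
    exact absurd (Finset.mem_univ i) h

theorem h_wv (c : Fin 3 → K) (j : Fin 3) : H.h (wv Fr c) (Fr.b (j, false)) = c j := by
  rw [wv, Fin.sum_univ_three, H.add_left, H.add_left, H.smul_left, H.smul_left, H.smul_left, Fr.hb, Fr.hb, Fr.hb]
  fin_cases j <;> simp

theorem wv_injective : Function.Injective (wv Fr) := fun c d e => funext fun j => by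
  rw [← h_wv Fr c j, e, h_wv]

theorem X_wv {i j : Fin 3} (h : i ≠ j) (t : K) (c : Fin 3 → K) :
    Fr.X (i, true) (j, false) t (wv Fr c) = wv Fr (c + Pi.single i (c j * t)) := by
  have h1 : ∀ k, Fr.X (i, true) (j, false) t (Fr.b (k, true)) =
      Fr.b (k, true) + (if k = j then t else 0) • Fr.b (i, true) := by
    intro k
    by_cases hk : k = j
    · subst hk
      rw [if_pos rfl]
      exact WittWeyl.X_apply_neg Fr (x := (i, true)) (y := (k, false)) h t
    · rw [if_neg hk, zero_smul, add_zero]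
      refine WittWeyl.X_apply_of_ne Fr (x := (i, true)) (y := (j, false)) h ?_ ?_ t
      · intro e
        exact absurd (congrArg Prod.snd e) (by simp [neg])
      · intro e
        exact hk (congrArg Prod.fst e)
  rw [wv_add, wv_single, wv, map_sum]
  simp only [map_smul, h1, smul_add, Finset.sum_add_distrib, smul_ite, smul_zero, ite_smul, zero_smul,
    Finset.sum_ite_eq', Finset.mem_univ, if_true, mul_smul]

/-- the group generated by the four root groups is transitive on the non-zero vectors -/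
theorem dvd_card [Finite K] [Finite V] {L : Subgroup (V ≃ₗ[K] V)}
    (hL : L = WittRoot.rg Fr (sr 0) ⊔ WittRoot.rg Fr (-sr 0) ⊔ WittRoot.rg Fr (sr 1) ⊔ WittRoot.rg Fr (-sr 1)) :
    Nat.card K ^ 3 - 1 ∣ Nat.card L := by
  have r0 : WittRoot.rg Fr (sr 0) = WittRoot.XG Fr (0, true) (1, false) :=
    (WittRGD.rg_sr (Fr := Fr) 0).trans (WittRoot.PG_ne Fr (by decide))
  have r1 : WittRoot.rg Fr (sr 1) = WittRoot.XG Fr (1, true) (2, false) :=
    (WittRGD.rg_sr (Fr := Fr) 1).trans (WittRoot.PG_ne Fr (by decide))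
  have r2 : WittRoot.rg Fr (-sr 0) = WittRoot.XG Fr (1, true) (0, false) :=
    ((WittRGD.rg_neg_sr (Fr := Fr) 0).trans (WittRoot.PG_ne Fr (by decide))).trans (WittRoot.XG_swap Fr (by decide))
  have r3 : WittRoot.rg Fr (-sr 1) = WittRoot.XG Fr (2, true) (1, false) :=
    ((WittRGD.rg_neg_sr (Fr := Fr) 1).trans (WittRoot.PG_ne Fr (by decide))).trans (WittRoot.XG_swap Fr (by decide))
  rw [r0, r1, r2, r3] at hL
  let S : Set V := wv Fr '' {c | c ≠ 0}
  let Z : Subgroup (V ≃ₗ[K] V) :=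
    { carrier := {g | ∀ v, v ∈ S ↔ g v ∈ S}
      one_mem' := fun v => Iff.rfl
      mul_mem' := fun {g k} hg hk v => (hk v).trans (hg (k v))
      inv_mem' := fun {g} hg v => by
        have h1 := hg (g⁻¹ v)
        rw [show g (g⁻¹ v) = v from g.apply_symm_apply v] at h1
        exact h1.symm }
  have hS : ∀ {i j : Fin 3}, i ≠ j → ∀ t, ∀ v ∈ S, Fr.X (i, true) (j, false) t v ∈ S := by
    rintro i j h t _ ⟨c, hc, rfl⟩
    refine ⟨_, fun e => hc ?_, (X_wv Fr h t c).symm⟩
    have h1 : Fr.X (i, true) (j, false) t (wv Fr c) = Fr.X (i, true) (j, false) t (wv Fr 0) := by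
      rw [X_wv Fr h, e, X_wv Fr h]
      simp
    exact wv_injective Fr ((Fr.X (i, true) (j, false) t).injective h1)
  have hZ : ∀ {i j : Fin 3}, i ≠ j → WittRoot.XG Fr (i, true) (j, false) ≤ Z := by
    rintro i j h _ ⟨t, rfl⟩ v
    refine ⟨hS h t v, fun hv => ?_⟩
    have h1 := hS h (-t) _ hv
    rwa [Fr.X_neg, show (Fr.X (i, true) (j, false) t)⁻¹ (Fr.X (i, true) (j, false) t v) = v from
      LinearEquiv.symm_apply_apply _ v] at h1
  have hLZ : L ≤ Z := by
    rw [hL]
    exact sup_le (sup_le (sup_le (hZ (by decide)) (hZ (by decide))) (hZ (by decide))) (hZ (by decide))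
  have m01 : ∀ t, Fr.X (0, true) (1, false) t ∈ L := fun t =>
    hL ▸ Subgroup.mem_sup_left (Subgroup.mem_sup_left (Subgroup.mem_sup_left ⟨t, rfl⟩))
  have m10 : ∀ t, Fr.X (1, true) (0, false) t ∈ L := fun t =>
    hL ▸ Subgroup.mem_sup_left (Subgroup.mem_sup_left (Subgroup.mem_sup_right ⟨t, rfl⟩))
  have m12 : ∀ t, Fr.X (1, true) (2, false) t ∈ L := fun t =>
    hL ▸ Subgroup.mem_sup_left (Subgroup.mem_sup_right ⟨t, rfl⟩)
  have m21 : ∀ t, Fr.X (2, true) (1, false) t ∈ L := fun t => hL ▸ Subgroup.mem_sup_right ⟨t, rfl⟩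
  let e : V := wv Fr ![1, 0, 0]
  have back : ∀ {g : V ≃ₗ[K] V} (_ : g ∈ L) {v : V}, g v ∈ MulAction.orbit L e → v ∈ MulAction.orbit L e := by
    rintro g hg v ⟨k, hk⟩
    refine ⟨(⟨g, hg⟩ : L)⁻¹ * k, ?_⟩
    have hk' : (k : V ≃ₗ[K] V) e = g v := hk
    change g⁻¹ ((k : V ≃ₗ[K] V) e) = v
    rw [hk']
    exact g.symm_apply_apply v
  have s1 : ∀ y : K, wv Fr ![1, y, 0] ∈ MulAction.orbit L e := fun y => by
    refine back (m10 (-y)) ?_
    rw [X_wv Fr (by decide), show ![1, y, 0] + Pi.single (1 : Fin 3) (![1, y, 0] 0 * -y) = ![1, 0, 0] by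
      funext i
      fin_cases i <;> simp]
    exact MulAction.mem_orbit_self _
  have s2 : ∀ x y z : K, y ≠ 0 → wv Fr ![x, y, z] ∈ MulAction.orbit L e := fun x y z hy => by
    refine back (m01 (y⁻¹ * (1 - x))) (back (m21 (y⁻¹ * -z)) ?_)
    rw [X_wv Fr (by decide), X_wv Fr (by decide)]
    convert s1 y using 2
    funext i
    simp only [Pi.add_apply]
    fin_cases i <;> simp [hy]
  have s3 : MulAction.orbit L e = S := by
    ext v
    constructor
    · rintro ⟨g, rfl⟩
      refine (hLZ g.2 e).1 ⟨_, fun h => ?_, rfl⟩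
      simpa using congrFun h 0
    · rintro ⟨c, hc, rfl⟩
      have ec : c = ![c 0, c 1, c 2] := by
        funext i
        fin_cases i <;> rfl
      by_cases h1 : c 1 = 0
      · by_cases h0 : c 0 = 0
        · have h2 : c 2 ≠ 0 := fun h2 => hc (by
            rw [ec, h0, h1, h2]
            funext i
            fin_cases i <;> rfl)
          refine back (m12 1) ?_
          rw [X_wv Fr (by decide)]
          convert s2 (c 0) (c 2) (c 2) h2 using 2
          funext i
          fin_cases i <;> simp [h1]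
        · refine back (m10 1) ?_
          rw [X_wv Fr (by decide)]
          convert s2 (c 0) (c 0) (c 2) h0 using 2
          funext i
          fin_cases i <;> simp [h1]
      · rw [ec]
        exact s2 _ _ _ h1
  have s4 : S.ncard = Nat.card K ^ 3 - 1 := by
    rw [Set.ncard_image_of_injective _ (wv_injective Fr), show {c : Fin 3 → K | c ≠ 0} = Set.univ \ {0} by
      ext c
      simp, Set.ncard_sdiff_singleton_of_mem (Set.mem_univ _), Set.ncard_univ, Nat.card_fun, Nat.card_eq_fintype_card (α := Fin 3),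
      Fintype.card_fin]
  rw [← s4, ← s3, ← MulAction.index_stabilizer]
  exact Subgroup.index_dvd_card _

end frame

section std

variable {K : Type} [Field K] [Finite K] {a b : K}
  (hab : ∀ z₁ z₂ : K, z₁ ^ 2 + a * z₁ * z₂ + b * z₂ ^ 2 = 0 → z₁ = 0 ∧ z₂ = 0)

/-- the root groups -/
def X0 (x : Fin 3 → ℤ) : Subgroup (E (minusForm 3 K a b)) :=
  (WittRoot.rg (toFrame (wminus 3 K a b hab)) x).subgroupOf _

/-- the Sylow subgroup -/
def U0 : Subgroup (E (minusForm 3 K a b)) :=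
  RGD.Sup (X0 hab) (RGD.Pos (CoxeterMatrix.B 3).toCoxeterSystem (TypeC.isCartan 3))

/-- the Levi factor -/
def L0 : Subgroup (E (minusForm 3 K a b)) := X0 hab (sr 0) ⊔ X0 hab (-sr 0) ⊔ X0 hab (sr 1) ⊔ X0 hab (-sr 1)

/-- the projection -/
noncomputable def f0 : E (minusForm 3 K a b) →* POmega K ⇑(minusForm 3 K a b) := toPOmega (good_minus le_rfl hab)

theorem U0_pgroup (p : ℕ) [Fact p.Prime] [CharP K p] : IsPGroup p (U0 hab) := by
  have hWf : Finite (CoxeterMatrix.B 3).Group := TypeC.finite_W (CoxeterMatrix.B 3).toCoxeterSystem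
  exact (rgdM (ambT_minus (p := p) le_rfl hab) (minus_c_ne 3 hab)).isPGroup_Upos

theorem exists_ord (p : ℕ) [Fact p.Prime] [CharP K p] {t : ℕ} (ht : t.Prime) (h3 : t ∣ Nat.card K ^ 3 - 1)
    (h1 : ¬ t ∣ Nat.card K - 1) : ∃ z ∈ L0 hab, orderOf (f0 hab z) = t := by
  have := Fact.mk ht
  have hfin : Finite ((((Fin 3 ⊕ Fin 3) ⊕ Fin 2) → K) ≃ₗ[K] (((Fin 3 ⊕ Fin 3) ⊕ Fin 2) → K)) :=
    Finite.of_injective (fun g : (((Fin 3 ⊕ Fin 3) ⊕ Fin 2) → K) ≃ₗ[K] (((Fin 3 ⊕ Fin 3) ⊕ Fin 2) → K) =>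
      (g : (((Fin 3 ⊕ Fin 3) ⊕ Fin 2) → K) → (((Fin 3 ⊕ Fin 3) ⊕ Fin 2) → K))) DFunLike.coe_injective
  have hle := (ambT_minus (p := p) le_rfl hab).rg_le
  have h4 := dvd_card (toFrame (wminus 3 K a b hab)) (L := (L0 hab).map (E (minusForm 3 K a b)).subtype) (by
    simp only [L0, X0, Subgroup.map_sup, Subgroup.subgroupOf_map_subtype, inf_eq_left.2 (hle _)])
  rw [Subgroup.card_map_of_injective (E (minusForm 3 K a b)).subtype_injective] at h4
  obtain ⟨z, hz⟩ := exists_prime_orderOf_dvd_card' t (h3.trans h4)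
  rw [← Subgroup.orderOf_coe] at hz
  refine ⟨z, z.2, orderOf_eq_prime (by rw [← map_pow, ← hz, pow_orderOf_eq_one, map_one]) fun h => ?_⟩
  obtain ⟨c, hc⟩ := scalar_of_center (good_minus le_rfl hab) (center_of_toPOmega (good_minus le_rfl hab) h)
  obtain ⟨v, hv⟩ := exists_ne (0 : ((Fin 3 ⊕ Fin 3) ⊕ Fin 2) → K)
  have h5 : ∀ n : ℕ, ((z : E (minusForm 3 K a b)) ^ n).1 v = c ^ n • v := by
    intro n
    induction n with
    | zero => rw [pow_zero, pow_zero, one_smul]; rfl
    | succ n ih =>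
      rw [pow_succ', pow_succ', mul_smul, ← ih]
      exact hc _
  have h6 : c ^ t = 1 := by
    have h7 := h5 t
    rw [← hz, pow_orderOf_eq_one, hz] at h7
    exact smul_left_injective K hv (h7.symm.trans (one_smul K v).symm)
  have h7 : c ≠ 0 := fun h0 => by
    rw [h0, zero_pow ht.ne_zero] at h6
    exact zero_ne_one h6
  have h8 : c ^ (Nat.card K - 1) = 1 := by
    have := Fintype.ofFinite K
    rw [Nat.card_eq_fintype_card]
    exact FiniteField.pow_card_sub_one_eq_one c h7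
  have h9 : c = 1 := by
    rw [← pow_gcd_eq_one.2 ⟨h6, h8⟩, (ht.coprime_iff_not_dvd.2 h1).gcd_eq_one, pow_one]
  have h10 : (z : E (minusForm 3 K a b)) = 1 := Subtype.ext (LinearEquiv.ext fun w => by rw [hc, h9, one_smul]; rfl)
  rw [h10, orderOf_one] at hz
  exact ht.one_lt.ne hz

variable {F : Type} [Field F] [Finite F] {ι : Type} [Fintype ι] [DecidableEq ι] {P : Subgroup (GL ι F)}

/-- **the points fixed by `U0` are fixed by `L0`** -/
theorem keep (p : ℕ) [Fact p.Prime] [CharP F p] [CharP K p] (hC : Core P) (hι : Fintype.card ι ≤ 12)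
    (hne : IsEmpty (K ≃+* F)) (e : Soc P ≃* POmega K ⇑(minusForm 3 K a b)) {v : ι → F}
    (hv : ∀ g : P, (∃ u ∈ U0 hab, prj e g = f0 hab u) → ∃ c : F, ((g : GL ι F) : Matrix ι ι F) *ᵥ v = c • v) :
    ∀ x ∈ L0 hab, ∃ g : P, prj e g = f0 hab x ∧ ((g : GL ι F) : Matrix ι ι F) *ᵥ v = v := by
  obtain ⟨Y, hY1, hY2, C, hC'⟩ := exists_cvMinus (p := p) hC (m := 3) le_rfl hab e
  have hWf : Finite (CoxeterMatrix.B 3).Group := TypeC.finite_W (CoxeterMatrix.B 3).toCoxeterSystem
  have R0 := rgdM (ambT_minus (p := p) le_rfl hab) (minus_c_ne 3 hab)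
  have hne' := hC.nonempty
  have hirr := cov_irr (T := (WittRGD.Tor (toFrame (wminus 3 K a b hab)) (E (minusForm 3 K a b))).subgroupOf _ |>.comap C.f)
    hC C.surj_g C.gen
  obtain ⟨i, hi⟩ := exists_notMem_J hC C.surj_g C.rgd C.gen
  have hV : Module.finrank F (ι → F) ≤ 12 := by rw [Module.finrank_fintype_fun_eq_card]; exact hι
  have hJ : ∀ j, j ≠ 2 → j ∈ C.J := by
    rcases B.cases C.rgd hirr hV hi with hJ | ⟨hJ, -⟩
    · obtain ⟨τ, -⟩ := po_minus_three hC hι hab C (fun j => by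
        have := hJ j
        unfold Cv.J
        tauto)
      exact hne.elim τ
    · intro j hj
      by_contra h
      exact hj ((hJ j).1 h)
  have hD : v ∈ D (CoxeterMatrix.B 3).toCoxeterSystem (TypeC.isCartan 3) (fun x => lft p C.f (X0 hab x))
      (H911.lin ((matP P).comp C.g)) := by
    intro y hy
    obtain ⟨c, hc⟩ := hv (C.g y) ⟨C.f y, map_Sup_lft_le C.f _ (Subgroup.mem_map_of_mem _ hy), hC' y⟩
    rw [← linP_apply] at hc
    by_cases h0 : v = 0
    · rw [h0, map_zero]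
    obtain ⟨k, hk⟩ := C.rgd.isPGroup_Upos ⟨y, hy⟩
    have hk' : y ^ p ^ k = 1 := congrArg Subtype.val hk
    have h5 : ∀ n : ℕ, H911.lin ((matP P).comp C.g) (y ^ n) v = c ^ n • v := by
      intro n
      induction n with
      | zero => rw [pow_zero, pow_zero, one_smul, map_one, Module.End.one_apply]
      | succ n ih => rw [pow_succ', map_mul, Module.End.mul_apply, ih, map_smul, hc, smul_smul, pow_succ]
    have h6 := h5 (p ^ k)
    rw [hk', map_one, Module.End.one_apply] at h6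
    have h7 : c ^ p ^ k = 1 := smul_left_injective F h0 (h6.symm.trans (one_smul F v).symm)
    have h8 : c = 1 := by
      have h9 : (c - 1) ^ p ^ k = 0 := by rw [sub_pow_char_pow, h7, one_pow, sub_self]
      exact sub_eq_zero.1 (eq_zero_of_pow_eq_zero h9)
    rw [hc, h8, one_smul]
  let Z : Subgroup (E (minusForm 3 K a b)) :=
    { carrier := {x | ∃ g : P, prj e g = f0 hab x ∧ ((g : GL ι F) : Matrix ι ι F) *ᵥ v = v}
      one_mem' := ⟨1, by rw [map_one, map_one], Matrix.one_mulVec v⟩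
      mul_mem' := by
        rintro x y ⟨g, hg, hg'⟩ ⟨k, hk, hk'⟩
        refine ⟨g * k, by rw [map_mul, map_mul, hg, hk], ?_⟩
        rw [Subgroup.coe_mul, Units.val_mul, ← Matrix.mulVec_mulVec, hk', hg']
      inv_mem' := by
        rintro x ⟨g, hg, hg'⟩
        refine ⟨g⁻¹, by rw [map_inv, map_inv, hg], ?_⟩
        conv_lhs => rw [← hg']
        rw [Matrix.mulVec_mulVec, ← Units.val_mul, ← Subgroup.coe_mul, inv_mul_cancel]
        exact Matrix.one_mulVec v }
  have key : ∀ x, IsRoot (CoxeterMatrix.B 3).toCoxeterSystem (TypeC.isCartan 3) x →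
      (∀ y ∈ lft p C.f (X0 hab x), H911.lin ((matP P).comp C.g) y v = v) → X0 hab x ≤ Z := by
    intro x hx h u hu
    have h1 : u ∈ (lft p C.f (X0 hab x)).map C.f := (map_lft C.ker C.cop C.surj_f (R0.pgrp' hx)).ge hu
    obtain ⟨y, hy, rfl⟩ := h1
    exact ⟨C.g y, hC' y, (linP_apply y v).symm.trans (h y hy)⟩
  have pos : ∀ i, X0 hab (sr i) ≤ Z := fun i => key _ (isRoot_sr _ _ i) fun y hy =>
    hD y (RGD.le_Sup (X := fun x => lft p C.f (X0 hab x))
      (S := RGD.Pos (CoxeterMatrix.B 3).toCoxeterSystem (TypeC.isCartan 3)) (z := sr i) ⟨isRoot_sr _ _ i, sr_nonneg i⟩ hy)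
  have neg : ∀ i, i ≠ 2 → X0 hab (-sr i) ≤ Z := fun i hi => key _ (isRoot_sr _ _ i).neg fun y hy => hJ i hi y hy v hD
  exact sup_le (sup_le (sup_le (pos 0) (neg 0 (by decide))) (pos 1)) (neg 1 (by decide))

end std

end Cfsg.Agent.SM.O8.Mi
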