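import Cfsg.Agent.SM.O8.Defs
import Cfsg.Agent.H708.Rg.TriJ
import Cfsg.Agent.H708.O8.Sep
import Cfsg.Agent.ClassicalGeometry.WittQuad

/-!
# SM (S3570), socle `PΩ⁺₈(q)`: box TW and the criteria for `SR` (helper30)

* `pre_St`, `pre_tp_NJ` : the preimages of `St W` and `tp (NJ J c)`;
* `boxTW`;
* `SR_of_small`, `SR_of_ts`, `SR_of_J` (also with an automorphism: `SR.of_im`).
-/

set_option autoImplicit false
set_option linter.unusedSectionVars false

namespace Cfsg.Agent.SM.O8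

open Module QuadraticMap Cfsg Cfsg.Geo Cfsg.Agent.LieClassical.OrthCore Cfsg.Agent.LieClassical.OrthTrans
  Cfsg.Agent.LieClassical.OrthSimple Cfsg.Agent.ClassicalGeometry.OrthAut1
  Cfsg.Agent.ClassicalGeometry.OrthSemi Cfsg.Agent.H198.Classes
  Cfsg.Agent.LieClassical.QuadForms
  Cfsg.Agent.ClassicalGeometry.TrialityOct Cfsg.Agent.ClassicalGeometry.Triality
  Cfsg.Agent.H198.TriBase Cfsg.Agent.H198.TriAut
open Cfsg.Agent.H951 (fx cm Inv)
open Cfsg.Agent.H884.El (pre lin PP mem_pre lin_one Iso Iso.mk')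
open Cfsg.Agent.H708.O8 (I8 T8 RB OO pj vl lift_pow pj_surjective mem_pre8)
open Cfsg.Agent.H823.O8S (SW tp Fld NJ mem_SW mem_NJ lin_mul_apply lin_pow)
open Cfsg.Agent.H823.O8R (FixV FixP FixJ)
open Cfsg.Agent.H708.Rg (toPO toPO_mk oe_lin iso_pre tri_J)
open Cfsg.Agent.H198.Carriers (plusQ good_plusQ plusQ_eq)
open Cfsg.Agent.AutOrth.Main (oe pe oe_apply pe_mk)
open scoped MatrixGroups Matrix

namespace TW

section gen

variable {F : Type} [Field F] [Fintype F] {Q : QuadraticForm F (Fin 4 ⊕ Fin 4 → F)}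

/-- the image of a subgroup of `GL` in `PΩ(Q)` -/
def tq (Q : QuadraticForm F (Fin 4 ⊕ Fin 4 → F)) (H : Subgroup (GL I8 F)) : Subgroup (POmega F ⇑Q) :=
  (H.comap ((isometryGroup F ⇑Q).subtype.comp (Omega F ⇑Q).subtype)).map
    (QuotientGroup.mk' (Subgroup.center (Omega F ⇑Q)))

theorem lin_oe (hG : Good Q) (x : Omega F ⇑Q) : lin ((x : isometryGroup F ⇑Q) : GL I8 F) =
    ((oe hG x : (I8 → F) ≃ₗ[F] (I8 → F)) : (I8 → F) →ₗ[F] (I8 → F)) :=
  LinearMap.ext fun v => (oe_lin hG x v).symm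

/-- two elements of `Ω` with the same image differ by a scalar -/
theorem scal (hG : Good Q) {x y : Omega F ⇑Q}
    (h : (QuotientGroup.mk x : POmega F ⇑Q) = QuotientGroup.mk y) :
    ∃ e : F, e ≠ 0 ∧ ∀ v, lin ((y : isometryGroup F ⇑Q) : GL I8 F) v = e • lin ((x : isometryGroup F ⇑Q) : GL I8 F) v := by
  have h1 : ((oe hG x : ↥(E Q)) : P Q) = ((oe hG y : ↥(E Q)) : P Q) := by
    rw [← pe_mk, ← pe_mk, h]
  obtain ⟨e, he⟩ := center_scalar hG (QuotientGroup.eq.1 h1)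
  have h3 : ∀ v, (oe hG y : (I8 → F) ≃ₗ[F] (I8 → F)) v = e • (oe hG x : (I8 → F) ≃ₗ[F] (I8 → F)) v := by
    intro v
    have h4 := congrArg (oe hG x : (I8 → F) ≃ₗ[F] (I8 → F)) (he v)
    rw [map_smul] at h4
    have h5 : (oe hG x : (I8 → F) ≃ₗ[F] (I8 → F)) ((((oe hG x)⁻¹ * oe hG y : ↥(E Q)) : (I8 → F) ≃ₗ[F] (I8 → F)) v) =
        (oe hG y : (I8 → F) ≃ₗ[F] (I8 → F)) v := by
      change ((oe hG x : (I8 → F) ≃ₗ[F] (I8 → F)) * ((oe hG x : (I8 → F) ≃ₗ[F] (I8 → F))⁻¹ *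
        (oe hG y : (I8 → F) ≃ₗ[F] (I8 → F)))) v = _
      rw [mul_inv_cancel_left]
    rw [h5] at h4
    exact h4
  refine ⟨e, ?_, fun v => by rw [← oe_lin hG, ← oe_lin hG, h3]⟩
  rintro rfl
  have h6 := h3 (e8 F)
  rw [zero_smul] at h6
  exact e8_ne ((oe hG y : (I8 → F) ≃ₗ[F] (I8 → F)).map_eq_zero_iff.1 h6)

theorem mk_mem_tq (hG : Good Q) {W : Submodule F (I8 → F)} (x : Omega F ⇑Q) :
    (QuotientGroup.mk x : POmega F ⇑Q) ∈ tq Q (SW W) ↔ ((oe hG x : ↥(E Q)) : P Q) ∈ stab hG W := by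
  constructor
  · rintro ⟨y, hy, hyx⟩
    have h1 : ((oe hG y : ↥(E Q)) : P Q) = ((oe hG x : ↥(E Q)) : P Q) := by
      rw [← pe_mk, ← pe_mk]
      exact congrArg (pe hG) hyx
    rw [← h1, mem_stab, pact_mk, mapHom_apply]
    have h2 : W.map (lin ((y : isometryGroup F ⇑Q) : GL I8 F)) = W := hy
    rwa [lin_oe hG] at h2
  · intro h
    rw [mem_stab, pact_mk, mapHom_apply] at h
    refine ⟨x, ?_, rfl⟩
    change W.map (lin ((x : isometryGroup F ⇑Q) : GL I8 F)) = W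
    rwa [lin_oe hG]

theorem map_tq (hG : Good Q) {W W' : Submodule F (I8 → F)} {α : MulAut (P Q)}
    (h : (stab hG W).map α.toMonoidHom = stab hG W') :
    (tq Q (SW W)).map (toPO hG α).toMonoidHom = tq Q (SW W') := by
  have key : ∀ x y : Omega F ⇑Q, toPO hG α (QuotientGroup.mk x) = QuotientGroup.mk y →
      α ((oe hG x : ↥(E Q)) : P Q) = ((oe hG y : ↥(E Q)) : P Q) := by
    intro x y hxy
    have e2 : (pe hG).symm (α ((pe hG) (QuotientGroup.mk x))) = QuotientGroup.mk y := hxy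
    rw [MulEquiv.symm_apply_eq, pe_mk, pe_mk] at e2
    exact e2
  ext z
  obtain ⟨y, rfl⟩ := QuotientGroup.mk_surjective z
  obtain ⟨x', hx'⟩ := (toPO hG α).surjective (QuotientGroup.mk y)
  obtain ⟨x, rfl⟩ := QuotientGroup.mk_surjective x'
  have h1 := key x y hx'
  rw [mk_mem_tq hG, ← h, ← h1, ← hx']
  constructor
  · rintro ⟨w, hw, hwx⟩
    have h2 : w = QuotientGroup.mk x := (toPO hG α).injective hwx
    rw [h2] at hw
    exact ⟨_, (mk_mem_tq hG x).1 hw, rfl⟩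
  · rintro ⟨w, hw, hwx⟩
    have h2 : w = ((oe hG x : ↥(E Q)) : P Q) := α.injective hwx
    rw [h2] at hw
    exact ⟨_, (mk_mem_tq hG x).2 hw, rfl⟩

theorem psi_stab (hG : Good Q) (M : O Q) (W : Submodule F (I8 → F)) :
    (stab hG W).map (Psi Q (gamO Q M)).toMonoidHom =
      stab hG (W.map ((M : (I8 → F) ≃ₗ[F] (I8 → F)) : (I8 → F) →ₗ[F] (I8 → F))) := by
  have key : ∀ g : ↥(E Q), (g : P Q) ∈ stab hG W ↔ ((conjE Q (gamO Q M) g : ↥(E Q)) : P Q) ∈
      stab hG (W.map ((M : (I8 → F) ≃ₗ[F] (I8 → F)) : (I8 → F) →ₗ[F] (I8 → F))) := by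
    intro g
    have h1 : ∀ v, ((conjE Q (gamO Q M) g : ↥(E Q)) : (I8 → F) ≃ₗ[F] (I8 → F)) ((M : (I8 → F) ≃ₗ[F] (I8 → F)) v) =
        (M : (I8 → F) ≃ₗ[F] (I8 → F)) ((g : (I8 → F) ≃ₗ[F] (I8 → F)) v) := by
      intro v
      have h2 := conjLin_apply' (gamO Q M) (g : (I8 → F) ≃ₗ[F] (I8 → F)) v
      exact h2
    constructor
    · intro h
      refine mem_stab_of_map_le hG ?_
      rintro _ ⟨w, hw, rfl⟩
      exact ⟨_, apply_mem_of_mem_stab h hw, (h1 w).symm⟩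
    · intro h
      refine mem_stab_of_map_le hG fun w hw => ?_
      obtain ⟨w', hw', he⟩ := apply_mem_of_mem_stab h (w := (M : (I8 → F) ≃ₗ[F] (I8 → F)) w) ⟨w, hw, rfl⟩
      rw [h1] at he
      have h3 : w' = (g : (I8 → F) ≃ₗ[F] (I8 → F)) w := (M : (I8 → F) ≃ₗ[F] (I8 → F)).injective he
      rwa [← h3]
  ext z
  obtain ⟨z', rfl⟩ := (Psi Q (gamO Q M)).surjective z
  obtain ⟨g, rfl⟩ := QuotientGroup.mk_surjective z'
  rw [Psi_mk, ← key, ← Psi_mk]
  constructor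
  · rintro ⟨w, hw, hwx⟩
    have h2 : w = (g : P Q) := (Psi Q (gamO Q M)).injective hwx
    rwa [h2] at hw
  · intro h
    exact ⟨_, h, rfl⟩

theorem tw_gen (hQ : Q = plusForm 4 F) (hG : Good Q) {W : Submodule F (I8 → F)} (h4 : finrank F W = 4)
    (hW : ∀ w ∈ W, Q w = 0) : ∃ (α : MulAut (POmega F ⇑Q)) (u : I8 → F), u ≠ 0 ∧ Q u = 0 ∧
      (tq Q (SW W)).map α.toMonoidHom = tq Q (SW (Submodule.span F {u})) := by
  subst hQ
  have hdim : finrank F W = finrank F (xO (e8 F)) :=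
    h4.trans (ClassicalGeometry.TrialitySpaces.finrank_leftSp norm_e8 (e8_ne (F := F))).symm
  let φ : W ≃ₗ[F] xO (e8 F) := LinearEquiv.ofFinrankEq _ _ hdim
  obtain ⟨g, hg, hgx⟩ := Cfsg.Agent.ClassicalGeometry.WittQuad.extend (plusForm 4 F)
    ClassicalGeometry.TrialitySpaces.polarBilin_nondegenerate W (xO (e8 F)) φ (fun x => by
      rw [hW _ x.2, ClassicalGeometry.TrialitySpaces.leftSp_sing norm_e8 _ (φ x).2])
  have h1 : W.map (g : (I8 → F) →ₗ[F] (I8 → F)) = xO (e8 F) := by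
    refine Submodule.eq_of_le_of_finrank_eq ?_ ((LinearEquiv.finrank_map_eq g W).trans hdim)
    rintro _ ⟨x, hx, rfl⟩
    change g x ∈ _
    have := hgx ⟨x, hx⟩
    rw [this]
    exact (φ ⟨x, hx⟩).2
  have h2 := psi_stab hG ⟨g, hg⟩ W
  have h3 : (stab hG W).map (tau hG * Psi _ (gamO _ ⟨g, hg⟩)).toMonoidHom = stab hG (Submodule.span F {e8 F}) := by
    rw [← tau_stab_xO hG norm_e8 e8_ne, ← h1]
    change _ = (stab hG (W.map (((⟨g, hg⟩ : O (plusForm 4 F)) : (I8 → F) ≃ₗ[F] (I8 → F)) :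
      (I8 → F) →ₗ[F] (I8 → F)))).map _
    rw [← h2, Subgroup.map_map]
    rfl
  exact ⟨_, e8 F, e8_ne, norm_e8, map_tq hG h3⟩

end gen

end TW

variable {F : Type} [Field F] [Fintype F] {r : ℕ} {R : Subgroup (T8 F)}

/-- two elements of `Ω` with the same image differ by a scalar -/
theorem pj_scal {x y : OO F} (h : pj F x = pj F y) : ∃ e : F, e ≠ 0 ∧ ∀ v, lin (vl F y) v = e • lin (vl F x) v :=
  TW.scal (Q := plusQ 4 F) (good_plusQ (m := 4) (by norm_num)) h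

theorem exists_vl_pre {g : GL I8 F} (hg : g ∈ pre (quadFormPlus 4 F) R) : ∃ x : OO F, vl F x = g ∧ pj F x ∈ R := by
  obtain ⟨_, ⟨x, hx, rfl⟩, rfl⟩ := hg
  exact ⟨x, rfl, hx⟩

/-- the preimage of the stabiliser stabilises -/
theorem pre_St (W : Submodule F (I8 → F)) : pre (quadFormPlus 4 F) (St W) ≤ SW W := by
  intro g hg
  obtain ⟨x, rfl, y, hy, hyx⟩ := exists_vl_pre hg
  obtain ⟨e, he, h⟩ := pj_scal (x := y) (y := x) hyx
  have h1 : W.map (lin (vl F y)) = W := hy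
  have h2 : lin (vl F x) = e • lin (vl F y) := LinearMap.ext h
  rw [mem_SW, h2, Submodule.map_smul _ _ _ he, h1]

theorem pj_mem_St {W : Submodule F (I8 → F)} {x : OO F} : pj F x ∈ St W ↔ vl F x ∈ SW W :=
  ⟨fun h => pre_St W (mem_pre8.2 h), fun h => ⟨x, h, rfl⟩⟩

theorem le_St {W : Submodule F (I8 → F)} : R ≤ St W ↔ pre (quadFormPlus 4 F) R ≤ SW W := by
  refine ⟨fun h g hg => ?_, H823.O8S.le_tp⟩
  obtain ⟨x, rfl, hx⟩ := exists_vl_pre hg
  exact pj_mem_St.1 (h hx)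

theorem pre_tp_NJ (J : Module.End F (I8 → F)) (c : F) : pre (quadFormPlus 4 F) (tp (NJ J c)) ≤ NJ J c := by
  intro g hg
  obtain ⟨x, rfl, y, hy, hyx⟩ := exists_vl_pre hg
  obtain ⟨e, -, h⟩ := pj_scal (x := y) (y := x) hyx
  have h1 : vl F y ∈ NJ J c := hy
  rcases h1 with h1 | h1
  · exact Or.inl fun v => by rw [h, h, h1, map_smul]
  · exact Or.inr fun v => by rw [h, h, h1, map_smul, smul_sub, smul_comm]

/-- **box TW** -/
theorem boxTW : BoxTW := fun F _ _ _ h4 hW =>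
  TW.tw_gen (Q := plusQ 4 F) (plusQ_eq 4 F) (good_plusQ (m := 4) (by norm_num)) h4 hW

/-- the elements of order `r` in the three modules -/
theorem pre_im_tp (hr : Odd r) {H : Subgroup (GL I8 F)} (h : ∀ g ∈ pre (quadFormPlus 4 F) R, g ^ r = 1 → g ∈ H)
    (α : MulAut (T8 F)) {g : GL I8 F} (hg : g ∈ pre (quadFormPlus 4 F) (im α R)) (hgr : g ^ r = 1) :
    g ∈ pre (quadFormPlus 4 F) (im α (tp H)) := by
  obtain ⟨x, rfl, z, hz, hzx⟩ := exists_vl_pre hg
  obtain ⟨y, rfl⟩ := pj_surjective z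
  have hzx' : α (pj F y) = pj F x := hzx
  have h1 : x ^ r = 1 := H708.O8.vl_injective (by rw [map_pow, hgr, map_one])
  have h2 : pj F y ^ r = 1 := α.injective (by rw [map_pow, hzx', ← map_pow, h1, map_one, map_one])
  obtain ⟨h3, h4⟩ := lift_pow hr h2
  have h5 : vl F (y ^ (r + 1)) ∈ H :=
    h _ (mem_pre8.2 (by rw [h4]; exact hz)) (by rw [← map_pow, h3, map_one])
  exact mem_pre8.2 ⟨pj F (y ^ (r + 1)), ⟨_, h5, rfl⟩, by rw [h4]; exact hzx⟩

/-- small invariant subspaces are fixed by the elements of order `r` -/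
theorem le_Fx (hr : PP (Nat.card F) 4 r) {W : Submodule F (I8 → F)} (h3 : finrank F W ≤ 3)
    (h : ∀ g ∈ pre (quadFormPlus 4 F) R, g ^ r = 1 → g ∈ SW W) : W ≤ Fx r R := by
  refine le_iInf fun g => ?_
  have hiso : Iso (plusForm 4 F) (lin g.1) r :=
    Iso.mk' hr (by norm_num) (by rw [← lin_pow, g.2.2, lin_one]) (iso_pre g.2.1)
  have h1 : W.map (lin g.1) = W := h g.1 g.2.1 g.2.2
  have h2 : Inv (lin g.1) W := fun w hw => by
    rw [← h1]
    exact ⟨w, hw, rfl⟩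
  exact hiso.le_fx hr h2 (Nat.lt_succ_of_le h3)

/-- an invariant subspace of dimension at most three in one of the modules -/
theorem SR_of_small (hr : PP (Nat.card F) 4 r) {α : MulAut (T8 F)} {W : Submodule F (I8 → F)} (h0 : W ≠ ⊥)
    (h3 : finrank F W ≤ 3) (h : ∀ g ∈ pre (quadFormPlus 4 F) (im α R), g ^ r = 1 → g ∈ SW W) : SR r R :=
  ⟨α, fun hb => h0 (le_bot_iff.1 (hb ▸ le_Fx hr h3 h))⟩

theorem im_one (R : Subgroup (T8 F)) : im 1 R = R := Subgroup.map_id R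

theorem im_mul (α β : MulAut (T8 F)) (R : Subgroup (T8 F)) : im (α * β) R = im α (im β R) :=
  (Subgroup.map_map R α.toMonoidHom β.toMonoidHom).symm

theorem SR.of_im {α : MulAut (T8 F)} (h : SR r (im α R)) : SR r R := by
  obtain ⟨β, hβ⟩ := h
  exact ⟨β * α, by rwa [im_mul]⟩

theorem SR.im (h : SR r R) (α : MulAut (T8 F)) : SR r (im α R) := by
  obtain ⟨β, hβ⟩ := h
  exact ⟨β * α⁻¹, by rwa [← im_mul, inv_mul_cancel_right]⟩

/-- an invariant subspace of dimension at most three in the natural module -/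
theorem SR_of_small' (hr : PP (Nat.card F) 4 r) {W : Submodule F (I8 → F)} (h0 : W ≠ ⊥)
    (h3 : finrank F W ≤ 3) (h : ∀ g ∈ pre (quadFormPlus 4 F) R, g ^ r = 1 → g ∈ SW W) : SR r R :=
  SR_of_small hr (α := 1) h0 h3 (by rwa [im_one])

/-- an invariant totally singular 4-space -/
theorem SR_of_ts (hr : PP (Nat.card F) 4 r) {W : Submodule F (I8 → F)} (h4 : finrank F W = 4)
    (hW : ∀ w ∈ W, quadFormPlus 4 F w = 0) (h : ∀ g ∈ pre (quadFormPlus 4 F) R, g ^ r = 1 → g ∈ SW W) : SR r R := by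
  obtain ⟨α, u, hu0, -, hα⟩ := boxTW F W h4 hW
  refine SR_of_small hr (α := α) (W := Submodule.span F {u}) (by rwa [Ne, Submodule.span_singleton_eq_bot])
    (by rw [finrank_span_singleton hu0]; norm_num) fun g hg hgr => pre_St _ ?_
  have h1 : g ∈ pre (quadFormPlus 4 F) (im α (St W)) := pre_im_tp (hr.odd (by norm_num)) h α hg hgr
  rwa [hα] at h1

/-- the elements of order `r` normalise a field `F[J]` of similitudes -/
theorem SR_of_NJ (hr : PP (Nat.card F) 4 r) {J : Module.End F (I8 → F)} {c d : F} (hJ : Fld J c d)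
    (h : ∀ g ∈ pre (quadFormPlus 4 F) R, g ^ r = 1 → g ∈ NJ J c) : SR r R := by
  obtain ⟨α, W, h2, -, hW⟩ := tri_J (p := Nat.card F) (a := 1) (R := tp (NJ J c)) (pow_one _).symm
    ⟨J, c, d, hJ, pre_tp_NJ J c⟩
  refine SR_of_small hr (α := α) (W := W) ?_ (by omega) fun g hg hgr =>
    hW (pre_im_tp (hr.odd (by norm_num)) h α hg hgr)
  rintro rfl
  rw [finrank_bot] at h2
  omega

/-- the elements of order `r` commute with a field `F[J]` of similitudes -/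
theorem SR_of_J (hr : PP (Nat.card F) 4 r) {J : Module.End F (I8 → F)} {c d : F} (hJ : Fld J c d)
    (h : ∀ g ∈ pre (quadFormPlus 4 F) R, g ^ r = 1 → ∀ v, lin g (J v) = J (lin g v)) : SR r R :=
  SR_of_NJ hr hJ fun g hg hgr => Or.inl (h g hg hgr)

theorem SR_of_fixV (hr : PP (Nat.card F) 4 r) {α : MulAut (T8 F)} (h : FixV (im α R)) : SR r R := by
  obtain ⟨w, hw, hle⟩ := h
  have hw0 : w ≠ 0 := by
    rintro rfl
    exact hw (by rw [← coe_plusForm 4]; exact QuadraticMap.map_zero _)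
  exact SR_of_small hr (α := α) (W := Submodule.span F {w}) (by rwa [Ne, Submodule.span_singleton_eq_bot])
    (by rw [finrank_span_singleton hw0]; norm_num) fun g hg _ => hle hg

theorem SR_of_fixP (hr : PP (Nat.card F) 4 r) {α : MulAut (T8 F)} (h : FixP (im α R)) : SR r R := by
  obtain ⟨W, h2, -, hle⟩ := h
  refine SR_of_small hr (α := α) (W := W) ?_ (by omega) fun g hg _ => hle hg
  rintro rfl
  rw [finrank_bot] at h2
  omega

theorem SR_of_fixJ (hr : PP (Nat.card F) 4 r) (h : FixJ R) : SR r R := by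
  obtain ⟨J, c, d, hJ, hle⟩ := h
  exact SR_of_NJ hr hJ fun g hg _ => hle hg

end Cfsg.Agent.SM.O8
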